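import Groth.Agent.SGA10.Purity
import Groth.Agent.SGA11.CI
import Groth.Agent.Pi1Ext.PureDescent
import Groth.Agent.Pi1Ext.RegPurity

/-!
# Complete intersections of dimension at least three are pure
-/

set_option autoImplicit false
set_option linter.style.haveILetI false
universe u

open CategoryTheory CategoryTheory.Limits AlgebraicGeometry IsLocalRing

noncomputable section

namespace Groth.Agent.SGA10

open Groth.Agent.Pi1Ext Groth.Agent.Pi1Ext.PuritySch Spread

set_option backward.isDefEq.respectTransparency false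
set_option backward.isDefEq.respectTransparency.types false

/-- Purity descends along flat local maps with trivial closed fibre. -/
theorem purityHolds_of_flat {A C : Type u} [CommRing A] [IsLocalRing A] [IsNoetherianRing A] [CommRing C]
    [IsLocalRing C] (φ : A →+* C) (hflat : φ.Flat) (hmax : (maximalIdeal A).map φ = maximalIdeal C)
    (hA : (2 : ℕ∞) ≤ LocCoh.depth A A) (h : FEt.PurityHolds C) : FEt.PurityHolds A := by
  letI := φ.toAlgebra
  haveI : Module.Flat A C := hflat
  haveI : IsLocalHom (algebraMap A C) := ((IsLocalRing.local_hom_TFAE φ).out 0 2).mpr hmax.le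
  haveI : (FEt.restrict (FEt.puncturedSpec C).ι).EssSurj := h
  refine ⟨fun W => ?_⟩
  let q₁ := pullback.fst (FEt.puncturedSpec A).ι (sp A C)
  let q₂ := pullback.snd (FEt.puncturedSpec A).ι (sp A C)
  have he : Set.range q₂.base = Set.range (FEt.puncturedSpec C).ι.base := by
    rw [Scheme.Pullback.range_snd, Scheme.Opens.range_ι, Scheme.Opens.range_ι]
    ext P
    refine not_congr ⟨fun hP => ?_, fun hP => ?_⟩
    · refine PrimeSpectrum.ext (le_antisymm (le_maximalIdeal P.2.ne_top) ?_)
      show maximalIdeal C ≤ P.asIdeal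
      rw [← hmax, Ideal.map_le_iff_le_comap]
      exact (congrArg PrimeSpectrum.asIdeal (hP : PrimeSpectrum.comap φ P = IsLocalRing.closedPoint A)).ge
    · rw [show P = IsLocalRing.closedPoint C from hP]
      exact PrimeSpectrum.ext (((IsLocalRing.local_hom_TFAE φ).out 0 4).mp ‹_›)
  let θ := IsOpenImmersion.isoOfRangeEq q₂ (FEt.puncturedSpec C).ι he
  have hθ : θ.hom ≫ (FEt.puncturedSpec C).ι = q₂ := IsOpenImmersion.isoOfRangeEq_hom_fac _ _ he
  let W' := (FEt.restrict θ.inv).obj ((FEt.restrict q₁).obj W)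
  let D := (FEt.restrict (FEt.puncturedSpec C).ι).objPreimage W'
  obtain ⟨E, hE⟩ := PureDescent.exists_local A hA C W D
    (restrictComp θ.hom (FEt.puncturedSpec C).ι q₂ hθ.symm D ≪≫
      (FEt.restrict θ.hom).mapIso ((FEt.restrict (FEt.puncturedSpec C).ι).objObjPreimageIso W') ≪≫
      (restrictComp θ.hom θ.inv (𝟙 _) θ.hom_inv_id.symm _).symm ≪≫ restrictId _)
  exact ⟨E, hE⟩

/-- A local domain in which every nonzero prime contains a fixed nonunit has dimension at most one. -/
theorem dim_quot_le_one {A : Type u} [CommRing A] [IsLocalRing A] [IsNoetherianRing A] (p : Ideal A) [p.IsPrime]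
    (t : A) (ht : t ∈ maximalIdeal A) (htp : t ∉ p) (h : ∀ Q : Ideal A, Q.IsPrime → p < Q → t ∈ Q) :
    ringKrullDim (A ⧸ p) ≤ 1 := by
  let π := Ideal.Quotient.mk p
  haveI : IsLocalRing (A ⧸ p) := .of_surjective' π Ideal.Quotient.mk_surjective
  rw [← IsLocalRing.maximalIdeal_height_eq_ringKrullDim]
  refine WithBot.coe_le_coe.2 (le_of_not_gt fun hh => ?_)
  -- the primes of height one all contain the image of `t`
  let F := (Ideal.span {π t}).minimalPrimes
  have hF : F.Finite := Ideal.finite_minimalPrimes_of_isNoetherianRing _ _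
  have hnot : ¬ ((maximalIdeal (A ⧸ p) : Set (A ⧸ p)) ⊆ ⋃ Q ∈ F, (Q : Set (A ⧸ p))) := by
    intro hsub
    obtain ⟨Q, hQ, hle⟩ := (Ideal.subset_union_prime_finite hF ⊥ ⊥ (fun Q hQ _ _ => hQ.1.1)).1 hsub
    haveI := hQ.1.1
    have hQh := Ideal.height_le_one_of_isPrincipal_of_mem_minimalPrimes _ _ hQ
    exact absurd (lt_of_lt_of_le hh ((Ideal.height_mono hle).trans hQh)) (lt_irrefl _)
  obtain ⟨g, hg, hgF⟩ := Set.not_subset.1 hnot
  obtain ⟨Q, hQ, -⟩ := Ideal.exists_minimalPrimes_le ((Ideal.span_singleton_le_iff_mem _).2 hg)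
  haveI := hQ.1.1
  have hQh := Ideal.height_le_one_of_isPrincipal_of_mem_minimalPrimes _ _ hQ
  have htπ : π t ≠ 0 := fun h0 => htp (Ideal.Quotient.eq_zero_iff_mem.1 h0)
  have hgQ : g ∈ Q := hQ.1.2 (Ideal.mem_span_singleton_self g)
  have hQ0 : Q ≠ ⊥ := fun h0 => by
    rw [h0, Ideal.mem_bot] at hgQ
    obtain ⟨F0, hF0, -⟩ := Ideal.exists_minimalPrimes_le (J := maximalIdeal (A ⧸ p))
      ((Ideal.span_singleton_le_iff_mem _).2 (show π t ∈ maximalIdeal (A ⧸ p) from
        (IsLocalRing.map_maximalIdeal_of_surjective π Ideal.Quotient.mk_surjective).le (Ideal.mem_map_of_mem π ht)))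
    exact hgF (Set.mem_biUnion hF0 (hgQ ▸ zero_mem F0))
  have htQ : π t ∈ Q := h (Q.comap π) (Ideal.comap_isPrime _ _) (lt_of_le_of_ne
    (fun x hx => by rw [Ideal.mem_comap, Ideal.Quotient.eq_zero_iff_mem.2 hx]; exact zero_mem _) (fun he => hQ0 (by
      rw [← Ideal.map_comap_of_surjective π Ideal.Quotient.mk_surjective Q, ← he, Ideal.map_quotient_self])))
  obtain ⟨F0, hF0, hF0Q⟩ := Ideal.exists_minimalPrimes_le ((Ideal.span_singleton_le_iff_mem _).2 htQ)
  haveI := hF0.1.1
  have hne : F0 ≠ Q := fun he => hgF (Set.mem_biUnion hF0 (he ▸ hgQ))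
  have h01 : (⊥ : Ideal (A ⧸ p)) < F0 :=
    bot_lt_iff_ne_bot.2 fun h0 => htπ (by have := hF0.1.2 (Ideal.mem_span_singleton_self (π t)); rwa [h0, Ideal.mem_bot] at this)
  have h1 := Ideal.height_strict_mono_of_isPrime_of_isPrime (lt_of_le_of_ne hF0Q hne)
  have h0 := Ideal.height_strict_mono_of_isPrime_of_isPrime h01
  exact absurd (h1.trans_le hQh) (not_lt.2 (ENat.one_le_iff_ne_zero.2 (ne_bot_of_gt h0)))

/-- The statement for regular sequences of a given length. -/
def CIPure (r : ℕ) : Prop :=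
  ∀ (R : Type u) [CommRing R] [IsRegularLocalRing R] (rs : List R), rs.length = r →
    (∀ x ∈ rs, x ∈ maximalIdeal R) → RingTheory.Sequence.IsWeaklyRegular R rs →
    ∀ [IsLocalRing (R ⧸ Ideal.ofList rs)], (3 : WithBot ℕ∞) ≤ ringKrullDim (R ⧸ Ideal.ofList rs) →
    FEt.PurityHolds (R ⧸ Ideal.ofList rs)

theorem coe_le_dim {A : Type u} [CommRing A] [IsLocalRing A] [IsNoetherianRing A] {n : ℕ}
    (h : (n : ℕ∞) ≤ LocCoh.depth A A) : (n : WithBot ℕ∞) ≤ ringKrullDim A :=
  le_trans (by exact_mod_cast (WithBot.coe_le_coe.2 h)) RelCodim6.depth_le_dim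

theorem finite_H_of_depth {B : Type u} [CommRing B] [IsLocalRing B] [IsNoetherianRing B] (J : Ideal B)
    [IsLocalRing (B ⧸ J)] (hd : (3 : ℕ∞) ≤ LocCoh.depth (B ⧸ J) (B ⧸ J)) (i : ℕ) (hi : i < 3) :
    Module.Finite B (LocCoh.H (maximalIdeal B) i (B ⧸ J)) := by
  rw [← Groth.Agent.S7137.depth_eq_of_surjective (R := B) (S := B ⧸ J) Ideal.Quotient.mk_surjective] at hd
  haveI := (LC.le_idealDepth_iff_H (maximalIdeal B) (B ⧸ J) 3).1 hd i hi
  infer_instance

theorem pure_ci_step (r : ℕ) (ih : CIPure.{u} r) (R : Type u) [CommRing R] [IsRegularLocalRing R]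
    (S : Type u) [CommRing S] [IsRegularLocalRing S] [Algebra R S] [Module.Flat R S]
    [IsLocalHom (algebraMap R S)] [IsAdicComplete (maximalIdeal S) S]
    (hmax : (maximalIdeal R).map (algebraMap R S) = maximalIdeal S)
    (rs' : List R) (x : R) (hlen' : rs'.length = r) (hmem : ∀ y ∈ rs' ++ [x], y ∈ maximalIdeal R)
    (hreg : RingTheory.Sequence.IsWeaklyRegular R (rs' ++ [x]))
    [IsLocalRing (R ⧸ Ideal.ofList (rs' ++ [x]))]
    (hdim : (3 : WithBot ℕ∞) ≤ ringKrullDim (R ⧸ Ideal.ofList (rs' ++ [x]))) :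
    FEt.PurityHolds (R ⧸ Ideal.ofList (rs' ++ [x])) := by
  let ι := algebraMap R S
  have hmem' : ∀ y ∈ (rs' ++ [x]).map ι, y ∈ maximalIdeal S := fun y hy => by
    obtain ⟨z, hz, rfl⟩ := List.mem_map.1 hy
    exact hmax.le (Ideal.mem_map_of_mem _ (hmem z hz))
  have hreg' : RingTheory.Sequence.IsWeaklyRegular S ((rs' ++ [x]).map ι) := hreg.of_flat
  have hmem'' : ∀ y ∈ rs'.map ι, y ∈ maximalIdeal S := fun y hy => hmem' y (by simp_all [List.map_append])
  rw [List.map_append, List.map_singleton, RingTheory.Sequence.isWeaklyRegular_append_iff'] at hreg'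
  let I : Ideal S := Ideal.ofList (rs'.map ι)
  have hI : I ≤ maximalIdeal S := Ideal.span_le.2 fun y hy => hmem'' y hy
  haveI : Nontrivial (S ⧸ I) :=
    Ideal.Quotient.nontrivial_iff.2 fun e => (maximalIdeal.isMaximal S).ne_top (top_le_iff.1 (e ▸ hI))
  haveI : IsLocalRing (S ⧸ I) := .of_surjective' (Ideal.Quotient.mk I) Ideal.Quotient.mk_surjective
  haveI : IsAdicComplete (maximalIdeal (S ⧸ I)) (S ⧸ I) := CILib.isAdicComplete_quotient I
  let t : S ⧸ I := Ideal.Quotient.mk I (ι x)
  have ht : t ∈ maximalIdeal (S ⧸ I) := by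
    rw [← IsLocalRing.map_maximalIdeal_of_surjective (Ideal.Quotient.mk I) Ideal.Quotient.mk_surjective]
    exact Ideal.mem_map_of_mem _ (hmem' _ (by simp [ι]))
  haveI : IsAdicComplete (Ideal.span {t}) (S ⧸ I) :=
    Groth.Agent.S0546.result (S ⧸ I) _ _ ((Ideal.span_singleton_le_iff_mem _).2 ht)
      (Submodule.fg_span_singleton t) (S ⧸ I)
  have hregt : IsSMulRegular (S ⧸ I) t := by
    have h1 := ((RingTheory.Sequence.isWeaklyRegular_cons_iff _ _ _).1 hreg'.2).1
    intro a b hab
    obtain ⟨a, rfl⟩ := Ideal.Quotient.mk_surjective a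
    obtain ⟨b, rfl⟩ := Ideal.Quotient.mk_surjective b
    have h2 := @h1 (Submodule.Quotient.mk a) (Submodule.Quotient.mk b) ?_
    · rw [Submodule.Quotient.eq] at h2
      rw [Ideal.Quotient.eq]
      simpa [smul_eq_mul] using h2
    · simp only [smul_eq_mul, t, ← map_mul, Ideal.Quotient.eq] at hab
      refine (Submodule.Quotient.eq _).2 ?_
      simpa [smul_eq_mul, mul_sub, I] using hab
  haveI : IsLocalRing ((S ⧸ I) ⧸ Ideal.span {t}) := by
    haveI : Nontrivial ((S ⧸ I) ⧸ Ideal.span {t}) := Ideal.Quotient.nontrivial_iff.2 fun h =>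
      (maximalIdeal.isMaximal (S ⧸ I)).ne_top (top_le_iff.1 (h.ge.trans ((Ideal.span_singleton_le_iff_mem _).2 ht)))
    exact .of_surjective' (Ideal.Quotient.mk _) Ideal.Quotient.mk_surjective
  have hsup : I ⊔ Ideal.span {ι x} = (Ideal.ofList (rs' ++ [x])).map ι := by
    rw [Ideal.map_ofList, List.map_append, List.map_singleton, Ideal.ofList_append, Ideal.ofList_singleton]
  have hspan : Ideal.span {t} = (Ideal.span {ι x}).map (Ideal.Quotient.mk I) := by
    rw [Ideal.map_span, Set.image_singleton]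
  let e : (S ⧸ I) ⧸ Ideal.span {t} ≃+* S ⧸ (Ideal.ofList (rs' ++ [x])).map ι :=
    ((Ideal.quotEquivOfEq hspan).trans (DoubleQuot.quotQuotEquivQuotSup I (Ideal.span {ι x}))).trans
      (Ideal.quotEquivOfEq hsup)
  let τ : R ⧸ Ideal.ofList (rs' ++ [x]) →+* (S ⧸ I) ⧸ Ideal.span {t} :=
    e.symm.toRingHom.comp (Ideal.quotientMap _ ι Ideal.le_comap_map)
  have hτflat : τ.Flat := RingHom.Flat.comp
    ((RamSam24.flat_quot_iff_quotientMap (C := S) _).1 ((NFlat6.flat_quot_iff _ S).mpr inferInstance))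
    (RingHom.Flat.of_bijective e.symm.bijective)
  have hτmk : τ.comp (Ideal.Quotient.mk _) = ((Ideal.Quotient.mk _).comp (Ideal.Quotient.mk I)).comp ι := by
    refine RingHom.ext fun a => e.injective ?_
    simp [τ]
    rfl
  have hτmax : (maximalIdeal (R ⧸ Ideal.ofList (rs' ++ [x]))).map τ = maximalIdeal _ := by
    rw [← IsLocalRing.map_maximalIdeal_of_surjective (Ideal.Quotient.mk (Ideal.ofList (rs' ++ [x])))
      Ideal.Quotient.mk_surjective, Ideal.map_map, hτmk, ← Ideal.map_map, hmax, ← Ideal.map_map,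
      IsLocalRing.map_maximalIdeal_of_surjective (Ideal.Quotient.mk I) Ideal.Quotient.mk_surjective,
      IsLocalRing.map_maximalIdeal_of_surjective _ Ideal.Quotient.mk_surjective]
  haveI : IsLocalHom τ := ((IsLocalRing.local_hom_TFAE τ).out 0 2).mpr hτmax.le
  have hd3 : (3 : ℕ∞) ≤ LocCoh.depth (R ⧸ Ideal.ofList (rs' ++ [x])) (R ⧸ Ideal.ofList (rs' ++ [x])) :=
    SGA11.le_depth_ofList hreg hmem (n := 3) (by exact_mod_cast hdim)
  have hdC : (3 : ℕ∞) ≤ LocCoh.depth ((S ⧸ I) ⧸ Ideal.span {t}) ((S ⧸ I) ⧸ Ideal.span {t}) :=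
    le_trans hd3 (RamSam24.depth_le_of_flat τ hτflat inferInstance)
  have hdB : (4 : ℕ∞) ≤ LocCoh.depth (S ⧸ I) (S ⧸ I) := (PicU24.depth_quotient_succ ht hregt 3).1 hdC
  have hp : ∀ P : Ideal (Localization.Away t), ∀ _ : P.IsMaximal, FEt.PurityHolds (Localization.AtPrime P) := by
    intro P hP
    let Bt := Localization.Away t
    let q : Ideal (S ⧸ I) := P.comap (algebraMap (S ⧸ I) Bt)
    haveI : q.IsPrime := Ideal.comap_isPrime _ _
    have hq1 : ringKrullDim ((S ⧸ I) ⧸ q) ≤ 1 := dim_quot_le_one q t ht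
      (fun h => hP.ne_top (Ideal.eq_top_of_isUnit_mem _ h (IsLocalization.Away.algebraMap_isUnit t))) fun Q hQ hlt => by
      by_contra htQ
      have hdisj : Disjoint (Submonoid.powers t : Set (S ⧸ I)) Q := by
        rw [Set.disjoint_left]
        rintro _ ⟨n, rfl⟩ hn
        exact htQ (hQ.mem_of_pow_mem n hn)
      haveI := IsLocalization.isPrime_of_isPrime_disjoint (Submonoid.powers t) Bt Q hQ hdisj
      have h2 : P ≤ Q.map (algebraMap (S ⧸ I) Bt) := by
        rw [← IsLocalization.map_comap (Submonoid.powers t) Bt P]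
        exact Ideal.map_mono hlt.le
      have h3 := hP.eq_of_le (Ideal.IsPrime.ne_top inferInstance) h2
      refine hlt.ne ?_
      rw [show q = P.comap (algebraMap (S ⧸ I) Bt) from rfl, h3]
      exact IsLocalization.under_map_of_isPrime_disjoint (Submonoid.powers t) Bt hQ hdisj
    let Q := q.comap (Ideal.Quotient.mk I)
    have hIQ : I ≤ Q := fun y hy => by
      show Ideal.Quotient.mk I y ∈ q
      rw [Ideal.Quotient.eq_zero_iff_mem.2 hy]; exact zero_mem _
    haveI := RegLoc6.isRegularLocalRing_localization S Q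
    haveI : IsNoetherianRing (Localization.AtPrime q) :=
      IsLocalization.isNoetherianRing q.primeCompl _ inferInstance
    obtain ⟨ψ⟩ := RegLoc6.exists_quotLocalEquiv I Q q rfl
    let j := algebraMap S (Localization.AtPrime Q)
    have hmapI : I.map j = Ideal.ofList ((rs'.map ι).map j) := Ideal.map_ofList j _
    let e₁ : Localization.AtPrime Q ⧸ Ideal.ofList ((rs'.map ι).map j) ≃+* Localization.AtPrime q :=
      (Ideal.quotEquivOfEq hmapI.symm).trans ψ
    haveI : Nontrivial (Localization.AtPrime Q ⧸ Ideal.ofList ((rs'.map ι).map j)) := e₁.toEquiv.nontrivial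
    haveI : IsLocalRing (Localization.AtPrime Q ⧸ Ideal.ofList ((rs'.map ι).map j)) :=
      .of_surjective' (Ideal.Quotient.mk _) Ideal.Quotient.mk_surjective
    haveI : IsLocalization.AtPrime (Localization.AtPrime P) (P.comap (algebraMap (S ⧸ I) Bt)) :=
      IsLocalization.isLocalization_isLocalization_atPrime_isLocalization (Submonoid.powers t) (Localization.AtPrime P) P
    haveI : IsLocalization q.primeCompl (Localization.AtPrime P) :=
      ‹IsLocalization.AtPrime (Localization.AtPrime P) (P.comap (algebraMap (S ⧸ I) Bt))›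
    let e₂ : Localization.AtPrime q ≃+* Localization.AtPrime P :=
      (IsLocalization.algEquiv q.primeCompl (Localization.AtPrime q) (Localization.AtPrime P)).toRingEquiv
    have hd3' : (3 : ℕ∞) ≤ LocCoh.depth (Localization.AtPrime q) (Localization.AtPrime q) := by
      have h1 := le_trans (PicU24.depth_le_atPrime_add q) (add_le_add le_rfl hq1)
      rw [← WithBot.coe_one, ← WithBot.coe_add, WithBot.coe_le_coe] at h1
      exact (ENat.addLECancellable_of_ne_top ENat.one_ne_top).add_le_add_iff_right.1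
        (show (3 : ℕ∞) + 1 ≤ _ + 1 from le_trans hdB h1)
    have hdim' : ((3 : ℕ) : WithBot ℕ∞) ≤ ringKrullDim (Localization.AtPrime Q ⧸ Ideal.ofList ((rs'.map ι).map j)) :=
      coe_le_dim (by rw [RamSam24.depth_eq_of_ringEquiv e₁]; exact hd3')
    exact purityHolds_of_equiv (e₁.trans e₂) (ih (Localization.AtPrime Q) ((rs'.map ι).map j) (by simp [hlen'])
        (fun y hy => by
          obtain ⟨z, hz, rfl⟩ := List.mem_map.1 hy
          exact (IsLocalization.AtPrime.to_map_mem_maximal_iff _ Q z).2 (hIQ (Ideal.subset_span hz)))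
        (RingTheory.Sequence.IsWeaklyRegular.of_isLocalization (Localization.AtPrime Q) Q.primeCompl hreg'.1)
        (by exact_mod_cast hdim'))
  have hdimB : (3 : WithBot ℕ∞) ≤ ringKrullDim (S ⧸ I) := by
    exact_mod_cast coe_le_dim (n := 3) (le_trans (by norm_num) hdB)
  refine purityHolds_of_flat τ hτflat hτmax (le_trans (by norm_num) hd3) (purityHolds_quotient
    (essSurj_of_extension ht (fun V₀ => exists_extension t ht hregt
      (finite_H_of_depth _ hdC 1 (by norm_num)) (finite_H_of_depth _ hdC 2 (by norm_num)) V₀) hp)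
    (ih S (rs'.map ι) (by simp [hlen']) hmem'' hreg'.1 hdimB))

/-- Complete intersections of dimension at least three are pure. -/
theorem pure_ci : ∀ r : ℕ, CIPure.{u} r := by
  intro r
  induction r with
  | zero =>
    intro R _ _ rs hlen _ _ _ hdim
    obtain rfl := List.length_eq_zero_iff.1 hlen
    let e : R ⧸ Ideal.ofList ([] : List R) ≃+* R :=
      (Ideal.quotEquivOfEq Ideal.ofList_nil).trans (RingEquiv.quotientBot R)
    rw [ringKrullDim_eq_of_ringEquiv e] at hdim
    exact purityHolds_of_equiv e.symm (PuritySch.purityHolds_of_regular R (le_trans (by norm_num) hdim))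
  | succ r ih =>
    intro R _ _ rs hlen hmem hreg _ hdim
    obtain ⟨rs', x, rfl⟩ : ∃ rs' x, rs = rs' ++ [x] := by
      rcases List.eq_nil_or_concat rs with rfl | ⟨rs', x, rfl⟩
      · simp at hlen
      · exact ⟨rs', x, List.concat_eq_append⟩
    have hlen' : rs'.length = r := by simpa using hlen
    haveI := CILib.isRegularLocalRing_adicCompletion R
    haveI hcS := CILib.isAdicComplete_adicCompletion R
    haveI : Module.Flat R (AdicCompletion (maximalIdeal R) R) := AdicCompletion.flat_of_isNoetherian _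
    haveI : IsLocalHom (algebraMap R (AdicCompletion (maximalIdeal R) R)) :=
      AdicCompletion.algebraMap_isLocalHom_of_fg (IsNoetherian.noetherian _)
    have hmax := (AdicCompletion.maximalIdeal_eq_map (R := R)).symm
    exact pure_ci_step r ih R (AdicCompletion (maximalIdeal R) R) hmax rs' x hlen' hmem hreg hdim

end Groth.Agent.SGA10
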