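import Groth.Agent.SGA10.Sat
import Groth.Agent.Alg6.AssDepth
import Groth.Agent.LC.Depth
import Groth.Agent.S7137
import Mathlib.RingTheory.Filtration

/-!
# Regular sequences and normally flat ideals
-/

set_option autoImplicit false
set_option linter.style.haveILetI false
universe u

open IsLocalRing RingTheory.Sequence

noncomputable section

namespace Groth.Agent.SGA10

variable {A : Type u} [CommRing A] (rs : List A)

/-- The ideal of the first `k` members. -/
abbrev Ik (k : ℕ) : Ideal A := Ideal.ofList (rs.take k)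

/-- Weak regularity, elementwise. -/
def WReg (M : Type u) [AddCommGroup M] [Module A M] : Prop :=
  ∀ (i : ℕ) (hi : i < rs.length) (m : M), rs[i] • m ∈ Ik rs i • (⊤ : Submodule A M) → m ∈ Ik rs i • (⊤ : Submodule A M)

theorem wreg_iff {M : Type u} [AddCommGroup M] [Module A M] : WReg rs M ↔ IsWeaklyRegular M rs := by
  rw [isWeaklyRegular_iff]
  refine forall₂_congr fun i hi => ⟨fun h a b hab => ?_, fun h m hm => ?_⟩
  · obtain ⟨a, rfl⟩ := Submodule.Quotient.mk_surjective _ a
    obtain ⟨b, rfl⟩ := Submodule.Quotient.mk_surjective _ b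
    refine (Submodule.Quotient.eq _).2 (h _ ?_)
    rw [smul_sub]
    exact (Submodule.Quotient.eq _).1 hab
  · refine (Submodule.Quotient.mk_eq_zero _).1 (h ?_)
    show rs[i] • Submodule.Quotient.mk m = rs[i] • (0 : M ⧸ (Ideal.ofList (rs.take i) • ⊤ : Submodule A M))
    rw [smul_zero, ← Submodule.Quotient.mk_smul]
    exact (Submodule.Quotient.mk_eq_zero _).2 hm

theorem Ik_succ_smul {M : Type u} [AddCommGroup M] [Module A M] {k : ℕ} (hk : k < rs.length) :
    Ik rs (k + 1) • (⊤ : Submodule A M) = Ik rs k • ⊤ ⊔ Ideal.span {rs[k]} • ⊤ := by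
  rw [← Submodule.sup_smul]
  congr 1
  rw [Ik, List.take_add_one, List.getElem?_eq_getElem hk, Option.toList_some, Ideal.ofList_append,
    Ideal.ofList_singleton]

theorem exists_smul_of_mem {M : Type u} [AddCommGroup M] [Module A M] {k : ℕ} (hk : k < rs.length) {m : M}
    (hm : m ∈ Ik rs (k + 1) • (⊤ : Submodule A M)) :
    ∃ a ∈ Ik rs k • (⊤ : Submodule A M), ∃ b : M, m = a + rs[k] • b := by
  rw [Ik_succ_smul rs hk, Submodule.mem_sup] at hm
  obtain ⟨a, ha, z, hz, rfl⟩ := hm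
  rw [Submodule.ideal_span_singleton_smul] at hz
  obtain ⟨b, -, rfl⟩ := hz
  exact ⟨a, ha, b, rfl⟩

variable {N' M N'' : Type u} [AddCommGroup N'] [Module A N'] [AddCommGroup M] [Module A M] [AddCommGroup N'']
  [Module A N''] {f : N' →ₗ[A] M} {g : M →ₗ[A] N''}

theorem inter_Ik (hgs : Function.Surjective g) (hfg : Function.Exact f g) (h'' : WReg rs N'') (k : ℕ) (hk : k ≤ rs.length)
    (m : M) (hm : m ∈ Ik rs k • (⊤ : Submodule A M)) (hgm : g m = 0) :
    ∃ n ∈ Ik rs k • (⊤ : Submodule A N'), f n = m := by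
  induction k generalizing m with
  | zero =>
    rw [Ik, List.take_zero, Ideal.ofList_nil, Submodule.bot_smul, Submodule.mem_bot] at hm
    exact ⟨0, zero_mem _, by rw [hm, map_zero]⟩
  | succ k ih =>
    have hk' : k < rs.length := hk
    obtain ⟨a, ha, b, rfl⟩ := exists_smul_of_mem rs hk' hm
    have hga : g a ∈ Ik rs k • (⊤ : Submodule A N'') := by
      have := Submodule.mem_map_of_mem (f := g) ha
      rw [Submodule.map_smul''] at this
      exact Submodule.smul_mono le_rfl le_top this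
    have hgb : g b ∈ Ik rs k • (⊤ : Submodule A N'') := by
      refine h'' k hk' _ ?_
      rw [map_add, map_smul, add_eq_zero_iff_eq_neg'] at hgm
      rw [hgm]
      exact neg_mem hga
    rw [← LinearMap.range_eq_top.2 hgs, LinearMap.range_eq_map, ← Submodule.map_smul''] at hgb
    obtain ⟨b₁, hb₁, hb₂⟩ := hgb
    obtain ⟨n₀, hn₀⟩ := (hfg (b - b₁)).1 (by rw [map_sub, hb₂, sub_self])
    have hmem : a + rs[k] • b₁ ∈ Ik rs k • (⊤ : Submodule A M) := add_mem ha (Submodule.smul_mem _ _ hb₁)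
    obtain ⟨n, hn, hn'⟩ := ih hk'.le (a + rs[k] • b₁) hmem (by
      rw [map_add, map_smul, hb₂, ← map_smul, ← map_add]; exact hgm)
    refine ⟨n + rs[k] • n₀, ?_, ?_⟩
    · rw [Ik_succ_smul rs hk']
      exact add_mem (Submodule.mem_sup_left hn) (Submodule.mem_sup_right
        (Submodule.smul_mem_smul (Ideal.mem_span_singleton_self _) trivial))
    · rw [map_add, map_smul, hn', hn₀, smul_sub]; abel

theorem WReg.of_ext (hfi : Function.Injective f) (hgs : Function.Surjective g) (hfg : Function.Exact f g) (h' : WReg rs N')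
    (h'' : WReg rs N'') : WReg rs M := fun i hi m hm => by
  have hgm : g m ∈ Ik rs i • (⊤ : Submodule A N'') := by
    refine h'' i hi _ ?_
    rw [← map_smul]
    have := Submodule.mem_map_of_mem (f := g) hm
    rw [Submodule.map_smul''] at this
    exact Submodule.smul_mono le_rfl le_top this
  rw [← LinearMap.range_eq_top.2 hgs, LinearMap.range_eq_map, ← Submodule.map_smul''] at hgm
  obtain ⟨m₁, hm₁, hm₂⟩ := hgm
  obtain ⟨n₀, hn₀⟩ := (hfg (m - m₁)).1 (by rw [map_sub, hm₂, sub_self])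
  obtain ⟨n, hn, hn'⟩ := inter_Ik rs hgs hfg h'' i hi.le (rs[i] • (m - m₁))
    (by rw [smul_sub]; exact sub_mem hm (Submodule.smul_mem _ _ hm₁))
    (by rw [← hn₀, ← map_smul, hfg.apply_apply_eq_zero])
  have h1 : n₀ ∈ Ik rs i • (⊤ : Submodule A N') := by
    refine h' i hi _ ?_
    rwa [show rs[i] • n₀ = n from hfi (by rw [map_smul, hn₀, hn'])]
  have h2 := Submodule.mem_map_of_mem (f := f) h1
  rw [Submodule.map_smul'', hn₀] at h2
  rw [← add_sub_cancel m₁ m]
  exact add_mem hm₁ (Submodule.smul_mono le_rfl le_top h2)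

theorem WReg.of_equiv (e : N' ≃ₗ[A] M) (h : WReg rs N') : WReg rs M :=
  (wreg_iff rs).2 ((e.isWeaklyRegular_congr rs).1 ((wreg_iff rs).1 h))

theorem WReg.finsupp {Q : Type u} [AddCommGroup Q] [Module A Q] (h : WReg rs Q) (ι : Type u) : WReg rs (ι →₀ Q) := by
  classical
  intro i hi m hm
  rw [← Finsupp.sum_single m]
  refine Submodule.sum_mem _ fun j _ => ?_
  have h1 : m j ∈ Ik rs i • (⊤ : Submodule A Q) := h i hi _ (by
    have := Submodule.mem_map_of_mem (f := Finsupp.lapply (R := A) j) hm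
    rw [Submodule.map_smul''] at this
    exact Submodule.smul_mono le_rfl le_top this)
  have := Submodule.mem_map_of_mem (f := Finsupp.lsingle (R := A) (M := Q) j) h1
  rw [Submodule.map_smul''] at this
  exact Submodule.smul_mono le_rfl le_top this

variable (J : Ideal A)

theorem wreg_quot_pow (h : WReg rs (A ⧸ J))
    (hgr : ∀ n : ℕ, Module.Free (A ⧸ J) (↥(J ^ n) ⧸ (J • (⊤ : Submodule A ↥(J ^ n))))) : ∀ n, WReg rs (A ⧸ J ^ n) := by
  intro n
  induction n with
  | zero =>
    intro i hi m _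
    haveI : Subsingleton (A ⧸ J ^ 0) := Ideal.Quotient.subsingleton_iff.2 (by rw [pow_zero, Ideal.one_eq_top])
    rw [Subsingleton.elim m 0]
    exact zero_mem _
  | succ n ih =>
    haveI := hgr n
    let b := Module.Free.chooseBasis (A ⧸ J) (↥(J ^ n) ⧸ (J • (⊤ : Submodule A ↥(J ^ n))))
    have hP : WReg rs (↥(J ^ n) ⧸ (J • (⊤ : Submodule A ↥(J ^ n)))) :=
      WReg.of_equiv rs (b.repr.symm.restrictScalars A) (h.finsupp rs _)
    have hmap : (J • (⊤ : Submodule A ↥(J ^ n))).map (J ^ n).subtype = J ^ (n + 1) := by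
      rw [Submodule.map_smul'', Submodule.map_top, Submodule.range_subtype, smul_eq_mul, pow_succ']
    let f : (↥(J ^ n) ⧸ (J • (⊤ : Submodule A ↥(J ^ n)))) →ₗ[A] A ⧸ J ^ (n + 1) :=
      Submodule.mapQ _ _ (J ^ n).subtype fun x hx => hmap.le (Submodule.mem_map_of_mem hx)
    let g : (A ⧸ J ^ (n + 1)) →ₗ[A] A ⧸ J ^ n := Submodule.factor (Ideal.pow_le_pow_right n.le_succ)
    refine WReg.of_ext rs (f := f) (g := g) ?_ (Submodule.factor_surjective _) ?_ hP ih
    · refine (injective_iff_map_eq_zero _).2 fun x hx => ?_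
      obtain ⟨x, rfl⟩ := Submodule.Quotient.mk_surjective _ x
      have h1 : (x : A) ∈ J ^ (n + 1) := (Submodule.Quotient.mk_eq_zero _).1 hx
      rw [← hmap] at h1
      obtain ⟨y, hy, hyx⟩ := h1
      exact (Submodule.Quotient.mk_eq_zero _).2 (Subtype.ext hyx ▸ hy)
    · intro y
      obtain ⟨y, rfl⟩ := Submodule.Quotient.mk_surjective _ y
      constructor
      · intro hy
        exact ⟨Submodule.Quotient.mk ⟨y, (Submodule.Quotient.mk_eq_zero _).1 hy⟩, rfl⟩
      · rintro ⟨x, hx⟩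
        obtain ⟨x, rfl⟩ := Submodule.Quotient.mk_surjective _ x
        rw [← hx]
        exact (Submodule.Quotient.mk_eq_zero _).2 x.2

variable [IsLocalRing A] [IsNoetherianRing A]

theorem wreg_of_quot_pow (hJ : J ≠ ⊤) (h : ∀ n, WReg rs (A ⧸ J ^ n)) : WReg rs A := by
  intro i hi m hm
  let I := Ik rs i
  have hI : ∀ {x : A}, x ∈ I ↔ x ∈ I • (⊤ : Submodule A A) := by
    intro x; rw [smul_eq_mul, Ideal.mul_top]
  refine hI.1 ?_
  have key : ∀ n, m ∈ I ⊔ J ^ n := fun n => by
    have h1 : (Submodule.Quotient.mk m : A ⧸ J ^ n) ∈ I • (⊤ : Submodule A (A ⧸ J ^ n)) := by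
      refine h n i hi _ ?_
      rw [← Submodule.Quotient.mk_smul]
      have h2 := Submodule.mem_map_of_mem (f := (J ^ n).mkQ) hm
      rw [Submodule.map_smul''] at h2
      exact Submodule.smul_mono le_rfl le_top h2
    rw [show (⊤ : Submodule A (A ⧸ J ^ n)) = Submodule.map (J ^ n).mkQ ⊤ by
      rw [Submodule.map_top, Submodule.range_mkQ], ← Submodule.map_smul''] at h1
    obtain ⟨a, ha, hax⟩ := h1
    have h3 : a - m ∈ J ^ n := (Submodule.Quotient.eq _).1 hax
    rw [← sub_sub_cancel a m]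
    exact Submodule.sub_mem _ (Submodule.mem_sup_left (hI.2 ha)) (Submodule.mem_sup_right h3)
  refine Ideal.Quotient.eq_zero_iff_mem.1 ?_
  rw [← Submodule.mem_bot A (M := A ⧸ I), ← Ideal.iInf_pow_smul_eq_bot_of_isLocalRing (M := A ⧸ I) (I := J) hJ]
  refine (Submodule.mem_iInf _).2 fun n => ?_
  obtain ⟨a, ha, b, hb, hab⟩ := Submodule.mem_sup.1 (key n)
  rw [← hab, map_add, Ideal.Quotient.eq_zero_iff_mem.2 ha, zero_add,
    show Ideal.Quotient.mk I b = b • (1 : A ⧸ I) by rw [Algebra.smul_def, mul_one]; rfl]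
  exact Submodule.smul_mem_smul hb trivial

/-- Depth passes from a normally flat quotient to the ring and to the infinitesimal neighbourhoods. -/
theorem depth_of_gr_free (hJ : J ≠ ⊤) [IsLocalRing (A ⧸ J)] {c : ℕ}
    (hd : (c : ℕ∞) ≤ LocCoh.depth (A ⧸ J) (A ⧸ J))
    (hgr : ∀ n : ℕ, Module.Free (A ⧸ J) (↥(J ^ n) ⧸ (J • (⊤ : Submodule A ↥(J ^ n))))) :
    (c : ℕ∞) ≤ LocCoh.depth A A ∧ ∀ n, (c : ℕ∞) ≤ LocCoh.idealDepth (maximalIdeal A) (A ⧸ J ^ n) := by
  rw [← Groth.Agent.S7137.depth_eq_of_surjective (R := A) (S := A ⧸ J) Ideal.Quotient.mk_surjective] at hd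
  haveI : Nontrivial (A ⧸ J) := Ideal.Quotient.nontrivial_iff.2 hJ
  obtain ⟨rs, hreg, hmem, hlen⟩ := Alg6.exists_length_ge_of_le_idealDepth (M := A ⧸ J) (I := maximalIdeal A)
    (Alg6.maximal_smul_top_ne_top) hd
  have h1 := wreg_quot_pow rs J ((wreg_iff rs).2 hreg) hgr
  refine ⟨?_, fun n => le_trans (by exact_mod_cast hlen) (Alg6.length_le_idealDepth ((wreg_iff rs).1 (h1 n)) hmem)⟩
  exact le_trans (by exact_mod_cast hlen)
    (Alg6.length_le_idealDepth ((wreg_iff rs).1 (wreg_of_quot_pow rs J hJ h1)) hmem)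

/-- Modules of depth at least two are saturated. -/
theorem sat_of_depth {G : Finset A} (hG : Ideal.span (G : Set A) = maximalIdeal A) (M : Type u) [AddCommGroup M]
    [Module A M] [Module.Finite A M] (h : (2 : ℕ∞) ≤ LocCoh.idealDepth (maximalIdeal A) M) : Sat G M := by
  have hH := (LC.le_idealDepth_iff_H (maximalIdeal A) M 2).1 (by exact_mod_cast h)
  haveI h0 := hH 0 (by norm_num)
  haveI h1 := hH 1 (by norm_num)
  have hsep : Sep G M := fun x hx => by
    obtain ⟨n, hn⟩ := Pi1Ext.CechTors.isPowerTorsion_of_gens G (maximalIdeal A) hG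
      (N := Submodule.span A {x}) (fun y g hg => by
        obtain ⟨a, ha⟩ := Submodule.mem_span_singleton.1 y.2
        obtain ⟨k, hk⟩ := hx ⟨g, hg⟩
        exact ⟨k, Subtype.ext (by rw [Submodule.coe_smul, ← ha, smul_comm, hk, smul_zero]; rfl)⟩)
      ⟨x, Submodule.mem_span_singleton_self x⟩
    have hxt : x ∈ DRing.torsionSub (maximalIdeal A) (ModuleCat.of A M) :=
      ⟨n, fun a ha => congrArg Subtype.val (hn a ha)⟩
    have := (LC.H0Equiv (maximalIdeal A) (ModuleCat.of A M)).symm.injective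
      (Subsingleton.elim ((LC.H0Equiv (maximalIdeal A) (ModuleCat.of A M)).symm ⟨x, hxt⟩) ((LC.H0Equiv (maximalIdeal A) (ModuleCat.of A M)).symm 0))
    exact congrArg Subtype.val this
  refine ⟨hsep, fun k m hm => ?_⟩
  obtain ⟨x, l, hx⟩ := Pi1Ext.CechTors.t0_of_smul_H G (maximalIdeal A) hG (M := M) (c := (1 : A))
    (fun z => Subsingleton.elim _ _) k m hm
  refine ⟨x, fun g => sub_eq_zero.1 (hsep _ fun h => ⟨l + k, ?_⟩)⟩
  rw [smul_sub, sub_eq_zero, smul_comm, hx h, one_smul, pow_add h.1 l k, mul_smul, hm g h, smul_comm]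

end Groth.Agent.SGA10
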