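import Groth.Agent.SGA10.PurePair
import Groth.Agent.Pi1X.FEtFull

/-!
# The punctured spectrum of a pure local ring is connected
-/

set_option autoImplicit false
set_option linter.style.haveILetI false
universe u

open CategoryTheory CategoryTheory.Limits AlgebraicGeometry IsLocalRing

noncomputable section

namespace Groth.Agent.SGA10

set_option backward.isDefEq.respectTransparency false
set_option backward.isDefEq.respectTransparency.types false

variable {A : Type u} [CommRing A] [IsLocalRing A]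

theorem eq_univ_of_isClopen (C : Set ↥(Spec (CommRingCat.of A))) (hC : IsClopen C) (hne : C.Nonempty) :
    C = Set.univ := by
  have hgen : ∀ (D : Set ↥(Spec (CommRingCat.of A))), IsOpen D → IsLocalRing.closedPoint A ∈ D → D = Set.univ :=
    fun D hD hc => Set.eq_univ_of_forall fun x => hD.stableUnderGeneralization
      ((PrimeSpectrum.le_iff_specializes x (IsLocalRing.closedPoint A)).1 (IsLocalRing.le_maximalIdeal x.2.ne_top)) hc
  by_cases hc : IsLocalRing.closedPoint A ∈ C
  · exact hgen C hC.2 hc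
  · obtain ⟨x, hx⟩ := hne
    exact absurd hx ((hgen Cᶜ hC.1.isOpen_compl hc).symm ▸ Set.mem_univ x : x ∈ Cᶜ)

theorem isConnected_punctured_of_isEquivalence (hE : (FEt.restrict (FEt.puncturedSpec A).ι).IsEquivalence) :
    ConnectedSpace ↥(FEt.puncturedSpec A : Scheme.{u}) := by
  let X := Spec (CommRingCat.of A)
  let ι := (FEt.puncturedSpec A).ι
  haveI : (FEt.restrict ι).IsEquivalence := hE
  have hne : Nonempty ↥(FEt.puncturedSpec A : Scheme.{u}) := by
    by_contra hemp
    rw [not_nonempty_iff] at hemp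
    let T₁ : FEt.Cat X := MorphismProperty.Over.mk ⊤ (𝟙 X) (MorphismProperty.id_mem _ _)
    let T₀ : FEt.Cat X := MorphismProperty.Over.mk ⊤ (⊥ : X.Opens).ι (Pi1X.prop_ι_of_isClopen ⊥ isClosed_empty)
    have hemp' : ∀ T : FEt.Cat (FEt.puncturedSpec A : Scheme.{u}), IsEmpty T.left := fun T =>
      ⟨fun z => hemp.false ((T.hom : T.left ⟶ (FEt.puncturedSpec A : Scheme.{u})).base z)⟩
    haveI := hemp' ((FEt.restrict ι).obj T₁)
    haveI := hemp' ((FEt.restrict ι).obj T₀)
    let e : (FEt.restrict ι).obj T₁ ≅ (FEt.restrict ι).obj T₀ :=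
      MorphismProperty.Over.isoMk (isInitialOfIsEmpty.uniqueUpToIso isInitialOfIsEmpty)
        (isInitialOfIsEmpty.hom_ext _ _)
    let φ : X ⟶ ((⊥ : X.Opens) : Scheme.{u}) := ((FEt.restrict ι).preimage e.hom).left
    exact (φ.base (IsLocalRing.closedPoint A)).2
  refine connectedSpace_iff_clopen.2 ⟨hne, fun C hC => ?_⟩
  refine (Set.eq_empty_or_nonempty C).imp id fun hCne => ?_
  let W : (FEt.puncturedSpec A : Scheme.{u}).Opens := ⟨C, hC.2⟩
  let V : FEt.Cat (FEt.puncturedSpec A : Scheme.{u}) :=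
    MorphismProperty.Over.mk ⊤ W.ι (Pi1X.prop_ι_of_isClopen W hC.1)
  let Y := (FEt.restrict ι).objPreimage V
  let e : (FEt.restrict ι).obj Y ≅ V := (FEt.restrict ι).objObjPreimageIso V
  let w : Y.left ⟶ X := Y.hom
  let el : pullback w ι ⟶ (W : Scheme.{u}) := e.hom.left
  let el' : (W : Scheme.{u}) ⟶ pullback w ι := e.inv.left
  have hel : el ≫ W.ι = pullback.snd w ι := MorphismProperty.Over.w e.hom
  obtain ⟨c, hc⟩ := hCne
  have hsurj : Set.range w.base = Set.univ :=
    eq_univ_of_isClopen _ (Pi1X.isClopen_range Y.prop) ⟨_, (pullback.fst w ι).base (el'.base ⟨c, hc⟩), rfl⟩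
  refine Set.eq_univ_of_forall fun u => ?_
  obtain ⟨y, hy⟩ : ι.base u ∈ Set.range w.base := hsurj.symm ▸ Set.mem_univ _
  obtain ⟨z, -, hz⟩ := Scheme.Pullback.exists_preimage_pullback y u hy
  rw [← hz, ← hel, Scheme.Hom.comp_apply]
  exact (el.base z).2

end Groth.Agent.SGA10
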