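import Groth.Agent.SGA10.FormalFF
import Groth.Agent.SGA10.GrFree
import Groth.Agent.CILib.Basic
import Groth.Agent.Pi1Ext.Spread
import Groth.Agent.Hensel.PairBasic
import Groth.Agent.BrnchLib.Compl
import Groth.Agent.S0239
import Groth.Agent.S0262
import Groth.Agent.S0546
import Mathlib.RingTheory.Regular.Flat

/-!
# Covers of the punctured spectrum that extend on a closed subscheme extend
-/

set_option autoImplicit false
set_option linter.style.haveILetI false
universe u

open CategoryTheory CategoryTheory.Limits AlgebraicGeometry IsLocalRing TensorProduct RingTheory.Sequence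

noncomputable section

namespace Groth.Agent.SGA10

open Groth.Agent.Pi1Ext Spread

set_option backward.isDefEq.respectTransparency false
set_option backward.isDefEq.respectTransparency.types false

variable {A : Type u} [CommRing A] [IsLocalRing A] [IsNoetherianRing A]

theorem range_snd_ideal (J : Ideal A) [IsLocalRing (A ⧸ J)] :
    Set.range (pullback.snd (FEt.puncturedSpec A).ι
      (Spec.map (CommRingCat.ofHom (Ideal.Quotient.mk J)))).base =
      Set.range (FEt.puncturedSpec (A ⧸ J)).ι.base := by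
  rw [Scheme.Pullback.range_snd, Scheme.Opens.range_ι, Scheme.Opens.range_ι]
  ext p
  have hcl : PrimeSpectrum.comap (Ideal.Quotient.mk J)
      (IsLocalRing.closedPoint (A ⧸ J)) = IsLocalRing.closedPoint A :=
    PrimeSpectrum.ext (IsLocalRing.eq_maximalIdeal (Ideal.comap_isMaximal_of_surjective _
      Ideal.Quotient.mk_surjective (K := maximalIdeal (A ⧸ J))))
  show PrimeSpectrum.comap (Ideal.Quotient.mk J) p ≠ IsLocalRing.closedPoint A ↔
    p ≠ IsLocalRing.closedPoint (A ⧸ J)
  refine not_congr ⟨fun h => ?_, fun h => h ▸ hcl⟩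
  exact PrimeSpectrum.comap_injective_of_surjective _ Ideal.Quotient.mk_surjective (h.trans hcl.symm)

/-- A trace of depth at least two stays so after flat local base change. -/
theorem sat_of_flat {B : Type u} [CommRing B] [IsLocalRing B] [IsNoetherianRing B] [Algebra A B] [Module.Flat A B]
    [IsLocalHom (algebraMap A B)] {G : Finset B} (hG : Ideal.span (G : Set B) = maximalIdeal B) (I : Ideal A)
    (h : (2 : ℕ∞) ≤ LocCoh.idealDepth (maximalIdeal A) (A ⧸ I)) :
    Sat G (B ⧸ I.map (algebraMap A B)) := by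
  rcases subsingleton_or_nontrivial (B ⧸ I.map (algebraMap A B)) with hs | hn
  · exact ⟨fun x _ => Subsingleton.elim _ _, fun _ _ _ => ⟨0, fun _ => Subsingleton.elim _ _⟩⟩
  haveI : Nontrivial (A ⧸ I) := Ideal.Quotient.nontrivial_iff.2 fun hI => Ideal.Quotient.nontrivial_iff.1 hn (by
    rw [hI, Ideal.map_top])
  obtain ⟨rs, hreg, hmem, hlen⟩ := Alg6.exists_length_ge_of_le_idealDepth (M := A ⧸ I) (I := maximalIdeal A)
    (Alg6.maximal_smul_top_ne_top) (n := 2) h
  let f : (A ⧸ I) →ₗ[A] B ⧸ I.map (algebraMap A B) :=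
    ((I.qoutMapEquivTensorQout B).symm.toLinearMap.restrictScalars A).comp (TensorProduct.mk A B (A ⧸ I) 1)
  have hf : IsBaseChange B f := IsBaseChange.of_equiv (I.qoutMapEquivTensorQout B).symm fun x => rfl
  have h2 := IsWeaklyRegular.of_flat_of_isBaseChange hf hreg
  refine sat_of_depth hG _ (le_trans ?_ (Alg6.length_le_idealDepth h2 ?_))
  · rw [List.length_map]; exact_mod_cast hlen
  · intro r hr
    obtain ⟨a, ha, rfl⟩ := List.mem_map.1 hr
    exact IsLocalRing.map_maximalIdeal_le (algebraMap A B) (Ideal.mem_map_of_mem _ (hmem a ha))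

theorem exists_extension_formal (J : Ideal A) (hJ : J ≠ ⊤)
    (hdep : ∀ n, (2 : ℕ∞) ≤ LocCoh.idealDepth (maximalIdeal A) (A ⧸ J ^ n))
    (V : FEt.Cat (FEt.puncturedSpec A : Scheme.{u}))
    (Y₀ : FEt.Cat (Spec (CommRingCat.of (A ⧸ J))))
    (e₀ : (FEt.restrict (pullback.snd (FEt.puncturedSpec A).ι
        (Spec.map (CommRingCat.ofHom (Ideal.Quotient.mk J))))).obj Y₀ ≅
      (FEt.restrict (pullback.fst (FEt.puncturedSpec A).ι
        (Spec.map (CommRingCat.ofHom (Ideal.Quotient.mk J))))).obj V) :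
    ∃ Y : FEt.Cat (Spec (CommRingCat.of A)), Nonempty ((FEt.restrict (FEt.puncturedSpec A).ι).obj Y ≅ V) := by
  refine (Groth.Agent.S0262.result A V).2 ?_
  haveI := Groth.Agent.LC.Canon.isNoetherianRing_completion (R := A)
  haveI : Module.Flat A (AdicCompletion (maximalIdeal A) A) := AdicCompletion.flat_of_isNoetherian _
  let A' := AdicCompletion (maximalIdeal A) A
  let φ := algebraMap A A'
  let s : Spec (CommRingCat.of A') ⟶ Spec (CommRingCat.of A) := Spec.map (CommRingCat.ofHom φ)
  have hm : maximalIdeal A' = (maximalIdeal A).map φ := AdicCompletion.maximalIdeal_eq_map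
  haveI : IsLocalHom φ := ((IsLocalRing.local_hom_TFAE φ).out 0 2).mpr hm.ge
  let ι := (FEt.puncturedSpec A).ι
  let ι' := (FEt.puncturedSpec A').ι
  let q₁ := pullback.fst ι s
  let q₂ := pullback.snd ι s
  have he : Set.range q₂.base = Set.range ι'.base := by
    rw [Scheme.Pullback.range_snd, Scheme.Opens.range_ι, Scheme.Opens.range_ι]
    ext P
    exact not_congr (Groth.Agent.S0262.range_comap_punctured A A' hm P)
  let κ := IsOpenImmersion.isoOfRangeEq q₂ ι' he
  have hκ : κ.inv ≫ q₂ = ι' := IsOpenImmersion.isoOfRangeEq_inv_fac _ _ he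
  let k := κ.inv ≫ q₁
  have hk : k ≫ ι = ι' ≫ s := by rw [Category.assoc, pullback.condition, ← Category.assoc, hκ]
  -- the completion
  let J' := J.map φ
  have hJ' : J' ≤ maximalIdeal A' := hm ▸ Ideal.map_mono (IsLocalRing.le_maximalIdeal hJ)
  haveI : HenselianLocalRing A' := Groth.Agent.BrnchLib.henselianLocalRing_completion A
  haveI : HenselianRing A' J' := Groth.Agent.Hensel.henselianRing_of_le (J := maximalIdeal A') hJ'
  haveI := Groth.Agent.CILib.isAdicComplete_adicCompletion A
  haveI : IsAdicComplete J' A' :=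
    Groth.Agent.S0546.result A' J' (maximalIdeal A') hJ' (IsNoetherian.noetherian _) A'
  obtain ⟨G', hG'⟩ := (IsNoetherian.noetherian (maximalIdeal A') : (maximalIdeal A').FG)
  have hsat : ∀ n, Sat G' (A' ⧸ J' ^ n) := fun n => by
    rw [← Ideal.map_pow]
    exact sat_of_flat hG' _ (hdep n)
  -- the closed subschemes
  let mk := Spec.map (CommRingCat.ofHom (Ideal.Quotient.mk J))
  let mk' := Spec.map (CommRingCat.ofHom (Ideal.Quotient.mk J'))
  let q : A ⧸ J →+* A' ⧸ J' := Ideal.quotientMap _ φ Ideal.le_comap_map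
  let t := Spec.map (CommRingCat.ofHom q)
  have ht : t ≫ mk = mk' ≫ s := by
    rw [← Spec.map_comp, ← Spec.map_comp]
    congr 1
  let i := pullback.fst ι mk
  let j := pullback.snd ι mk
  let i' := pullback.fst ι' mk'
  let j' := pullback.snd ι' mk'
  let τ : pullback ι' mk' ⟶ pullback ι mk := pullback.lift (i' ≫ k) (j' ≫ t) (by
    rw [Category.assoc i' k, hk, Category.assoc j' t, ht, ← Category.assoc i' ι', ← Category.assoc j' mk', pullback.condition])
  haveI := Groth.Agent.S0239.result A' J'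
  let Y := (FEt.restrict mk').objPreimage ((FEt.restrict t).obj Y₀)
  let eY : (FEt.restrict mk').obj Y ≅ (FEt.restrict t).obj Y₀ := (FEt.restrict mk').objObjPreimageIso _
  obtain ⟨hfull, hfaith⟩ := formal_full_faithful hG' J' hsat
  haveI : (FEt.restrict i').Full := hfull
  haveI : (FEt.restrict i').Faithful := hfaith
  let e₁ : (FEt.restrict i').obj ((FEt.restrict ι').obj Y) ≅ (FEt.restrict i').obj ((FEt.restrict k).obj V) :=
    restrictSquare i' ι' j' mk' pullback.condition Y ≪≫ (FEt.restrict j').mapIso eY ≪≫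
      restrictSquare j' t τ j (pullback.lift_snd _ _ _).symm Y₀ ≪≫ (FEt.restrict τ).mapIso e₀ ≪≫
      restrictSquare τ i i' k (pullback.lift_fst _ _ _) V
  let e₂ := (FEt.restrict i').preimageIso e₁
  exact ⟨Y, ⟨restrictComp κ.hom ι' q₂ (by rw [← hκ, Iso.hom_inv_id_assoc]) Y ≪≫
    (FEt.restrict κ.hom).mapIso e₂ ≪≫ (restrictComp κ.hom k q₁ (Iso.hom_inv_id_assoc κ _).symm V).symm⟩⟩

/-- Purity passes from a closed subscheme with deep infinitesimal neighbourhoods. -/
theorem purityHolds_of_formal (J : Ideal A) (hJ : J ≠ ⊤) [IsLocalRing (A ⧸ J)]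
    (hdep : ∀ n, (2 : ℕ∞) ≤ LocCoh.idealDepth (maximalIdeal A) (A ⧸ J ^ n))
    (h0 : FEt.PurityHolds (A ⧸ J)) : FEt.PurityHolds A := by
  haveI : (FEt.restrict (FEt.puncturedSpec (A ⧸ J)).ι).EssSurj := h0
  let mk := Spec.map (CommRingCat.ofHom (Ideal.Quotient.mk J))
  let i := pullback.fst (FEt.puncturedSpec A).ι mk
  let j := pullback.snd (FEt.puncturedSpec A).ι mk
  let κ := IsOpenImmersion.isoOfRangeEq j (FEt.puncturedSpec (A ⧸ J)).ι (range_snd_ideal J)
  refine ⟨fun V => ?_⟩
  let Y₀ := (FEt.restrict (FEt.puncturedSpec (A ⧸ J)).ι).objPreimage ((FEt.restrict (κ.inv ≫ i)).obj V)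
  refine exists_extension_formal J hJ hdep V Y₀ ?_
  exact restrictComp κ.hom _ j (IsOpenImmersion.isoOfRangeEq_hom_fac _ _ _).symm Y₀ ≪≫
    (FEt.restrict κ.hom).mapIso ((FEt.restrict _).objObjPreimageIso _) ≪≫
    (restrictComp κ.hom (κ.inv ≫ i) i (Iso.hom_inv_id_assoc κ _).symm V).symm

end Groth.Agent.SGA10
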