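import Groth.Agent.SGA10.FormalExt
import Mathlib.RingTheory.Flat.EquationalCriterion

/-!
# The ideal of the closed fibre of a flat local map is normally flat
-/

set_option autoImplicit false
set_option linter.style.haveILetI false
universe u

open IsLocalRing

noncomputable section

namespace Groth.Agent.SGA10

theorem free_gr_closedFibre (A B : Type u) [CommRing A] [IsLocalRing A] [IsNoetherianRing A] [CommRing B]
    [Algebra A B] [Module.Flat A B] (n : ℕ) :
    Module.Free (B ⧸ (maximalIdeal A).map (algebraMap A B))
      (↥(((maximalIdeal A).map (algebraMap A B)) ^ n) ⧸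
        ((maximalIdeal A).map (algebraMap A B) •
          (⊤ : Submodule B ↥(((maximalIdeal A).map (algebraMap A B)) ^ n)))) := by
  classical
  set J := (maximalIdeal A).map (algebraMap A B) with hJdef
  let m := maximalIdeal A
  let M := ↥(m ^ n)
  let Q := M ⧸ (m • (⊤ : Submodule A M))
  haveI : Module.Finite (A ⧸ m) Q := Module.Finite.of_restrictScalars_finite A (A ⧸ m) Q
  letI : Field (A ⧸ m) := Ideal.Quotient.field m
  let bQ := Module.finBasis (A ⧸ m) Q
  choose x hx using fun i => Submodule.Quotient.mk_surjective (m • (⊤ : Submodule A M)) (bQ i)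
  -- the lifted basis generates
  have hspanM : Submodule.span A (Set.range x) = ⊤ := by
    refine IsLocalRing.map_mkQ_eq_top.1 ?_
    rw [Submodule.map_span, ← Set.range_comp,
      show (Submodule.mkQ (m • (⊤ : Submodule A M))) ∘ x = bQ from funext hx]
    have := congrArg (Submodule.restrictScalars A) bQ.span_eq
    rw [Submodule.restrictScalars_top] at this
    rw [← this]
    exact (Submodule.restrictScalars_span A (A ⧸ m) Ideal.Quotient.mk_surjective _).symm
  let φ := algebraMap A B
  have hI : m ^ n = Ideal.span (Set.range fun i => (x i : A)) := by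
    have h := congrArg (Submodule.map (m ^ n).subtype) hspanM
    rw [Submodule.map_span, ← Set.range_comp, Submodule.map_top, Submodule.range_subtype] at h
    exact h.symm
  have hJn : J ^ n = Ideal.span (Set.range fun i => φ (x i : A)) := by
    rw [hJdef, ← Ideal.map_pow]
    refine (congrArg (Ideal.map φ) hI).trans ?_
    rw [Ideal.map_span, ← Set.range_comp]
    rfl
  let y : Fin _ → ↥(J ^ n) := fun i => ⟨φ (x i : A), hJn ▸ Ideal.subset_span ⟨i, rfl⟩⟩
  have hspan : Submodule.span B (Set.range y) = ⊤ := by
    apply Submodule.map_injective_of_injective (J ^ n).injective_subtype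
    rw [Submodule.map_span, ← Set.range_comp, Submodule.map_top, Submodule.range_subtype]
    exact hJn.symm
  -- relations among the generators have coefficients in `J`
  have hrel : ∀ c : Fin _ → B, ∑ i, c i • y i = 0 → ∀ i, c i ∈ J := by
    intro c hc
    have hc' : ∑ i, (x i : A) • c i = 0 := by
      have := congrArg Subtype.val hc
      rw [Submodule.coe_sum] at this
      refine Eq.trans (Finset.sum_congr rfl fun i _ => ?_) this
      rw [Submodule.coe_smul, smul_eq_mul, Algebra.smul_def, mul_comm]
    obtain ⟨k, a, z, hcz, haz⟩ := Module.Flat.isTrivialRelation_of_sum_smul_eq_zero (R := A) (M := B) (f := fun i => (x i : A)) (x := c) hc'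
    intro i
    rw [hcz i]
    refine Submodule.sum_mem _ fun j _ => ?_
    rw [Algebra.smul_def]
    refine Ideal.mul_mem_right _ _ (Ideal.mem_map_of_mem _ ?_)
    have h0 : ∑ i, a i j • x i = 0 := Subtype.ext (by
      rw [Submodule.coe_sum, Submodule.coe_zero, ← haz j]
      refine Finset.sum_congr rfl fun i _ => ?_
      rw [Submodule.coe_smul, smul_eq_mul, mul_comm])
    have h1 : ∑ i, (Ideal.Quotient.mk m (a i j)) • bQ i = 0 := by
      rw [← (map_zero (Submodule.mkQ (m • (⊤ : Submodule A M)))), ← h0, map_sum]
      exact Finset.sum_congr rfl fun i _ => by rw [map_smul, Submodule.mkQ_apply, hx i]; rfl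
    exact Ideal.Quotient.eq_zero_iff_mem.1 (Fintype.linearIndependent_iff.1 bQ.linearIndependent _ h1 i)
  let z : Fin _ → ↥(J ^ n) ⧸ (J • (⊤ : Submodule B ↥(J ^ n))) := fun i => Submodule.Quotient.mk (y i)
  have hli : LinearIndependent (B ⧸ J) z := by
    refine Fintype.linearIndependent_iff.2 fun c hc i => ?_
    choose b hb using fun i => Ideal.Quotient.mk_surjective (c i)
    have hsum : ∑ i, b i • y i ∈ J • (⊤ : Submodule B ↥(J ^ n)) := by
      refine (Submodule.Quotient.mk_eq_zero _).1 ?_
      rw [← hc, ← Submodule.mkQ_apply, map_sum]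
      refine Finset.sum_congr rfl fun i _ => ?_
      rw [← hb i, map_smul]
      rfl
    rw [← hspan] at hsum
    obtain ⟨d, hd, hdy⟩ := (Submodule.mem_ideal_smul_span_iff_exists_sum J y _).1 hsum
    rw [Finsupp.sum_fintype d (fun i c => c • y i) (fun i => zero_smul _ _)] at hdy
    have := hrel (fun i => b i - d i) (by simp only [sub_smul, Finset.sum_sub_distrib, hdy, sub_self]) i
    rw [← hb i, Ideal.Quotient.eq_zero_iff_mem, ← sub_add_cancel (b i) (d i)]
    exact add_mem this (hd i)
  refine Module.Free.of_basis (Module.Basis.mk hli ?_)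
  rintro q -
  obtain ⟨q, rfl⟩ := Submodule.Quotient.mk_surjective _ q
  obtain ⟨c, hc⟩ := (Submodule.mem_span_range_iff_exists_fun B).1 (hspan ▸ Submodule.mem_top : q ∈ Submodule.span B (Set.range y))
  refine (Submodule.mem_span_range_iff_exists_fun _).2 ⟨fun i => Ideal.Quotient.mk J (c i), ?_⟩
  rw [← hc, ← Submodule.mkQ_apply, map_sum]
  exact Finset.sum_congr rfl fun i _ => by rw [map_smul]; rfl

/-- Purity ascends along flat local maps with deep pure closed fibre. -/
theorem purityHolds_of_fibre (A B : Type u) [CommRing A] [CommRing B] [IsLocalRing A] [IsLocalRing B]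
    [IsNoetherianRing A] [IsNoetherianRing B] [Algebra A B] [IsLocalHom (algebraMap A B)] [Module.Flat A B]
    [IsLocalRing (B ⧸ (maximalIdeal A).map (algebraMap A B))]
    (hd : (3 : ℕ∞) ≤ LocCoh.depth (B ⧸ (maximalIdeal A).map (algebraMap A B))
      (B ⧸ (maximalIdeal A).map (algebraMap A B)))
    (h0 : FEt.PurityHolds (B ⧸ (maximalIdeal A).map (algebraMap A B))) : FEt.PurityHolds B := by
  have hJ : (maximalIdeal A).map (algebraMap A B) ≠ ⊤ := fun h =>
    (maximalIdeal.isMaximal B).ne_top (top_le_iff.1 (h.ge.trans (map_maximalIdeal_le _)))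
  obtain ⟨-, h2⟩ := depth_of_gr_free _ hJ (c := 3) (by exact_mod_cast hd) (free_gr_closedFibre A B)
  exact purityHolds_of_formal _ hJ (fun n => le_trans (by norm_num) (h2 n)) h0

end Groth.Agent.SGA10
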