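import Groth.Agent.SGA10.Main
import Groth.Agent.Pi1Ext.PureDescent
import Groth.Agent.Pi1Ext.HyperDual
import Groth.Agent.Alg6.AssDepth
import Groth.Agent.LC.ExtDim
import Groth.Agent.VarDim.Basic
import Groth.Agent.S11185
import Groth.Agent.S0564
import Groth.Agent.S0239
import Groth.Agent.S0377
import Groth.Prelude.Def_SGA2

/-!
# Pure pairs at the closed point of a local scheme
-/

set_option autoImplicit false
set_option linter.style.haveILetI false
universe u

open CategoryTheory CategoryTheory.Limits AlgebraicGeometry IsLocalRing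
attribute [local instance] HasDerivedCategory.standard

noncomputable section

namespace Groth.Agent.SGA10

open Groth.Agent.Pi1Ext

set_option backward.isDefEq.respectTransparency false
set_option backward.isDefEq.respectTransparency.types false

theorem isEquivalence_of_comp {A B C D : Scheme.{u}} (i : A ⟶ B) (g : B ⟶ C) (j : A ⟶ D) (m : D ⟶ C)
    (w : i ≫ g = j ≫ m) [(FEt.restrict j).IsEquivalence] [(FEt.restrict m).IsEquivalence]
    [(FEt.restrict i).Full] [(FEt.restrict i).Faithful] : (FEt.restrict g).IsEquivalence := by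
  haveI : (MorphismProperty.Over.pullback FEt.prop ⊤ m ⋙ MorphismProperty.Over.pullback FEt.prop ⊤ j).IsEquivalence :=
    Functor.isEquivalence_trans (FEt.restrict m) (FEt.restrict j)
  haveI : (FEt.restrict g ⋙ FEt.restrict i).IsEquivalence :=
    Functor.isEquivalence_of_iso ((MorphismProperty.Over.pullbackComp j m (i ≫ g) w).symm ≪≫
      MorphismProperty.Over.pullbackComp i g (i ≫ g) rfl)
  haveI : (FEt.restrict i).EssSurj := ⟨fun X =>
    ⟨(FEt.restrict g).obj ((FEt.restrict g ⋙ FEt.restrict i).objPreimage X),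
      ⟨(FEt.restrict g ⋙ FEt.restrict i).objObjPreimageIso X⟩⟩⟩
  haveI : (FEt.restrict i).IsEquivalence := {}
  exact Functor.isEquivalence_of_comp_right (FEt.restrict g) (FEt.restrict i)

variable {A : Type u} [CommRing A] [IsLocalRing A]

theorem isPurePair_punctured_iff :
    SGA2.IsPurePair (Spec (CommRingCat.of A)) (FEt.puncturedSpec A) ↔
      (FEt.restrict (FEt.puncturedSpec A).ι).IsEquivalence := by
  let X := Spec (CommRingCat.of A)
  let U := FEt.puncturedSpec A
  have htop : IsIso (⊤ : X.Opens).ι := by rw [← Scheme.topIso_hom]; infer_instance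
  haveI : (FEt.restrict (⊤ : X.Opens).ι).IsEquivalence :=
    (PureDescent.restrictEquiv (asIso (⊤ : X.Opens).ι)).isEquivalence_functor
  have hr : Set.range ((X.homOfLE (inf_le_left : ⊤ ⊓ U ≤ ⊤)) ≫ (⊤ : X.Opens).ι).base = Set.range U.ι.base := by
    rw [X.homOfLE_ι, Scheme.Opens.range_ι, Scheme.Opens.range_ι, top_inf_eq]
  constructor
  · intro h
    haveI := h ⊤
    haveI : (MorphismProperty.Over.pullback FEt.prop ⊤ (⊤ : X.Opens).ι ⋙
        MorphismProperty.Over.pullback FEt.prop ⊤ (X.homOfLE (inf_le_left : ⊤ ⊓ U ≤ ⊤))).IsEquivalence :=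
      Functor.isEquivalence_trans (FEt.restrict (⊤ : X.Opens).ι)
        (FEt.restrict (X.homOfLE (inf_le_left : ⊤ ⊓ U ≤ ⊤)))
    exact PureDescent.isEquivalence_of_range_eq _ _ hr.symm
      (Functor.isEquivalence_of_iso (MorphismProperty.Over.pullbackComp _ _ _ rfl).symm)
  · intro h V
    by_cases hc : IsLocalRing.closedPoint A ∈ V
    · obtain rfl : V = ⊤ := eq_top_iff.2 fun x _ =>
        V.2.stableUnderGeneralization ((PrimeSpectrum.le_iff_specializes x (IsLocalRing.closedPoint A)).1
          (IsLocalRing.le_maximalIdeal x.2.ne_top)) hc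
      have h2 := PureDescent.isEquivalence_of_range_eq _ _ hr h
      haveI : (FEt.restrict (⊤ : X.Opens).ι ⋙
          FEt.restrict (X.homOfLE (inf_le_left : ⊤ ⊓ U ≤ ⊤))).IsEquivalence := by
        haveI : (MorphismProperty.Over.pullback FEt.prop ⊤
          ((X.homOfLE (inf_le_left : ⊤ ⊓ U ≤ ⊤)) ≫ (⊤ : X.Opens).ι)).IsEquivalence := h2
        exact Functor.isEquivalence_of_iso (MorphismProperty.Over.pullbackComp _ _ _ rfl)
      exact Functor.isEquivalence_of_comp_left (FEt.restrict (⊤ : X.Opens).ι) _
    · have hle : V ≤ U := fun x hx hxc => hc (Set.mem_singleton_iff.1 hxc ▸ hx)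
      haveI : IsIso (X.homOfLE (inf_le_left : V ⊓ U ≤ V)) :=
        have : Epi (X.homOfLE (inf_le_left : V ⊓ U ≤ V)).base := (TopCat.epi_iff_surjective _).2 fun v =>
          ⟨⟨v.1, v.2, hle v.2⟩, V.ι.isOpenEmbedding.injective (by rw [← Scheme.Hom.comp_apply, X.homOfLE_ι]; rfl)⟩
        IsOpenImmersion.isIso _
      exact (PureDescent.restrictEquiv (asIso (X.homOfLE (inf_le_left : V ⊓ U ≤ V)))).isEquivalence_functor

/-- A quotient of a regular local ring has a dualizing complex. -/
theorem exists_isDualizing_of_quotient [IsNoetherianRing A]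
    (hq : ∃ (B : Type u) (_ : CommRing B) (_ : IsRegularLocalRing B) (φ : B →+* A), Function.Surjective φ) :
    ∃ ω : Dual.D A, Dual.IsDualizing A ω := by
  obtain ⟨B, _, _, φ, hφ⟩ := hq
  letI : Algebra B A := φ.toAlgebra
  haveI : Module.Finite B A := Module.Finite.of_surjective (Algebra.linearMap B A) hφ
  exact Groth.Agent.S0377.result B _
    (Groth.Agent.S11185.result B (fun p => Groth.Agent.S0564.result B p.asIdeal) ringKrullDim_lt_top) A

/-- Depth at least two at the primes of dimension one forces `depth + dimension > 2` away from a regular element. -/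
theorem two_lt_depth_add_dim [IsNoetherianRing A] {t : A} (ht : t ∈ maximalIdeal A)
    (hdepth : ∀ p : Ideal A, ∀ _ : p.IsPrime, ringKrullDim (A ⧸ p) = 1 →
      (2 : ℕ∞) ≤ LocCoh.depth (Localization.AtPrime p) (Localization.AtPrime p))
    (p : Ideal A) [hp : p.IsPrime] (htp : t ∉ p) :
    (2 : WithBot ℕ∞) < (LocCoh.depth (Localization.AtPrime p) (Localization.AtPrime p) : WithBot ℕ∞) +
      ringKrullDim (A ⧸ p) := by
  let P : PrimeSpectrum A := ⟨p, hp⟩
  have hfin : Order.coheight P < ⊤ := by
    have h1 : (Order.coheight P : WithBot ℕ∞) < ⊤ :=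
      lt_of_le_of_lt (Order.coheight_le_krullDim _) ringKrullDim_lt_top
    exact WithBot.coe_lt_coe.1 h1
  have hPm : P < IsLocalRing.closedPoint A := by
    refine lt_of_le_of_ne (IsLocalRing.le_maximalIdeal hp.ne_top) fun h => htp ?_
    rw [show p = maximalIdeal A from congrArg PrimeSpectrum.asIdeal h]
    exact ht
  obtain ⟨n, hn⟩ := ENat.ne_top_iff_exists.1 hfin.ne
  have hn1 : 1 ≤ n := by
    have : (1 : ℕ∞) ≤ Order.coheight P := le_trans le_add_self (Order.coheight_add_one_le hPm)
    rw [← hn] at this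
    exact_mod_cast this
  rw [← Groth.Agent.VarDim.coheight_eq_ringKrullDim_quotient P, ← hn]
  suffices h : (3 : ℕ∞) ≤ LocCoh.depth (Localization.AtPrime p) (Localization.AtPrime p) + n by
    rw [← WithBot.coe_add]
    exact WithBot.coe_lt_coe.2 (lt_of_lt_of_le (by norm_num) h)
  rcases (show n = 1 ∨ n = 2 ∨ 3 ≤ n by omega) with rfl | rfl | h3
  · have h2 : (2 : ℕ∞) ≤ LocCoh.depth (Localization.AtPrime p) (Localization.AtPrime p) := hdepth p hp (by
      rw [← Groth.Agent.VarDim.coheight_eq_ringKrullDim_quotient P, ← hn]; rfl)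
    calc (3 : ℕ∞) = 2 + 1 := by norm_num
      _ ≤ _ := by gcongr; norm_num
  · suffices h1 : (1 : ℕ∞) ≤ LocCoh.depth (Localization.AtPrime p) (Localization.AtPrime p) by
      calc (3 : ℕ∞) = 1 + 2 := by norm_num
        _ ≤ _ := by gcongr; norm_num
    refine le_of_le_of_eq ((Alg6.one_le_depth_atPrime_iff (R := A) (M := A) p).2 fun hass => ?_)
      (LC.idealDepth_congr _ (LC.selfLoc p.primeCompl))
    -- a prime strictly between `p` and the maximal ideal
    obtain ⟨Q, hPQ, hQ⟩ : ∃ Q, P < Q ∧ Order.coheight Q = 1 := by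
      have h2 : ¬ Order.coheight P ≤ ((1 : ℕ) : ℕ∞) := by rw [← hn]; norm_num
      rw [Order.coheight_le_coe_iff] at h2
      push Not at h2
      obtain ⟨Q, hPQ, hQ⟩ := h2
      refine ⟨Q, hPQ, le_antisymm ?_ (by exact_mod_cast hQ)⟩
      have := Order.coheight_add_one_le hPQ
      rw [← hn] at this
      exact (ENat.add_le_add_iff_right (show (1 : ℕ∞) ≠ ⊤ by simp)).1 (this.trans (by norm_num))
    let q := Q.asIdeal
    have h2 := hdepth q Q.2 (by rw [← Groth.Agent.VarDim.coheight_eq_ringKrullDim_quotient Q, hQ]; rfl)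
    let Aq := Localization.AtPrime q
    haveI : IsNoetherianRing Aq := IsLocalization.isNoetherianRing q.primeCompl _ inferInstance
    have hd : Disjoint (q.primeCompl : Set A) p :=
      Set.disjoint_left.2 fun x hxq hxp => hxq (hPQ.le hxp)
    let P' : PrimeSpectrum Aq := ⟨p.map (algebraMap A Aq),
      IsLocalization.isPrime_of_isPrime_disjoint q.primeCompl Aq p hp hd⟩
    have hP' : P'.asIdeal.comap (algebraMap A Aq) = p :=
      IsLocalization.under_map_of_isPrime_disjoint q.primeCompl Aq hp hd
    have hassq : P'.asIdeal ∈ associatedPrimes Aq Aq :=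
      Module.associatedPrimes.mem_associatedPrimes_of_comap_mem_associatedPrimes_of_isLocalizedModule
        q.primeCompl (Algebra.linearMap A Aq) P'.asIdeal (by rw [hP']; exact hass)
    have hco : Order.coheight P' ≤ ((1 : ℕ) : ℕ∞) := by
      rw [Order.coheight_le_coe_iff]
      intro y hy
      rw [Nat.cast_one, ENat.lt_one_iff_eq_zero, Order.coheight_eq_zero]
      intro z hyz
      by_contra hzy
      have hsm : StrictMono (PrimeSpectrum.comap (algebraMap A Aq)) := fun a b hab =>
        lt_of_le_of_ne (Ideal.comap_mono hab.le) fun h =>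
          hab.ne (PrimeSpectrum.localization_comap_injective Aq q.primeCompl h)
      have a1 : P < PrimeSpectrum.comap (algebraMap A Aq) y := by
        have := hsm hy
        rwa [show PrimeSpectrum.comap (algebraMap A Aq) P' = P from PrimeSpectrum.ext hP'] at this
      have a2 := hsm (lt_of_le_not_ge hyz hzy)
      have a3 : PrimeSpectrum.comap (algebraMap A Aq) z < IsLocalRing.closedPoint A := by
        refine lt_of_le_of_lt (b := Q) ?_ (lt_of_le_of_ne (IsLocalRing.le_maximalIdeal Q.2.ne_top) fun h => ?_)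
        · intro x hx
          by_contra hxq
          exact z.2.ne_top (Ideal.eq_top_of_isUnit_mem _ hx (IsLocalization.map_units Aq (⟨x, hxq⟩ : q.primeCompl)))
        · have hmax : IsMax Q := h ▸ fun x _ => IsLocalRing.le_maximalIdeal x.2.ne_top
          rw [Order.IsMax.coheight_eq_zero hmax] at hQ
          exact zero_ne_one hQ
      have b1 := Order.coheight_add_one_le a3
      have b2 := (add_le_add_left b1 1).trans (Order.coheight_add_one_le a2)
      have b3 := (add_le_add_left b2 1).trans (Order.coheight_add_one_le a1)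
      rw [← hn] at b3
      have h3 : (3 : ℕ∞) ≤ 2 := le_trans (by
        rw [add_assoc, add_assoc]
        calc (3 : ℕ∞) = 0 + (1 + (1 + 1)) := by norm_num
          _ ≤ _ := by gcongr; exact bot_le) b3
      exact absurd h3 (by norm_num)
    have := (h2.trans (LC.depth_le_coheight_of_ass Aq hassq)).trans hco
    exact absurd this (by norm_num)
  · exact le_trans (by exact_mod_cast h3) (le_add_self)

/-- The pair given by the closed point is pure once its hypersurface section is. -/
theorem isPurePair_of_hypersurface [IsNoetherianRing A] (hq : ∃ (B : Type u) (_ : CommRing B) (_ : IsRegularLocalRing B) (φ : B →+* A), Function.Surjective φ)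
    (t : A) (ht : t ∈ maximalIdeal A) [IsAdicComplete (Ideal.span {t}) A]
    (hdepth : ∀ p : Ideal A, ∀ _ : p.IsPrime, ringKrullDim (A ⧸ p) = 1 →
      (2 : ℕ∞) ≤ LocCoh.depth (Localization.AtPrime p) (Localization.AtPrime p))
    [IsLocalRing (A ⧸ Ideal.span {t})]
    (hB : SGA2.IsPurePair (Spec (CommRingCat.of (A ⧸ Ideal.span {t}))) (FEt.puncturedSpec (A ⧸ Ideal.span {t}))) :
    SGA2.IsPurePair (Spec (CommRingCat.of A)) (FEt.puncturedSpec A) := by
  have hd := exists_isDualizing_of_quotient hq
  have hc : ∀ p : Ideal A, ∀ _ : p.IsPrime, t ∉ p →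
      (2 : WithBot ℕ∞) < (LocCoh.depth (Localization.AtPrime p) (Localization.AtPrime p) : WithBot ℕ∞) +
        ringKrullDim (A ⧸ p) := fun p _ htp => two_lt_depth_add_dim ht hdepth p htp
  obtain ⟨G, n, hG, h0, h1⟩ := HyperFF.exists_t01_base A t
    (HyperDual.exists_pow_smul_H t ht hd (Or.inr hc) 1 (by omega))
    (HyperDual.exists_pow_smul_H t ht hd (Or.inr hc) 2 (by omega))
  haveI : HenselianRing A (Ideal.span {t}) := IsAdicComplete.henselianRing A _
  obtain ⟨hfull, hfaith⟩ := HyperFF.full_faithful hG t ht h0 h1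
  haveI := hfull
  haveI := hfaith
  let mk := Spec.map (CommRingCat.ofHom (Ideal.Quotient.mk (Ideal.span {t})))
  haveI : (FEt.restrict mk).IsEquivalence := Groth.Agent.S0239.result A _
  haveI : (FEt.restrict (pullback.snd (FEt.puncturedSpec A).ι mk)).IsEquivalence :=
    PureDescent.isEquivalence_of_range_eq _ _ (range_snd_hyp t) (isPurePair_punctured_iff.1 hB)
  exact isPurePair_punctured_iff.2
    (isEquivalence_of_comp (pullback.fst (FEt.puncturedSpec A).ι mk) _
      (pullback.snd (FEt.puncturedSpec A).ι mk) mk pullback.condition)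

end Groth.Agent.SGA10
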