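import Groth.Agent.SGA10.Main
import Groth.Agent.S0250
import Groth.Agent.Pi1Ext.FlatUnram

/-!
# Purity statements deduced from the extension theorem
-/

set_option autoImplicit false
set_option linter.style.haveILetI false
universe u

open CategoryTheory CategoryTheory.Limits AlgebraicGeometry IsLocalRing

noncomputable section

namespace Groth.Agent.SGA10

open Groth.Agent.Pi1Ext Spread

set_option backward.isDefEq.respectTransparency false
set_option backward.isDefEq.respectTransparency.types false

/-- Essential surjectivity of restriction passes along a commutative square of isomorphisms. -/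
theorem essSurj_of_square {U X U' X' : Scheme.{u}} (ι : U ⟶ X) (ι' : U' ⟶ X') (s : X' ⟶ X) (τ : U' ⟶ U)
    [IsIso τ] (w : τ ≫ ι = ι' ≫ s) (h : (FEt.restrict ι).EssSurj) : (FEt.restrict ι').EssSurj := by
  haveI := h
  refine ⟨fun V => ⟨(FEt.restrict s).obj ((FEt.restrict ι).objPreimage ((FEt.restrict (inv τ)).obj V)), ⟨?_⟩⟩⟩
  exact restrictSquare ι' s τ ι w.symm _ ≪≫
    (FEt.restrict τ).mapIso ((FEt.restrict ι).objObjPreimageIso _) ≪≫
    (restrictComp τ (inv τ) (𝟙 _) (IsIso.hom_inv_id τ).symm V).symm ≪≫ restrictId V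

/-- Purity is invariant under ring isomorphisms. -/
theorem purityHolds_of_equiv {A A' : Type u} [CommRing A] [IsLocalRing A] [CommRing A'] [IsLocalRing A']
    (e : A ≃+* A') (h : FEt.PurityHolds A) : FEt.PurityHolds A' := by
  let s : Spec (CommRingCat.of A') ⟶ Spec (CommRingCat.of A) := Spec.map e.toCommRingCatIso.hom
  have hr : Set.range ((FEt.puncturedSpec A').ι ≫ s).base = Set.range (FEt.puncturedSpec A).ι.base := by
    rw [Scheme.Hom.comp_base, TopCat.coe_comp, Set.range_comp, Scheme.Opens.range_ι, Scheme.Opens.range_ι]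
    have hcl : s (IsLocalRing.closedPoint A') = IsLocalRing.closedPoint A :=
      PrimeSpectrum.ext (IsLocalRing.eq_maximalIdeal
        (Ideal.comap_isMaximal_of_surjective (e : A →+* A') e.surjective (K := maximalIdeal A')))
    show s '' ({IsLocalRing.closedPoint A'}ᶜ) = {IsLocalRing.closedPoint A}ᶜ
    refine (Set.image_compl_eq (s.homeomorph.bijective)).trans ?_
    exact congrArg compl (Set.image_singleton.trans (congrArg (fun x => ({x} : Set _)) hcl))
  exact essSurj_of_square _ _ s
    (IsOpenImmersion.isoOfRangeEq ((FEt.puncturedSpec A').ι ≫ s) (FEt.puncturedSpec A).ι hr).hom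
    (IsOpenImmersion.isoOfRangeEq_hom_fac _ _ hr) h

variable {A : Type u} [CommRing A] [IsLocalRing A] [IsNoetherianRing A]

/-- With purity at the closed points of the complement, restriction to the hypersurface section is
essentially surjective. -/
theorem essSurj_of_extension {f : A} (hf : f ∈ maximalIdeal A)
    (hext : ∀ V₀ : FEt.Cat (hyp f),
      ∃ (U' : (Spec (CommRingCat.of A)).Opens) (_ : U' ≤ (FEt.puncturedSpec A)) (u' : hyp f ⟶ (U' : Scheme.{u}))
        (_ : u' ≫ U'.ι = (pullback.fst (FEt.puncturedSpec A).ι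
          (Spec.map (CommRingCat.ofHom (Ideal.Quotient.mk (Ideal.span {f})))) ≫ (FEt.puncturedSpec A).ι))
        (V' : FEt.Cat (U' : Scheme.{u})), Nonempty ((FEt.restrict u').obj V' ≅ V₀))
    (hp : ∀ P : Ideal (Localization.Away f), ∀ _ : P.IsMaximal, FEt.PurityHolds (Localization.AtPrime P)) :
    (FEt.restrict (pullback.fst (FEt.puncturedSpec A).ι
      (Spec.map (CommRingCat.ofHom (Ideal.Quotient.mk (Ideal.span {f})))))).EssSurj := by
  refine ⟨fun V₀ => ?_⟩
  obtain ⟨U', hle, u', hu', V', ⟨eV⟩⟩ := hext V₀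
  let ι := (FEt.puncturedSpec A).ι
  let X : Scheme.{u} := (FEt.puncturedSpec A : Scheme.{u})
  haveI : IsNoetherian X :=
    { isLocallyNoetherian_of_isOpenImmersion ι, (inferInstance : CompactSpace X) with }
  let W : X.Opens := ι ⁻¹ᵁ U'
  have hW : Set.range (W.ι ≫ ι).base = Set.range U'.ι.base := by
    rw [Scheme.Hom.comp_base, TopCat.coe_comp, Set.range_comp, Scheme.Opens.range_ι, Scheme.Opens.range_ι]
    show ι '' (ι ⁻¹' U') = _
    rw [Set.image_preimage_eq_inter_range, Scheme.Opens.range_ι]
    exact Set.inter_eq_left.2 hle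
  let θ := IsOpenImmersion.isoOfRangeEq (W.ι ≫ ι) U'.ι hW
  have hθ : θ.hom ≫ U'.ι = W.ι ≫ ι := IsOpenImmersion.isoOfRangeEq_hom_fac _ _ hW
  have hstalk : ∀ x : X, x ∉ W → FEt.PurityHolds (X.presheaf.stalk x) := fun x hx => by
    -- a point outside is closed away from `f`
    let p : PrimeSpectrum A := ι x
    have hxU : p ∉ U'.carrier := hx
    have hpm : p ≠ IsLocalRing.closedPoint A := x.2
    have hclosed : ∀ q : PrimeSpectrum A, p.asIdeal ≤ q.asIdeal → f ∈ q.asIdeal → q = IsLocalRing.closedPoint A := by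
      intro q hpq hfq
      by_contra hq
      have hq' : q ∈ Set.range (pullback.fst ι (Spec.map (CommRingCat.ofHom (Ideal.Quotient.mk (Ideal.span {f})))) ≫ ι).base := by
        obtain ⟨z, hz⟩ : q ∈ Set.range ι.base := by rw [Scheme.Opens.range_ι]; exact hq
        have : z ∈ Set.range (pullback.fst ι (Spec.map (CommRingCat.ofHom (Ideal.Quotient.mk (Ideal.span {f}))))).base := by
          rw [HyperFF.range_hyper]
          show f ∈ (ι.base z : PrimeSpectrum A).asIdeal
          rw [hz]
          exact hfq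
        obtain ⟨w, rfl⟩ := this
        exact ⟨w, hz⟩
      rw [← hu'] at hq'
      obtain ⟨w, hw⟩ := hq'
      have hqU : q ∈ U'.carrier := hw ▸ (u' w).2
      exact hxU (U'.2.stableUnderGeneralization ((PrimeSpectrum.le_iff_specializes p q).1 hpq) hqU)
    have hfp : f ∉ p.asIdeal := fun h => hpm (hclosed p le_rfl h)
    let Af := Localization.Away f
    have hdisj : Disjoint (Submonoid.powers f : Set A) p.asIdeal := by
      rw [Set.disjoint_left]
      rintro _ ⟨n, rfl⟩ hn
      exact hfp (p.2.mem_of_pow_mem n hn)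
    let P : Ideal Af := p.asIdeal.map (algebraMap A Af)
    haveI hPp : P.IsPrime := IsLocalization.isPrime_of_isPrime_disjoint (Submonoid.powers f) Af p.asIdeal p.2 hdisj
    have hP : P.comap (algebraMap A Af) = p.asIdeal :=
      IsLocalization.under_map_of_isPrime_disjoint (Submonoid.powers f) Af p.2 hdisj
    have hmax : P.IsMaximal := by
      obtain ⟨Q, hQ, hPQ⟩ := Ideal.exists_le_maximal P hPp.ne_top
      suffices hh : Q.comap (algebraMap A Af) ≤ p.asIdeal by
        have : Q = P := le_antisymm (by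
          rw [← IsLocalization.map_comap (Submonoid.powers f) Af Q]
          exact Ideal.map_mono hh) hPQ
        exact this ▸ hQ
      -- the closure meets the hypersurface only at the closed point
      haveI := hQ.isPrime
      let q : Ideal A := Q.comap (algebraMap A Af)
      haveI : q.IsPrime := Ideal.comap_isPrime _ _
      have hpq : p.asIdeal ≤ q := by rw [← hP]; exact Ideal.comap_mono hPQ
      have hfq : f ∉ q := fun h => hQ.ne_top (Ideal.eq_top_of_isUnit_mem _ h (IsLocalization.Away.algebraMap_isUnit f))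
      by_contra hne
      have hlt : p.asIdeal < q := lt_of_le_of_ne hpq fun he => hne he.ge
      have hqm : q < maximalIdeal A :=
        lt_of_le_of_ne (le_maximalIdeal (Ideal.IsPrime.ne_top inferInstance)) fun he => hfq (he ▸ hf)
      obtain ⟨Q', hQ', hpQ', hfQ', hQm⟩ := FlatUnram.exists_prime_between hlt hqm f hf
      exact hQm (congrArg PrimeSpectrum.asIdeal (hclosed ⟨Q', hQ'⟩ hpQ' hfQ'))
    haveI : IsLocalization.AtPrime (Localization.AtPrime P) (P.comap (algebraMap A Af)) :=
      IsLocalization.isLocalization_isLocalization_atPrime_isLocalization (Submonoid.powers f) (Localization.AtPrime P) P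
    haveI : IsLocalization p.asIdeal.primeCompl (Localization.AtPrime P) := by
      convert (‹IsLocalization.AtPrime (Localization.AtPrime P) (P.comap (algebraMap A Af))› :) using 2
      exact hP.symm
    let e₁ : Localization.AtPrime P ≃+* Localization.AtPrime p.asIdeal :=
      (IsLocalization.algEquiv p.asIdeal.primeCompl (Localization.AtPrime P) (Localization.AtPrime p.asIdeal)).toRingEquiv
    refine purityHolds_of_equiv (e₁.trans ?_) (hp P hmax)
    exact (StructureSheaf.stalkIso A p).toRingEquiv.trans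
      (Scheme.Opens.stalkIso (FEt.puncturedSpec A) x).commRingCatIsoToRingEquiv.symm
  obtain ⟨Y, ⟨eY⟩⟩ := (Groth.Agent.S0250.result W hstalk).mem_essImage ((FEt.restrict θ.hom).obj V')
  refine ⟨Y, ⟨?_⟩⟩
  let i := pullback.fst ι (Spec.map (CommRingCat.ofHom (Ideal.Quotient.mk (Ideal.span {f}))))
  have hi : (u' ≫ θ.inv) ≫ W.ι = i := by
    rw [← cancel_mono ι, Category.assoc, Category.assoc, ← hθ, Iso.inv_hom_id_assoc]
    exact hu'
  exact restrictComp (u' ≫ θ.inv) W.ι i hi.symm Y ≪≫ (FEt.restrict (u' ≫ θ.inv)).mapIso eY ≪≫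
    (restrictComp (u' ≫ θ.inv) θ.hom u' (by rw [Category.assoc, Iso.inv_hom_id, Category.comp_id]) V').symm ≪≫ eV

/-- Purity passes to the hypersurface section. -/
theorem purityHolds_quotient {f : A} [IsLocalRing (A ⧸ Ideal.span {f})]
    (h : (FEt.restrict (pullback.fst (FEt.puncturedSpec A).ι
      (Spec.map (CommRingCat.ofHom (Ideal.Quotient.mk (Ideal.span {f})))))).EssSurj)
    (hA : FEt.PurityHolds A) : FEt.PurityHolds (A ⧸ Ideal.span {f}) := by
  haveI : (FEt.restrict (FEt.puncturedSpec A).ι).EssSurj := hA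
  haveI := h
  let i := pullback.fst (FEt.puncturedSpec A).ι (Spec.map (CommRingCat.ofHom (Ideal.Quotient.mk (Ideal.span {f}))))
  let κ := hypIso f
  refine ⟨fun Vb => ?_⟩
  let V := (FEt.restrict i).objPreimage ((FEt.restrict κ.hom).obj Vb)
  let Y := (FEt.restrict (FEt.puncturedSpec A).ι).objPreimage V
  refine ⟨(FEt.restrict (Spec.map (CommRingCat.ofHom (Ideal.Quotient.mk (Ideal.span {f}))))).obj Y, ⟨?_⟩⟩
  exact restrictSquare _ _ (κ.inv ≫ i) (FEt.puncturedSpec A).ι (hypIso_inv_fst f).symm Y ≪≫
    (FEt.restrict (κ.inv ≫ i)).mapIso ((FEt.restrict _).objObjPreimageIso V) ≪≫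
    restrictComp κ.inv i (κ.inv ≫ i) rfl V ≪≫
    (FEt.restrict κ.inv).mapIso ((FEt.restrict i).objObjPreimageIso _) ≪≫
    (restrictComp κ.inv κ.hom (𝟙 _) κ.inv_hom_id.symm Vb).symm ≪≫ restrictId Vb

end Groth.Agent.SGA10
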