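import Groth.Agent.Pi1Ext.BranchAlg
import Groth.Agent.S0391
import Groth.Agent.S2784
import Mathlib.RingTheory.Localization.BaseChange
import Mathlib.RingTheory.Smooth.Flat

/-!
# A finite algebra étale modulo a regular element is étale near the corresponding locus
-/

set_option autoImplicit false
set_option linter.style.haveILetI false
universe u

open IsLocalRing TensorProduct

noncomputable section

namespace Groth.Agent.SGA10

open Groth.Agent.Pi1Ext Groth.Agent.Pi1Ext.RegPurity

set_option backward.isDefEq.respectTransparency false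
set_option backward.isDefEq.respectTransparency.types false
attribute [local instance] Algebra.TensorProduct.rightAlgebra

variable {B : Type u} [CommRing B] [IsNoetherianRing B] {M : Type u} [CommRing M] [Algebra B M] [Module.Finite B M]

/-- Étaleness modulo a regular element away from `g` gives étaleness near each prime of the
hypersurface avoiding `g`. -/
theorem exists_etAway_of_mod {t g : B} (hreg : IsSMulRegular M t)
    (hg : EtAway (B ⧸ Ideal.span {t}) ((B ⧸ Ideal.span {t}) ⊗[B] M) (Ideal.Quotient.mk _ g))
    (P : Ideal B) [P.IsPrime] (htP : t ∈ P) (hgP : g ∉ P) : ∃ h ∉ P, EtAway B M h := by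
  let A := B ⧸ Ideal.span {t}
  let R := Localization.AtPrime P
  let t' := algebraMap B R t
  have htm : t' ∈ maximalIdeal R := (IsLocalization.AtPrime.to_map_mem_maximal_iff R P t).2 htP
  have bc : ∀ (E : Type u) [CommRing E] [Algebra B E], algebraMap B E t = 0 → IsUnit (algebraMap B E g) →
      Algebra.Etale E (E ⊗[B] M) := by
    intro E _ _ h0 hu
    let φ : A →+* E := Ideal.Quotient.lift _ (algebraMap B E) fun x hx => by
      obtain ⟨c, rfl⟩ := Ideal.mem_span_singleton'.1 hx
      rw [map_mul, h0, mul_zero]
    letI : Algebra A E := φ.toAlgebra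
    haveI : IsScalarTower B A E := IsScalarTower.of_algebraMap_eq fun _ => rfl
    haveI : Algebra.Etale E (E ⊗[A] (A ⊗[B] M)) := etale_tensor_of_etAway hg E hu
    exact Algebra.Etale.of_equiv (Algebra.TensorProduct.cancelBaseChange B A E E M)
  have hgR : IsUnit (algebraMap B R g) := IsLocalization.map_units R (⟨g, hgP⟩ : P.primeCompl)
  let S := R ⊗[B] M
  haveI : IsNoetherianRing R := IsLocalization.isNoetherianRing P.primeCompl R inferInstance
  haveI : Algebra.FinitePresentation B M := Algebra.FinitePresentation.of_finiteType.mp inferInstance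
  have hI : (Ideal.span {t'} : Ideal R) ≠ ⊤ := fun h => (maximalIdeal.isMaximal R).ne_top
    (top_le_iff.1 (h.ge.trans ((Ideal.span_singleton_le_iff_mem _).2 htm)))
  have hflat : Module.Flat R S := by
    refine Groth.Agent.S0391.result (S := R) (Ideal.span {t'}) hI ?_ ?_
    · have hreg' : Function.Injective ((LinearMap.lsmul B M t).lTensor R) :=
        Module.Flat.lTensor_preserves_injective_linearMap _ hreg
      have hS : ∀ s : S, t' • s = 0 → s = 0 := fun s hs => hreg' (by
        rw [map_zero]
        refine Eq.trans ?_ hs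
        clear hs
        induction s using TensorProduct.induction_on with
        | zero => simp
        | tmul a m => rw [LinearMap.lTensor_tmul, LinearMap.lsmul_apply, TensorProduct.tmul_smul,
            show t' • (a ⊗ₜ[B] m) = algebraMap B R t • (a ⊗ₜ[B] m) from rfl, algebraMap_smul]
        | add x y hx hy => rw [map_add, hx, hy, smul_add])
      have hall : ∀ z : (Ideal.span {t'} : Ideal R) ⊗[R] S, ∃ s : S,
          z = (⟨t', Ideal.mem_span_singleton_self t'⟩ : (Ideal.span {t'} : Ideal R)) ⊗ₜ[R] s := fun z => by
        induction z using TensorProduct.induction_on with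
        | zero => exact ⟨0, (TensorProduct.tmul_zero _ _).symm⟩
        | tmul a s =>
          obtain ⟨c, hc⟩ := Ideal.mem_span_singleton'.1 a.2
          refine ⟨c • s, ?_⟩
          rw [TensorProduct.tmul_smul, TensorProduct.smul_tmul']
          exact congrArg (· ⊗ₜ[R] s) (Subtype.ext hc.symm)
        | add x y hx hy =>
          obtain ⟨a, rfl⟩ := hx
          obtain ⟨b, rfl⟩ := hy
          exact ⟨a + b, (TensorProduct.tmul_add _ _ _).symm⟩
      refine (injective_iff_map_eq_zero _).2 fun z hz => ?_
      obtain ⟨s, rfl⟩ := hall z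
      have h1 := congrArg (TensorProduct.lid R S) hz
      rw [LinearMap.rTensor_tmul, TensorProduct.lid_tmul, map_zero] at h1
      rw [hS s h1, TensorProduct.tmul_zero]
    · let E := R ⧸ Ideal.span {t'}
      haveI : Algebra.Etale E (E ⊗[B] M) := bc E (Ideal.Quotient.eq_zero_iff_mem.2 (Ideal.mem_span_singleton_self t'))
        (hgR.map (Ideal.Quotient.mk (Ideal.span {t'})))
      haveI : Algebra.Smooth E (E ⊗[B] M) := {}
      haveI : Module.Flat E (E ⊗[B] M) := Algebra.Smooth.flat E (E ⊗[B] M)
      exact Module.Flat.of_linearEquiv (Algebra.TensorProduct.cancelBaseChange B R E E M).toLinearEquiv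
  haveI : Module.Finite R S := Module.Finite.base_change B R M
  haveI : Algebra.Etale R S := by
    refine (Groth.Agent.S2784.result R S).2 ⟨hflat, ?_⟩
    let k := ResidueField R
    haveI : Algebra.Etale k (k ⊗[B] M) := bc k ((IsLocalRing.residue_eq_zero_iff t').2 htm)
      (hgR.map (residue R))
    exact Algebra.Etale.of_equiv (Algebra.TensorProduct.cancelBaseChange B R k k M).symm
  haveI : Algebra.IsPushout B R M (BranchAlg.Sloc (S := M) P) :=
    (Algebra.isPushout_of_isLocalization P.primeCompl R M (BranchAlg.Sloc (S := M) P)).symm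
  haveI : Algebra.Etale R (BranchAlg.Sloc (S := M) P) :=
    Algebra.Etale.of_equiv (Algebra.IsPushout.equiv B R M (BranchAlg.Sloc (S := M) P))
  let Z : Set (PrimeSpectrum M) := (Algebra.etaleLocus B M)ᶜ
  have hZ : IsClosed (PrimeSpectrum.comap (algebraMap B M) '' Z) :=
    (PrimeSpectrum.isClosedMap_comap_of_isIntegral (algebraMap B M)
      (algebraMap_isIntegral_iff.2 (Algebra.IsIntegral.of_finite B M))) _ Algebra.isOpen_etaleLocus.isClosed_compl
  have hPZ : (⟨P, inferInstance⟩ : PrimeSpectrum B) ∈ (PrimeSpectrum.comap (algebraMap B M) '' Z)ᶜ := by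
    rintro ⟨Q, hQ, hQP⟩
    obtain ⟨q, hq, hqs, -⟩ := BranchAlg.exists_over P Q.asIdeal (congrArg PrimeSpectrum.asIdeal hQP)
    exact hQ (BranchAlg.formallyEtale_symm P Q.asIdeal q hqs inferInstance)
  obtain ⟨_, ⟨h, rfl⟩, hPh, hsub⟩ :=
    PrimeSpectrum.isTopologicalBasis_basic_opens.exists_subset_of_mem_open hPZ hZ.isOpen_compl
  refine ⟨h, hPh, Algebra.basicOpen_subset_etaleLocus_iff_etale.1 fun Q hQ => ?_⟩
  by_contra hQe
  exact hsub (show PrimeSpectrum.comap (algebraMap B M) Q ∈ PrimeSpectrum.basicOpen h from hQ) ⟨Q, hQe, rfl⟩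

end Groth.Agent.SGA10
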