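import Groth.Agent.SGA10.Build
import Groth.Agent.SGA10.Near

/-!
# Algebraisation of covers of a punctured hypersurface
-/

set_option autoImplicit false
set_option linter.style.haveILetI false
universe u

open IsLocalRing TensorProduct

noncomputable section

namespace Groth.Agent.SGA10

open Groth.Agent.Pi1Ext RegPurity

set_option backward.isDefEq.respectTransparency false
set_option backward.isDefEq.respectTransparency.types false

variable {B : Type u} [CommRing B] [IsLocalRing B] [IsNoetherianRing B]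

/-- Bijectivity away from generators of the maximal ideal is bijectivity away from every element of it. -/
theorem isoAway_of_gens {G : Finset B} (hG : Ideal.span (G : Set B) = maximalIdeal B) {I : Ideal B}
    [IsLocalRing (B ⧸ I)] {C R : Type u} [CommRing C] [Algebra B C] [Algebra (B ⧸ I) C] [IsScalarTower B (B ⧸ I) C]
    [CommRing R] [Algebra B R] [Algebra (B ⧸ I) R] [IsScalarTower B (B ⧸ I) R] (f : C →ₐ[B ⧸ I] R)
    (hf : IsoOn G (f.restrictScalars B).toLinearMap) (g : B ⧸ I) (hg : g ∈ maximalIdeal (B ⧸ I)) : IsoAway f g := by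
  obtain ⟨b, rfl⟩ := Ideal.Quotient.mk_surjective g
  have hb : b ∈ maximalIdeal B := fun hu => hg (hu.map _)
  have key : ∀ J : Ideal B, (∀ x : G, x.1 ∈ J.radical) → ∃ n : ℕ, b ^ n ∈ J := fun J hJ =>
    (show maximalIdeal B ≤ J.radical by rw [← hG, Ideal.span_le]; exact fun x hx => hJ ⟨x, hx⟩) hb
  refine ⟨fun y => ?_, fun c hc => ?_⟩
  · obtain ⟨n, hn⟩ := key ((LinearMap.range (f.restrictScalars B).toLinearMap).comap (LinearMap.toSpanSingleton B R y))
      fun x => by obtain ⟨k, c, hc⟩ := (hf x).1 y; exact ⟨k, c, hc⟩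
    obtain ⟨c, hc⟩ := hn
    refine ⟨n, c, ?_⟩
    rw [← map_pow, ← Ideal.Quotient.algebraMap_eq, algebraMap_smul]
    exact hc.symm
  · obtain ⟨n, hn⟩ := key (LinearMap.ker (LinearMap.toSpanSingleton B C c)) fun x => (hf x).2 c hc
    refine ⟨n, ?_⟩
    rw [← map_pow, ← Ideal.Quotient.algebraMap_eq, algebraMap_smul]
    exact hn

/-- Covers of the punctured hypersurface come from finite algebras étale near it. -/
theorem exists_algebraisation {t : B} (ht : t ∈ maximalIdeal B) (hreg : IsSMulRegular B t)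
    [IsAdicComplete (Ideal.span {t}) B] (J : Ideal B) (hJ : J = Ideal.span {t}) [IsLocalRing (B ⧸ J)]
    (h1 : Module.Finite B (LocCoh.H (maximalIdeal B) 1 (B ⧸ J)))
    (h2 : Module.Finite B (LocCoh.H (maximalIdeal B) 2 (B ⧸ J)))
    (C : Type u) [CommRing C] [Algebra (B ⧸ J) C] [Module.Finite (B ⧸ J) C] (hC : EtOff (B ⧸ J) C) :
    ∃ (M : Type u) (_ : CommRing M) (_ : Algebra B M) (_ : Module.Finite B M),
      (∀ (P : Ideal B) [P.IsPrime], t ∈ P → P ≠ maximalIdeal B → ∃ h ∉ P, EtAway B M h) ∧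
        ∃ (R : Type u) (_ : CommRing R) (_ : Algebra (B ⧸ J) R) (u : (B ⧸ J) ⊗[B] M →ₐ[B ⧸ J] R)
          (v : C →ₐ[B ⧸ J] R),
          (∀ g ∈ maximalIdeal (B ⧸ J), IsoAway u g) ∧ ∀ g ∈ maximalIdeal (B ⧸ J), IsoAway v g := by
  obtain ⟨G, hG⟩ := IsNoetherian.noetherian (maximalIdeal B)
  replace hG : Ideal.span (G : Set B) = maximalIdeal B := hG
  have hGm : ∀ g ∈ G, g ∈ maximalIdeal B := fun g hg => hG ▸ Ideal.subset_span hg
  obtain rfl : J = Ideal.span {t ^ (0 + 1)} := by rw [hJ, zero_add, pow_one]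
  let A := Qn t 0
  letI : Algebra B C := ((algebraMap A C).comp (algebraMap B A)).toAlgebra
  haveI : IsScalarTower B A C := IsScalarTower.of_algebraMap_eq fun _ => rfl
  haveI : IsNoetherian B A := isNoetherian_of_isNoetherianRing_of_finite B A
  obtain ⟨T, κ, hκ⟩ := exists_tower (G := G) hreg ht hGm C (fun {_} => hC)
  have hfac : Fac G A C := fac_of_etOff hGm C hC
  haveI : IsNoetherian B (Γ0 G A) := isNoetherian_Γ0 (maximalIdeal B) G hG A h1
  haveI : IsNoetherian B (H1 G A) := isNoetherian_H1 (maximalIdeal B) G hG A h2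
  haveI := isNoetherian_Γ0_of_fac hfac
  haveI := isNoetherian_H1_of_fac hfac
  haveI : IsNoetherian B (Γ0 G (T.D 0)) := (isNoetherian_of_isoOn hκ).1 ‹_›
  haveI : IsNoetherian B (H1 G (T.D 0)) := (isNoetherian_of_isoOn hκ).2 ‹_›
  haveI : IsNoetherian B (T.D 0) := by
    let d : T.D 0 →ₗ[B] Γ0 G (T.D 0) := (CechTors.diag G).codRestrict _ fun x => CechTors.δ_diag G x
    refine isNoetherian_of_injective d ((injective_iff_map_eq_zero _).2 fun x hx => (T.sat 0).sep x fun g => ?_)
    have h3 : LocalizedModule.mk x (1 : Submonoid.powers g.1) = LocalizedModule.mk (0 : T.D 0) 1 :=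
      (congrFun (congrArg Subtype.val hx) g).trans (LocalizedModule.zero_mk _).symm
    obtain ⟨⟨_, k, rfl⟩, hk⟩ := LocalizedModule.mk_eq.1 h3
    exact ⟨k, by simpa [Submonoid.smul_def] using hk⟩
  haveI : Module.Finite B T.lim := T.finite_lim
  let M : Type u := T.lim
  let φ : A →+* T.D 0 := Ideal.Quotient.lift _ (algebraMap B (T.D 0)) fun x hx => by
    obtain ⟨c, rfl⟩ := Ideal.mem_span_singleton'.1 hx
    rw [map_mul]
    have := T.tors 0 (1 : T.D 0)
    rw [Algebra.smul_def, mul_one] at this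
    rw [this, mul_zero]
  letI : Algebra A (T.D 0) := φ.toAlgebra
  haveI : IsScalarTower B A (T.D 0) := IsScalarTower.of_algebraMap_eq fun _ => rfl
  let v : C →ₐ[A] T.D 0 :=
    { κ.toRingHom with
      commutes' := fun a => by
        obtain ⟨b, rfl⟩ := Ideal.Quotient.mk_surjective a
        exact (κ.commutes b) }
  have hv : IsoOn G (v.restrictScalars B).toLinearMap := hκ
  let u : A ⊗[B] T.lim →ₐ[A] T.D 0 :=
    Algebra.TensorProduct.lift (Algebra.ofId A (T.D 0)) T.π0 fun _ _ => Commute.all _ _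
  have hu1 : ∀ s : T.lim, u ((1 : A) ⊗ₜ[B] s) = T.π0 s := fun s => by simp [u]
  have hz : ∀ z : A ⊗[B] T.lim, ∃ s : T.lim, z = (1 : A) ⊗ₜ[B] s := fun z => by
    induction z using TensorProduct.induction_on with
    | zero => exact ⟨0, (TensorProduct.tmul_zero _ _).symm⟩
    | tmul a s =>
      obtain ⟨b, rfl⟩ := Ideal.Quotient.mk_surjective a
      refine ⟨b • s, ?_⟩
      rw [TensorProduct.tmul_smul, TensorProduct.smul_tmul', Algebra.smul_def, mul_one]
      rfl
    | add x y hx hy =>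
      obtain ⟨a, rfl⟩ := hx
      obtain ⟨b, rfl⟩ := hy
      exact ⟨a + b, (TensorProduct.tmul_add _ _ _).symm⟩
  have hu : IsoOn G (u.restrictScalars B).toLinearMap := fun g => by
    refine ⟨fun y => ?_, fun z hz0 => ⟨0, ?_⟩⟩
    · obtain ⟨k, s, hs⟩ := T.π0_away g y
      exact ⟨k, (1 : A) ⊗ₜ[B] s, (hu1 s).trans hs⟩
    · obtain ⟨s, rfl⟩ := hz z
      obtain ⟨s', rfl⟩ := T.exists_eq_smul (s := s) (by rw [← T.π0_apply, ← hu1]; exact hz0)
      rw [pow_zero, one_smul, TensorProduct.tmul_smul, TensorProduct.smul_tmul', Algebra.smul_def, mul_one,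
        show (algebraMap B A) t = 0 from Ideal.Quotient.eq_zero_iff_mem.2 (Ideal.mem_span_singleton.2 (by simp)),
        TensorProduct.zero_tmul]
  refine ⟨T.lim, inferInstance, inferInstance, inferInstance, fun P _ htP hPm => ?_,
    T.D 0, inferInstance, inferInstance, u, v, isoAway_of_gens hG u hu, isoAway_of_gens hG v hv⟩
  obtain ⟨g, hg, hgP⟩ : ∃ g ∈ G, g ∉ P := by
    by_contra! hall
    exact hPm (((maximalIdeal.isMaximal B).eq_of_le (Ideal.IsPrime.ne_top inferInstance)
      (hG ▸ Ideal.span_le.2 hall)).symm)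
  have hgA := mk_mem_max (Ideal.span {t ^ (0 + 1)}) (hGm g hg)
  have het : EtAway A (A ⊗[B] T.lim) (Ideal.Quotient.mk _ g) :=
    PuritySch.etAway_of_isoAway (isoAway_of_gens hG u hu _ hgA)
      ((isoAway_of_gens hG v hv _ hgA).etale (hC _ hgA))
  exact exists_etAway_of_mod (t := t ^ (0 + 1)) (by
    rw [zero_add, pow_one]
    exact fun x y h => sub_eq_zero.1 (T.smul_cancel (by rw [smul_sub]; exact sub_eq_zero.2 h)))
    het P (by rw [zero_add, pow_one]; exact htP) hgP

end Groth.Agent.SGA10
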