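import Groth.Agent.SGA10.Cech

/-!
# The cohomology of a locally projective algebra on the punctured spectrum is Noetherian
-/

set_option autoImplicit false
set_option linter.style.haveILetI false
universe u

open CategoryTheory

set_option backward.isDefEq.respectTransparency false
set_option backward.isDefEq.respectTransparency.types false

noncomputable section

namespace Groth.Agent.SGA10

open Groth.Agent.LC Groth.Agent.Pi1Ext.CechTors

variable {A : Type u} [CommRing A] [IsNoetherianRing A] (I : Ideal A)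

/-- A torsion quotient of a torsion free module embeds into the first cohomology of the submodule. -/
theorem exists_injective_H1 {N : Type u} [AddCommGroup N] [Module A N] (N' : Submodule A N)
    (htf : ∀ (x : N) (n : ℕ), (∀ a ∈ I ^ n, a • x = 0) → x = 0) (hq : LocCoh.IsPowerTorsion I (N ⧸ N')) :
    ∃ φ : (N ⧸ N') →ₗ[A] LocCoh.H I 1 N', Function.Injective φ := by
  let S : ShortComplex (ModuleCat.{u} A) :=
    ShortComplex.mk (ModuleCat.ofHom N'.subtype) (ModuleCat.ofHom N'.mkQ) (by ext y; simp)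
  have hS : S.ShortExact :=
    { exact := (ShortComplex.ShortExact.moduleCat_exact_iff_function_exact _).2 (LinearMap.exact_subtype_mkQ _)
      mono_f := (ModuleCat.mono_iff_injective _).2 (Submodule.injective_subtype _)
      epi_g := (ModuleCat.epi_iff_surjective _).2 (Submodule.mkQ_surjective _) }
  have h0 : Subsingleton ((localCohomology I 0).obj S.X₂) := by
    refine subsingleton_of_forall_eq 0 fun z => (H0Equiv I S.X₂).injective ?_
    rw [map_zero]
    obtain ⟨n, hn⟩ := (H0Equiv I S.X₂ z).2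
    exact Subtype.ext (htf _ n hn)
  let j : (N ⧸ N') →ₗ[A] DRing.torsionSub I S.X₃ :=
    { toFun := fun q => ⟨q, hq q⟩, map_add' := fun _ _ => rfl, map_smul' := fun _ _ => rfl }
  refine ⟨(δH I 0 hS 1 rfl).comp ((H0Equiv I S.X₃).symm.toLinearMap.comp j),
    (injective_iff_map_eq_zero _).2 fun q hq0 => ?_⟩
  obtain ⟨w, hw⟩ := (exact₃ I 0 hS 1 rfl _).1 hq0
  rw [@Subsingleton.elim _ h0 w 0, map_zero] at hw
  have := congrArg (H0Equiv I S.X₃) hw
  rw [map_zero] at this
  simp only [LinearMap.comp_apply, LinearEquiv.coe_coe, LinearEquiv.apply_symm_apply] at this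
  exact (congrArg Subtype.val this).symm

/-- Noetherianness of local cohomology passes along linear equivalences. -/
theorem isNoetherian_H_of_equiv (i : ℕ) {N N' : Type u} [AddCommGroup N] [Module A N] [AddCommGroup N']
    [Module A N'] (e : N ≃ₗ[A] N') (h : IsNoetherian A (LocCoh.H I i N)) : IsNoetherian A (LocCoh.H I i N') :=
  isNoetherian_of_linearEquiv (Functor.mapIso (localCohomology I i) e.toModuleIso).toLinearEquiv

variable (G : Finset A) (hI : Ideal.span (G : Set A) = I) (M : Type u) [AddCommGroup M] [Module A M]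

/-- Sections on the punctured spectrum. -/
abbrev Γ0 : Submodule A (P0 G M) := LinearMap.ker (δ G : P0 G M →ₗ[A] P1 G M)

include hI

theorem isNoetherian_Γ0 [IsNoetherian A M] (h1 : Module.Finite A (LocCoh.H I 1 M)) : IsNoetherian A (Γ0 G M) := by
  obtain ⟨⟨φ, hφ⟩, -⟩ := exists_surjective_H (M := M) G I hI
  let N : Submodule A (Γ0 G M) := (LinearMap.range (diag G : M →ₗ[A] P0 G M)).comap (Γ0 G M).subtype
  have hle : LinearMap.range (diag G : M →ₗ[A] P0 G M) ≤ Γ0 G M := by rintro _ ⟨y, rfl⟩; exact δ_diag G y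
  obtain ⟨ψ, hψ⟩ := exists_injective_H1 I N
    (fun y n hy => Subtype.ext (torsionFree_eq_zero G I hI fun a ha => congrArg Subtype.val (hy a ha)))
    (isPowerTorsion_of_gens G I hI fun y g hg => by
      obtain ⟨w, rfl⟩ := Submodule.mkQ_surjective _ y
      obtain ⟨k, m, hm, hw⟩ := δ_eq_zero_iff G w.1 w.2
      refine ⟨k, (Submodule.Quotient.mk_eq_zero _).2 ⟨m ⟨g, hg⟩, funext fun h => ?_⟩⟩
      show LocalizedModule.mkLinearMap (Submonoid.powers h.1) M (m ⟨g, hg⟩) = g ^ k • w.1 h
      refine smul_cancel_iff (dvd_refl h.1) k ?_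
      rw [hw, smul_comm (h.1 ^ k) (g ^ k), smul_frac, ← map_smul, ← map_smul, hm ⟨g, hg⟩ h])
  let e : LinearMap.range (diag G : M →ₗ[A] P0 G M) ≃ₗ[A] N := (Submodule.comapSubtypeEquivOfLe hle).symm
  haveI : IsNoetherian A N := isNoetherian_of_linearEquiv e
  haveI := Module.Finite.of_surjective φ hφ
  haveI : IsNoetherian A (LocCoh.H I 1 N) := isNoetherian_H_of_equiv I 1
    (N := ↥(LinearMap.range (diag G : M →ₗ[A] P0 G M))) (N' := ↥N) e
    (isNoetherian_of_isNoetherianRing_of_finite A _)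
  haveI : IsNoetherian A (Γ0 G M ⧸ N) := isNoetherian_of_injective ψ hψ
  exact isNoetherian_of_range_eq_ker (M := ↥N) N.subtype N.mkQ (by rw [Submodule.range_subtype, Submodule.ker_mkQ])

theorem isNoetherian_H1 (h2 : Module.Finite A (LocCoh.H I 2 M)) : IsNoetherian A (H1 G M) := by
  obtain ⟨-, φ, hφ⟩ := exists_surjective_H (M := M) G I hI
  let R := LinearMap.range (δ G : P0 G M →ₗ[A] P1 G M)
  have hle : R ≤ Z1 G M := fun x hx g => ⟨0, by rw [pow_zero, one_smul]; exact hx⟩
  obtain ⟨ψ, hψ⟩ := exists_injective_H1 I (B1 G M)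
    (fun y n hy => Subtype.ext (torsionFree_eq_zero₁ G I hI fun a ha => congrArg Subtype.val (hy a ha)))
    (isPowerTorsion_of_gens G I hI fun y g hg => by
      obtain ⟨w, rfl⟩ := Submodule.mkQ_surjective _ y
      obtain ⟨k, hk⟩ := w.2 ⟨g, hg⟩
      exact ⟨k, (Submodule.Quotient.mk_eq_zero _).2 hk⟩)
  let S : ShortComplex (ModuleCat.{u} A) :=
    ShortComplex.mk (ModuleCat.ofHom (Γ0 G M).subtype) (ModuleCat.ofHom (δ G : P0 G M →ₗ[A] P1 G M).rangeRestrict)
      (ModuleCat.hom_ext (LinearMap.ext fun y => Subtype.ext y.2))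
  have hS : S.ShortExact :=
    { exact := (ShortComplex.ShortExact.moduleCat_exact_iff_function_exact _).2 (by
        intro y
        refine ⟨fun hy => ⟨⟨y, congrArg Subtype.val hy⟩, rfl⟩, ?_⟩
        rintro ⟨z, rfl⟩
        exact Subtype.ext z.2)
      mono_f := (ModuleCat.mono_iff_injective _).2 (Submodule.injective_subtype _)
      epi_g := (ModuleCat.epi_iff_surjective _).2 (LinearMap.surjective_rangeRestrict _) }
  have hδ : Function.Injective (δH I 1 hS 2 rfl) := (injective_iff_map_eq_zero _).2 fun z hz => by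
    obtain ⟨w, rfl⟩ := (exact₃ I 1 hS 2 rfl z).1 hz
    rw [show w = 0 from @Subsingleton.elim _ (subsingleton_H_P0 (M := M) G I hI 1) w 0, map_zero]
  haveI : Module.Finite A ((localCohomology I 2).obj S.X₁) := Module.Finite.of_surjective φ hφ
  haveI : IsNoetherian A ((localCohomology I 2).obj S.X₁) := isNoetherian_of_isNoetherianRing_of_finite A _
  haveI : IsNoetherian A (LocCoh.H I 1 R) := isNoetherian_of_injective _ hδ
  haveI : IsNoetherian A (LocCoh.H I 1 (B1 G M)) :=
    isNoetherian_H_of_equiv I 1 (N := ↥R) (N' := ↥(B1 G M)) (Submodule.comapSubtypeEquivOfLe hle).symm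
      inferInstance
  exact isNoetherian_of_injective ψ hψ

omit hI

/-- Up to powers of the generators, a direct factor of a free module over `M₀`. -/
def Fac (G : Finset A) (M₀ M : Type u) [AddCommGroup M₀] [Module A M₀] [AddCommGroup M] [Module A M] : Prop :=
  ∀ g : G, ∃ (N r : ℕ) (u : Fin r → (M →ₗ[A] M₀)) (v : Fin r → (M₀ →ₗ[A] M)),
    ∀ x, ∑ i, v i (u i x) = g.1 ^ N • x

variable {G M} {M₀ : Type u} [AddCommGroup M₀] [Module A M₀]

theorem sum_lmap_lmap {a c : A} {r : ℕ} (u : Fin r → (M →ₗ[A] M₀)) (v : Fin r → (M₀ →ₗ[A] M))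
    (h : ∀ x, ∑ i, v i (u i x) = c • x) (x : L M a) : ∑ i, lmap a (v i) (lmap a (u i) x) = c • x := by
  obtain ⟨k, m, rfl⟩ := exists_frac x
  simp only [lmap_frac]
  refine smul_cancel_iff (dvd_refl a) k ?_
  rw [Finset.smul_sum, smul_comm]
  simp only [smul_frac]
  rw [← map_sum, h, map_smul]

theorem isNoetherian_Γ0_of_fac (hf : Fac G M₀ M) [IsNoetherian A (Γ0 G M₀)] : IsNoetherian A (Γ0 G M) := by
  choose N r u v huv using hf
  let Φ : Γ0 G M →ₗ[A] ((p : Σ g : G, Fin (r g)) → Γ0 G M₀) := LinearMap.pi fun p =>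
    ((P0map (u p.1 p.2)).comp (Γ0 G M).subtype).codRestrict (Γ0 G M₀) fun x => by
      rw [LinearMap.mem_ker, LinearMap.comp_apply, δ_P0map, Submodule.subtype_apply, x.2, map_zero]
  refine isNoetherian_of_injective Φ ((injective_iff_map_eq_zero _).2 fun x hx => Subtype.ext (funext fun g => ?_))
  refine smul_cancel_iff (dvd_refl g.1) (N g) ?_
  show g.1 ^ N g • x.1 g = g.1 ^ N g • (0 : L M g.1)
  rw [smul_zero, ← sum_lmap_lmap (u g) (v g) (huv g)]
  refine Finset.sum_eq_zero fun i _ => ?_
  rw [show lmap g.1 (u g i) (x.1 g) = 0 from congrFun (congrArg Subtype.val (congrFun hx ⟨g, i⟩)) g, map_zero]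

theorem isNoetherian_H1_of_fac (hf : Fac G M₀ M) [IsNoetherian A (Γ0 G M₀)] [IsNoetherian A (H1 G M₀)] :
    IsNoetherian A (H1 G M) := by
  haveI := isNoetherian_Γ0_of_fac hf
  choose N r u v huv using hf
  have huv1 : ∀ g (c : P1 G M), ∑ i, P1map (v g i) (P1map (u g i) c) = g.1 ^ N g • c := fun g c =>
    funext fun a => funext fun b => by
      rw [Finset.sum_apply, Finset.sum_apply]
      exact sum_lmap_lmap (u g) (v g) (huv g) _
  let Φ₀ : Z1 G M →ₗ[A] ((p : Σ g : G, Fin (r g)) → H1 G M₀) := LinearMap.pi fun p =>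
    (B1 G M₀).mkQ.comp (((P1map (u p.1 p.2)).comp (Z1 G M).subtype).codRestrict (Z1 G M₀) fun c g => by
      obtain ⟨k, b, hb⟩ := c.2 g
      refine ⟨k, P0map (u p.1 p.2) b, ?_⟩
      rw [δ_P0map, hb, map_smul]
      rfl)
  let Φ : H1 G M →ₗ[A] ((p : Σ g : G, Fin (r g)) → H1 G M₀) := (B1 G M).liftQ Φ₀ (by
    rintro c ⟨b, hb⟩
    refine funext fun p => (Submodule.Quotient.mk_eq_zero _).2 ⟨P0map (u p.1 p.2) b, ?_⟩
    rw [δ_P0map, hb]
    rfl)
  -- lifts with primitives after multiplication
  let Q : Submodule A (Z1 G M × (G → P0 G M)) :=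
    { carrier := {p | ∀ g : G, δ G (p.2 g) = g.1 ^ N g • p.1.1}
      zero_mem' := fun g => by simp
      add_mem' := fun hp hq g => by simp [map_add, hp g, hq g]
      smul_mem' := fun a p hp g => by simp [map_smul, hp g, smul_comm a] }
  let w : Q →ₗ[A] (G → G → Γ0 G M) :=
    { toFun := fun p g h => ⟨h.1 ^ N h • p.1.2 g - g.1 ^ N g • p.1.2 h, by
        rw [LinearMap.mem_ker, map_sub, map_smul, map_smul, p.2 g, p.2 h, smul_comm, sub_self]⟩
      map_add' := fun p q => funext fun g => funext fun h => Subtype.ext (by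
        simp [smul_add]; abel)
      map_smul' := fun a p => funext fun g => funext fun h => Subtype.ext (by
        simp [smul_sub, smul_comm a]) }
  let π : Q →ₗ[A] H1 G M := (B1 G M).mkQ.comp ((LinearMap.fst A _ _).comp Q.subtype)
  have hker : LinearMap.ker w ≤ LinearMap.ker π := fun p hp => by
    have hpp : ∀ g h : G, h.1 ^ N h • p.1.2 g = g.1 ^ N g • p.1.2 h := fun g h =>
      sub_eq_zero.1 (congrArg Subtype.val (congrFun (congrFun hp g) h))
    choose e he using fun h : G => ((Module.End.isUnit_iff _).1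
      (isUnit_of_dvd (M := M) (dvd_refl h.1) (⟨h.1 ^ N h, N h, rfl⟩ : Submonoid.powers h.1))).2 (p.1.2 h h)
    refine (Submodule.Quotient.mk_eq_zero _).2 ⟨e, funext fun a => funext fun b => smul_cancel_iff (dvd_mul_right a.1 b.1) (N a) ?_⟩
    have he' : ∀ g h : G, g.1 ^ N g • e h = p.1.2 g h := fun g h => by
      refine smul_cancel_iff (dvd_refl h.1) (N h) ?_
      rw [smul_comm, show h.1 ^ N h • e h = p.1.2 h h from he h]
      exact (congrFun (hpp g h) h).symm
    show a.1 ^ N a • δ G e a b = a.1 ^ N a • p.1.1.1 a b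
    have h1 : a.1 ^ N a • δ G e = a.1 ^ N a • p.1.1.1 := by
      rw [← map_smul, ← p.2 a]
      exact congrArg _ (funext fun h => he' a h)
    exact congrFun (congrFun h1 a) b
  letI : AddCommGroup Q := Q.addCommGroup
  haveI : IsNoetherian A (Q ⧸ LinearMap.ker w) :=
    isNoetherian_of_linearEquiv w.quotKerEquivRange.symm
  haveI : IsNoetherian A (LinearMap.range π) := by
    haveI : IsNoetherian A (LinearMap.range ((LinearMap.ker w).liftQ π hker)) := isNoetherian_range _
    exact isNoetherian_of_le (t := LinearMap.range ((LinearMap.ker w).liftQ π hker)) (Submodule.range_liftQ _ _ _).ge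
  haveI : IsNoetherian A (LinearMap.ker Φ) := by
    refine isNoetherian_of_le (t := LinearMap.range π) fun x hx => ?_
    obtain ⟨c, rfl⟩ := Submodule.mkQ_surjective _ x
    have h1 : ∀ g : G, ∃ b, δ G b = g.1 ^ N g • c.1 := fun g => by
      choose b hb using fun i => (Submodule.Quotient.mk_eq_zero _).1 (congrFun hx ⟨g, i⟩)
      refine ⟨∑ i, P0map (v g i) (b i), ?_⟩
      rw [map_sum, ← huv1 g]
      refine Finset.sum_congr rfl fun i _ => ?_
      rw [δ_P0map, hb i]
      rfl
    choose b hb using h1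
    exact ⟨⟨(c, b), hb⟩, rfl⟩
  exact isNoetherian_of_range_eq_ker (LinearMap.ker Φ).subtype Φ (Submodule.range_subtype _)

end Groth.Agent.SGA10
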