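import Groth.Agent.Pi1Ext.HyperFF
import Groth.Agent.S0238

/-!
# Finite algebras giving covers of punctured spectra lift along thickenings
-/

set_option autoImplicit false
set_option linter.style.haveILetI false
universe u

open CategoryTheory CategoryTheory.Limits AlgebraicGeometry IsLocalRing TensorProduct

noncomputable section

namespace Groth.Agent.SGA10

open Groth.Agent.Pi1Ext RegPurity PuritySch

set_option backward.isDefEq.respectTransparency false
set_option backward.isDefEq.respectTransparency.types false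

/-- A finite algebra étale off the closed point over a quotient by a nilpotent ideal lifts, up to
isomorphisms away from the closed point. -/
theorem exists_lift_model {A' A : Type u} [CommRing A'] [IsLocalRing A'] [IsNoetherianRing A'] [CommRing A]
    [IsLocalRing A] [IsNoetherianRing A] [Algebra A' A] (hs : Function.Surjective (algebraMap A' A))
    (hn : IsNilpotent (RingHom.ker (algebraMap A' A))) (C : Type u) [CommRing C] [Algebra A C] [Module.Finite A C]
    (hC : EtOff A C) :
    ∃ (C' : Type u) (_ : CommRing C') (_ : Algebra A' C') (_ : Module.Finite A' C') (_ : EtOff A' C')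
      (R : Type u) (_ : CommRing R) (_ : Algebra A R) (u : A ⊗[A'] C' →ₐ[A] R) (v : C →ₐ[A] R),
      (∀ g ∈ maximalIdeal A, IsoAway u g) ∧ ∀ g ∈ maximalIdeal A, IsoAway v g := by
  let s : Spec (CommRingCat.of A) ⟶ Spec (CommRingCat.of A') := sp A' A
  let ι := (FEt.puncturedSpec A).ι
  let ι' := (FEt.puncturedSpec A').ι
  haveI : IsClosedImmersion s := IsClosedImmersion.spec_of_surjective _ hs
  haveI : Surjective s := ⟨fun q => by
    obtain ⟨n, hn'⟩ := hn
    have hle : RingHom.ker (algebraMap A' A) ≤ (q : PrimeSpectrum A').asIdeal := fun x hx => by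
      refine q.2.mem_of_pow_mem n ?_
      have : x ^ n ∈ (RingHom.ker (algebraMap A' A)) ^ n := Ideal.pow_mem_pow hx n
      rw [hn'] at this
      rw [show x ^ n = 0 from this]
      exact zero_mem _
    show ∃ p, PrimeSpectrum.comap (algebraMap A' A) p = q
    have h2 : (q : PrimeSpectrum A') ∈ Set.range (PrimeSpectrum.comap (algebraMap A' A)) := by
      rw [range_comap_of_surjective _ _ hs]
      exact hle
    exact h2⟩
  have hpre : ∀ p : PrimeSpectrum A,
      PrimeSpectrum.comap (algebraMap A' A) p = IsLocalRing.closedPoint A' ↔ p = IsLocalRing.closedPoint A := by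
    intro p
    have hcl : PrimeSpectrum.comap (algebraMap A' A) (IsLocalRing.closedPoint A) = IsLocalRing.closedPoint A' :=
      PrimeSpectrum.ext (IsLocalRing.eq_maximalIdeal (Ideal.comap_isMaximal_of_surjective _ hs (K := maximalIdeal A)))
    refine ⟨fun h => ?_, fun h => h ▸ hcl⟩
    exact PrimeSpectrum.comap_injective_of_surjective _ hs (h.trans hcl.symm)
  have hrange : Set.range (ι ≫ s).base ⊆ Set.range ι'.base := by
    rintro _ ⟨x, rfl⟩
    rw [Scheme.Opens.range_ι]
    exact fun h => x.2 ((hpre _).1 h)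
  let τ : (FEt.puncturedSpec A : Scheme.{u}) ⟶ (FEt.puncturedSpec A' : Scheme.{u}) :=
    IsOpenImmersion.lift ι' (ι ≫ s) hrange
  have hτ : τ ≫ ι' = ι ≫ s := IsOpenImmersion.lift_fac _ _ _
  have hsq : IsPullback τ ι ι' s := IsOpenImmersion.isPullback τ ι ι' s hτ.symm (by
    rw [Scheme.Opens.opensRange_ι, Scheme.Opens.opensRange_ι]
    ext p
    exact not_congr (hpre p))
  haveI : IsClosedImmersion τ := MorphismProperty.of_isPullback hsq.flip ‹IsClosedImmersion s›
  haveI : Surjective τ := MorphismProperty.of_isPullback hsq.flip ‹Surjective s›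
  haveI := Groth.Agent.S0238.result τ
  let V := obj C (prop_rest C hC)
  let V' := (FEt.restrict τ).objPreimage V
  let e : (FEt.restrict τ).obj V' ≅ V := (FEt.restrict τ).objObjPreimageIso V
  haveI : IsFinite V'.hom := V'.prop.1
  obtain ⟨C', _, _, _, q, hq⟩ := FiniteModel.exists_finite_model V'.hom
  have hrest : FEt.prop (rest A' C') := by
    rw [← MorphismProperty.cancel_left_of_respectsIso (P := FEt.prop) q.hom, hq]
    exact V'.prop
  have hC' : EtOff A' C' := HyperFF.etOff_of_prop_rest C' hrest
  -- the restriction of the model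
  have hw : (pullback.fst (sp A (A ⊗[A'] C')) ι ≫
      Spec.map (CommRingCat.ofHom (Algebra.TensorProduct.includeRight : C' →ₐ[A'] A ⊗[A'] C').toRingHom)) ≫
      sp A' C' = pullback.snd (sp A (A ⊗[A'] C')) ι ≫ τ ≫ ι' := by
    rw [hτ, ← pullback.condition_assoc, Category.assoc]
    congr 1
    rw [← Spec.map_comp, ← Spec.map_comp, ← CommRingCat.ofHom_comp, ← CommRingCat.ofHom_comp]
    congr 2
    ext a
    show (Algebra.TensorProduct.includeRight : C' →ₐ[A'] A ⊗[A'] C') (algebraMap A' C' a) = _
    rw [AlgHom.commutes]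
    rfl
  have hP : IsPullback (pullback.fst (sp A (A ⊗[A'] C')) ι ≫
      Spec.map (CommRingCat.ofHom (Algebra.TensorProduct.includeRight : C' →ₐ[A'] A ⊗[A'] C').toRingHom))
      (pullback.snd (sp A (A ⊗[A'] C')) ι) (sp A' C') (τ ≫ ι') := by
    rw [hτ]
    have h1 := (isPullback_SpecMap_of_isPushout _ _ _ _ (CommRingCat.isPushout_tensorProduct A' A C')).flip
    exact (IsPullback.of_hasPullback (sp A (A ⊗[A'] C')) ι).paste_horiz h1
  have hQ : IsPullback (pullback.fst (rest A' C') τ ≫ pullback.fst (sp A' C') ι') (pullback.snd (rest A' C') τ)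
      (sp A' C') (τ ≫ ι') :=
    (IsPullback.of_hasPullback (rest A' C') τ).paste_horiz (IsPullback.of_hasPullback (sp A' C') ι')
  let f₁ : V'.left ≅ pullback (sp A' C') ι' := q
  let ψ : pullback (rest A' C') τ ≅ pullback V'.hom τ :=
    asIso (pullback.map (rest A' C') τ V'.hom τ f₁.inv (𝟙 _) (𝟙 _) (by
      rw [Category.comp_id, ← hq, Iso.inv_hom_id_assoc]) (by simp))
  let el₀ : pullback V'.hom τ ≅ pullback (sp A C) ι :=
    ⟨e.hom.left, e.inv.left, congrArg (fun k => k.left) e.hom_inv_id, congrArg (fun k => k.left) e.inv_hom_id⟩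
  have hel₀ : el₀.hom ≫ rest A C = pullback.snd V'.hom τ := MorphismProperty.Over.w e.hom
  let el : pullback (sp A (A ⊗[A'] C')) ι ≅ pullback (sp A C) ι :=
    hP.isoIsPullback _ _ hQ ≪≫ ψ ≪≫ el₀
  have hel : el.hom ≫ rest A C = rest A (A ⊗[A'] C') := by
    rw [Iso.trans_hom, Iso.trans_hom, Category.assoc, Category.assoc, hel₀, asIso_hom, pullback.map,
      pullback.lift_snd, Category.comp_id, IsPullback.isoIsPullback_hom_snd]
  obtain ⟨R, _, _, _, v, u, hv, hu⟩ := FiniteModel.exists_zigzag el.hom hel
  exact ⟨C', inferInstance, inferInstance, inferInstance, hC', R, inferInstance, inferInstance, u, v, hu, hv⟩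

end Groth.Agent.SGA10
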