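import Groth.Agent.SGA10.Steps
import Groth.Agent.SGA10.H1
import Groth.Agent.SGA10.Models

/-!
# The tower of a cover of a punctured hypersurface
-/

set_option autoImplicit false
set_option linter.style.haveILetI false
universe u

open IsLocalRing TensorProduct

noncomputable section

namespace Groth.Agent.SGA10

open Groth.Agent.Pi1Ext RegPurity

set_option backward.isDefEq.respectTransparency false
set_option backward.isDefEq.respectTransparency.types false

variable {B : Type u} [CommRing B]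

/-- The ring of order `n`. -/
abbrev Qn (t : B) (n : ℕ) : Type u := B ⧸ Ideal.span {t ^ (n + 1)}

theorem tors_Qn (t : B) (n : ℕ) {M : Type u} [AddCommGroup M] [Module B M] [Module (Qn t n) M]
    [IsScalarTower B (Qn t n) M] (x : M) : t ^ (n + 1) • x = 0 := by
  rw [← algebraMap_smul (Qn t n) (t ^ (n + 1)) x, Ideal.Quotient.algebraMap_eq,
    Ideal.Quotient.eq_zero_iff_mem.2 (Ideal.mem_span_singleton_self _), zero_smul]

/-- A finite algebra étale off the closed point at order `n`, with its saturation. -/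
structure Level (G : Finset B) (t : B) (n : ℕ) where
  C : Type u
  D : Type u
  [ringC : CommRing C]
  [ringD : CommRing D]
  [algC : Algebra B C]
  [algD : Algebra B D]
  [algQ : Algebra (Qn t n) C]
  [tower : IsScalarTower B (Qn t n) C]
  [finC : Module.Finite (Qn t n) C]
  off : ∀ [IsLocalRing (Qn t n)], EtOff (Qn t n) C
  κ : C →ₐ[B] D
  iso : IsoOn G κ.toLinearMap
  sat : Sat G D

attribute [instance] Level.ringC Level.ringD Level.algC Level.algD Level.algQ Level.tower Level.finC

variable {G : Finset B} {t : B}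

theorem Level.tors {n : ℕ} (L : Level G t n) (x : L.D) : t ^ (n + 1) • x = 0 := by
  refine L.sat.sep _ fun g => ?_
  obtain ⟨k, c, hc⟩ := (L.iso g).1 x
  exact ⟨k, by rw [smul_comm, ← hc, ← map_smul, tors_Qn t n c, map_zero]⟩

theorem isLocalRing_Qn [IsLocalRing B] (ht : t ∈ maximalIdeal B) (n : ℕ) : IsLocalRing (Qn t n) := by
  haveI : Nontrivial (Qn t n) := Ideal.Quotient.nontrivial_iff.2 fun h =>
    (maximalIdeal.isMaximal B).ne_top (top_le_iff.1 (h.ge.trans
      ((Ideal.span_singleton_le_iff_mem _).2 (Ideal.pow_mem_of_mem _ ht _ n.succ_pos))))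
  exact IsLocalRing.of_surjective' (Ideal.Quotient.mk _) Ideal.Quotient.mk_surjective

theorem mk_mem_max [IsLocalRing B] (I : Ideal B) [IsLocalRing (B ⧸ I)] {g : B} (hg : g ∈ maximalIdeal B) :
    Ideal.Quotient.mk I g ∈ maximalIdeal (B ⧸ I) := by
  haveI : IsLocalHom (Ideal.Quotient.mk I) := IsLocalHom.of_surjective _ Ideal.Quotient.mk_surjective
  exact map_nonunit (Ideal.Quotient.mk I) g hg

theorem isoOn_restrict {Q C R : Type u} [CommRing Q] [Algebra B Q] [CommRing C] [Algebra Q C] [Algebra B C]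
    [IsScalarTower B Q C] [CommRing R] [Algebra Q R] [Algebra B R] [IsScalarTower B Q R] (f : C →ₐ[Q] R)
    (h : ∀ g : G, IsoAway f (algebraMap B Q g.1)) : IsoOn G (f.restrictScalars B).toLinearMap := fun g => by
  refine ⟨fun y => ?_, fun x hx => ?_⟩
  · obtain ⟨k, x, hx⟩ := (h g).1 y
    refine ⟨k, x, ?_⟩
    rw [← algebraMap_smul Q (g.1 ^ k) y, map_pow]
    exact hx.symm
  · obtain ⟨k, hk⟩ := (h g).2 x hx
    exact ⟨k, by rw [← algebraMap_smul Q (g.1 ^ k) x, map_pow]; exact hk⟩

theorem extend_away {C R D : Type u} [CommRing C] [Algebra B C] [CommRing R] [Algebra B R] [CommRing D] [Algebra B D]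
    {f : C →ₐ[B] R} (hf : IsoOn G f.toLinearMap) {ψ : C →ₐ[B] D} (hψ : IsoOn G ψ.toLinearMap)
    {θ : R →ₐ[B] D} (h : ∀ c, θ (f c) = ψ c) : IsoOn G θ.toLinearMap := fun g => by
  refine ⟨fun y => ?_, fun w hw => ?_⟩
  · obtain ⟨k, c, hc⟩ := (hψ g).1 y
    exact ⟨k, f c, (h c).trans hc⟩
  · obtain ⟨k, c, hc⟩ := (hf g).1 w
    have h1 : ψ.toLinearMap c = 0 := by
      rw [AlgHom.toLinearMap_apply, ← h c, ← AlgHom.toLinearMap_apply f, hc, map_smul]
      rw [show θ w = 0 from hw, smul_zero]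
    obtain ⟨j, hj⟩ := (hψ g).2 c h1
    refine ⟨j + k, ?_⟩
    rw [pow_add, mul_smul, ← hc, ← map_smul, hj, map_zero]

theorem exists_succ [IsLocalRing B] [IsNoetherianRing B] (ht : t ∈ maximalIdeal B)
    (hG : ∀ g ∈ G, g ∈ maximalIdeal B) {n : ℕ} (L : Level G t n) :
    ∃ (L' : Level G t (n + 1)) (r : L'.D →ₐ[B] L.D),
      (∀ (g : G) (y : L.D), ∃ (k : ℕ) (x : L'.D), r x = g.1 ^ k • y) ∧
        ∀ (g : G) (x : L'.D), r x = 0 → ∃ (k : ℕ) (z : L'.D), g.1 ^ k • x = t ^ (n + 1) • z := by
  classical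
  haveI := isLocalRing_Qn ht n
  haveI := isLocalRing_Qn ht (n + 1)
  let A' := Qn t (n + 1)
  let A := Qn t n
  let π : A' →+* A := Ideal.Quotient.factor
    (Ideal.span_singleton_le_span_singleton.2 (pow_dvd_pow t (n + 1).le_succ))
  letI : Algebra A' A := π.toAlgebra
  haveI : IsScalarTower B A' A := IsScalarTower.of_algebraMap_eq fun b => rfl
  have hs : Function.Surjective (algebraMap A' A) := Ideal.Quotient.factor_surjective _
  have hker : RingHom.ker (algebraMap A' A) = Ideal.span {algebraMap B A' (t ^ (n + 1))} := by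
    show RingHom.ker π = _
    rw [Ideal.Quotient.factor_ker, Ideal.map_span, Set.image_singleton]
    rfl
  have hnil : IsNilpotent (RingHom.ker (algebraMap A' A)) := by
    refine ⟨2, ?_⟩
    rw [hker, Ideal.span_singleton_pow, Ideal.zero_eq_bot, Ideal.span_singleton_eq_bot, ← map_pow,
      ← pow_mul, Ideal.Quotient.algebraMap_eq, Ideal.Quotient.eq_zero_iff_mem, Ideal.mem_span_singleton]
    exact pow_dvd_pow t (by omega)
  obtain ⟨C', _, _, _, hC', R, _, _, u, v, hu, hv⟩ := exists_lift_model hs hnil L.C L.off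
  letI : Algebra B C' := ((algebraMap A' C').comp (algebraMap B A')).toAlgebra
  haveI : IsScalarTower B A' C' := IsScalarTower.of_algebraMap_eq fun _ => rfl
  letI : Algebra B R := ((algebraMap A R).comp (algebraMap B A)).toAlgebra
  haveI : IsScalarTower B A R := IsScalarTower.of_algebraMap_eq fun _ => rfl
  have hgm : ∀ g : G, algebraMap B A g.1 ∈ maximalIdeal A := fun g => mk_mem_max _ (hG g.1 g.2)
  have hv' := isoOn_restrict (G := G) v fun g => hv _ (hgm g)
  have hu' := isoOn_restrict (G := G) u fun g => hu _ (hgm g)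
  obtain ⟨θ, hθ⟩ := exists_algHom_extend L.sat hv' L.κ
  have hθ' := extend_away hv' L.iso hθ
  -- from `C'` to the reduction
  let incl : C' →ₐ[B] A ⊗[A'] C' :=
    { (Algebra.TensorProduct.includeRight : C' →ₐ[A'] A ⊗[A'] C').toRingHom with
      commutes' := fun b => by
        show (Algebra.TensorProduct.includeRight : C' →ₐ[A'] A ⊗[A'] C') (algebraMap A' C' (algebraMap B A' b)) = _
        rw [AlgHom.commutes, IsScalarTower.algebraMap_apply B A' (A ⊗[A'] C')] }
  have hincl : Function.Surjective incl := fun z => by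
    induction z using TensorProduct.induction_on with
    | zero => exact ⟨0, map_zero _⟩
    | tmul a c =>
      obtain ⟨a', rfl⟩ := hs a
      refine ⟨a' • c, ?_⟩
      show (1 : A) ⊗ₜ[A'] (a' • c) = _
      rw [TensorProduct.tmul_smul, TensorProduct.smul_tmul', Algebra.smul_def, mul_one]
    | add x y hx hy =>
      obtain ⟨a, rfl⟩ := hx
      obtain ⟨b, rfl⟩ := hy
      exact ⟨a + b, map_add _ _ _⟩
  have hincl0 : ∀ c, incl c = 0 → ∃ z, c = t ^ (n + 1) • z := fun c hc => by
    let f : A' →ₗ[A'] A' := LinearMap.toSpanSingleton A' A' (algebraMap B A' (t ^ (n + 1)))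
    let p : A' →ₗ[A'] A := (Algebra.linearMap A' A)
    have hex : Function.Exact f p := fun x => by
      show algebraMap A' A x = 0 ↔ _
      rw [← RingHom.mem_ker, hker, Ideal.mem_span_singleton']
      exact Iff.rfl
    obtain ⟨w, hw⟩ := (rTensor_exact C' hex hs ((1 : A') ⊗ₜ[A'] c)).1 (by
      rw [LinearMap.rTensor_tmul]
      show algebraMap A' A 1 ⊗ₜ[A'] c = 0
      rw [map_one]
      exact hc)
    refine ⟨TensorProduct.lid A' C' w, ?_⟩
    have h2 : ∀ w : A' ⊗[A'] C', TensorProduct.lid A' C' (f.rTensor C' w) =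
        t ^ (n + 1) • TensorProduct.lid A' C' w := fun w => by
      induction w using TensorProduct.induction_on with
      | zero => simp
      | tmul a c =>
        rw [LinearMap.rTensor_tmul, TensorProduct.lid_tmul, TensorProduct.lid_tmul, LinearMap.toSpanSingleton_apply,
          smul_eq_mul, mul_comm, mul_smul, algebraMap_smul]
      | add x y hx hy => rw [map_add, map_add, map_add, smul_add, hx, hy]
    rw [← h2, hw, TensorProduct.lid_tmul, one_smul]
  let ψ : C' →ₐ[B] L.D := θ.comp ((u.restrictScalars B).comp incl)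
  let κ' : C' →ₐ[B] satAlg G C' := toSat G C'
  obtain ⟨r, hr⟩ := exists_algHom_extend L.sat (isoOn_toSat G C') ψ
  refine ⟨{ C := C', D := satAlg G C', off := hC', κ := κ', iso := isoOn_toSat G C', sat := sat_satAlg G C' },
    r, fun g y => ?_, fun g x hx => ?_⟩
  · obtain ⟨a, c, hc⟩ := (L.iso g).1 y
    obtain ⟨b, z, hz⟩ := (hu' g).1 (v c)
    obtain ⟨c', rfl⟩ := hincl z
    refine ⟨b + a, κ' c', ?_⟩
    rw [hr]
    show θ ((u.restrictScalars B).toLinearMap (incl c')) = _
    rw [hz, map_smul, show θ (v c) = L.κ c from hθ c, pow_add, mul_smul]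
    exact congrArg _ hc
  · obtain ⟨a, c', hc⟩ := (isoOn_toSat G C' g).1 x
    have h1 : θ.toLinearMap (u.restrictScalars B (incl c')) = 0 := by
      show ψ c' = 0
      rw [← hr, show (toSat G C') c' = g.1 ^ a • x from hc, map_smul, hx, smul_zero]
    obtain ⟨j, hj⟩ := (hθ' g).2 _ h1
    rw [← map_smul, ← map_smul] at hj
    obtain ⟨l, hl⟩ := (hu' g).2 _ hj
    rw [← map_smul] at hl
    obtain ⟨z, hz⟩ := hincl0 _ hl
    refine ⟨l + j + a, κ' z, ?_⟩
    rw [← map_smul, ← hz, map_smul, map_smul, show κ' c' = g.1 ^ a • x from hc, smul_smul, smul_smul]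
    exact congrArg (· • x) (by rw [pow_add, pow_add, mul_assoc])

theorem Level.reg [IsLocalRing B] [IsNoetherianRing B] (hreg : IsSMulRegular B t) (ht : t ∈ maximalIdeal B)
    (hG : ∀ g ∈ G, g ∈ maximalIdeal B) {n : ℕ} (L : Level G t n) (a b : ℕ) (hab : a + b = n + 1) (g : G) (x : L.D)
    (hx : t ^ a • x = 0) : ∃ (k : ℕ) (z : L.D), g.1 ^ k • x = t ^ b • z := by
  haveI := isLocalRing_Qn ht n
  obtain ⟨k, c, hc⟩ := (L.iso g).1 x
  obtain ⟨j, hj⟩ := (L.iso g).2 (t ^ a • c) (by rw [map_smul, hc, smul_comm, hx, smul_zero])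
  obtain ⟨r, M, u, v, huv⟩ := HyperFF.exists_factor (L.off _ (mk_mem_max (Ideal.span {t ^ (n + 1)}) (hG g.1 g.2)))
  have h1 : t ^ a • (u.restrictScalars B) (g.1 ^ j • c) = 0 := by
    rw [← map_smul, smul_comm, hj, map_zero]
  have h2 : ∀ i, ∃ y : Qn t n, (u.restrictScalars B) (g.1 ^ j • c) i = t ^ b • y := fun i => by
    obtain ⟨y, hy⟩ := Ideal.Quotient.mk_surjective ((u.restrictScalars B) (g.1 ^ j • c) i)
    have h3 : t ^ a • (Ideal.Quotient.mk (Ideal.span {t ^ (n + 1)}) y : Qn t n) = 0 := by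
      rw [hy]; exact congrFun h1 i
    rw [Algebra.smul_def, Ideal.Quotient.algebraMap_eq, ← map_mul, Ideal.Quotient.eq_zero_iff_mem,
      Ideal.mem_span_singleton, ← hab, pow_add] at h3
    obtain ⟨y', hy'⟩ := h3
    refine ⟨Ideal.Quotient.mk _ y', ?_⟩
    rw [← hy, Algebra.smul_def, Ideal.Quotient.algebraMap_eq, ← map_mul]
    exact congrArg _ (hreg.pow a (show t ^ a • y = t ^ a • (t ^ b * y') by
      simp only [smul_eq_mul]; linear_combination hy'))
  choose y hy using h2
  refine ⟨M + j + k, L.κ ((v.restrictScalars B) y), ?_⟩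
  have h4 : g.1 ^ M • g.1 ^ j • c = t ^ b • (v.restrictScalars B) y := by
    rw [← map_smul, show t ^ b • y = (u.restrictScalars B) (g.1 ^ j • c) from funext fun i => (hy i).symm]
    show _ = v (u (g.1 ^ j • c))
    rw [huv, ← map_pow (Ideal.Quotient.mk _), ← Ideal.Quotient.algebraMap_eq, algebraMap_smul]
  rw [← map_smul, ← h4, map_smul, map_smul, show L.κ c = g.1 ^ k • x from hc, smul_smul, smul_smul]
  exact congrArg (· • x) (by rw [pow_add, pow_add, mul_assoc])

/-- A finite algebra over the hypersurface, étale off the closed point, spreads to a tower. -/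
theorem exists_tower [IsLocalRing B] [IsNoetherianRing B] (hreg : IsSMulRegular B t) (ht : t ∈ maximalIdeal B)
    (hG : ∀ g ∈ G, g ∈ maximalIdeal B) (C : Type u) [CommRing C] [Algebra B C] [Algebra (Qn t 0) C]
    [IsScalarTower B (Qn t 0) C] [Module.Finite (Qn t 0) C]
    (hC : ∀ [IsLocalRing (Qn t 0)], EtOff (Qn t 0) C) :
    ∃ (T : Tower G t) (κ : C →ₐ[B] T.D 0), IsoOn G κ.toLinearMap := by
  let L₀ : Level G t 0 :=
    { C := C, D := satAlg G C, off := hC, κ := toSat G C, iso := isoOn_toSat G C, sat := sat_satAlg G C }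
  let L : ∀ n, Level G t n := fun n => Nat.rec (motive := fun k => Level G t k) L₀ (fun k a => (exists_succ ht hG a).choose) n
  let r : ∀ n, (L (n + 1)).D →ₐ[B] (L n).D := fun n => (exists_succ ht hG (L n)).choose_spec.choose
  exact ⟨Tower.ofSteps (D := fun n => (L n).D) r (fun n x => Level.tors (L n) x) (fun n => (L n).sat)
    (fun n g y => (exists_succ ht hG (L n)).choose_spec.choose_spec.1 g y)
    (fun n g x h => (exists_succ ht hG (L n)).choose_spec.choose_spec.2 g x h)
    (fun n a b h g x hx => (L n).reg hreg ht hG a b h g x hx), L₀.κ, L₀.iso⟩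

/-- The cohomology in order zero is finite. -/
theorem fac_of_etOff [IsLocalRing B] [IsNoetherianRing B] {I : Ideal B} [IsLocalRing (B ⧸ I)]
    (hG : ∀ g ∈ G, g ∈ maximalIdeal B) (C : Type u) [CommRing C] [Algebra B C] [Algebra (B ⧸ I) C]
    [IsScalarTower B (B ⧸ I) C] [Module.Finite (B ⧸ I) C] (hC : EtOff (B ⧸ I) C) :
    Fac G (B ⧸ I) C := fun g => by
  obtain ⟨r, M, u, v, huv⟩ := HyperFF.exists_factor (hC _ (mk_mem_max I (hG g.1 g.2)))
  refine ⟨M, r, fun i => ((LinearMap.proj i).comp u).restrictScalars B,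
    fun i => (v.comp (LinearMap.single (B ⧸ I) (fun _ : Fin r => B ⧸ I) i)).restrictScalars B, fun x => ?_⟩
  show ∑ i, v (Pi.single i (u x i)) = _
  rw [← map_sum, Finset.univ_sum_single, huv, ← map_pow, ← Ideal.Quotient.algebraMap_eq, algebraMap_smul]

/-- A map that is bijective away from `G` identifies the cohomology. -/
theorem isNoetherian_of_isoOn {M N : Type u} [AddCommGroup M] [Module B M] [AddCommGroup N] [Module B N]
    {f : M →ₗ[B] N} (hf : IsoOn G f) :
    (IsNoetherian B (Γ0 G M) → IsNoetherian B (Γ0 G N)) ∧ (IsNoetherian B (H1 G M) → IsNoetherian B (H1 G N)) := by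
  have hbij : ∀ (a : B) (g : G), g.1 ∣ a → Function.Bijective (lmap a f) := fun a g hd => by
    obtain ⟨b, rfl⟩ := hd
    refine ⟨lmap_injective fun x hx => ?_, lmap_surjective fun y => ?_⟩
    · obtain ⟨k, hk⟩ := (hf g).2 x hx
      exact ⟨k, by rw [mul_pow, mul_comm, mul_smul, hk, smul_zero]⟩
    · obtain ⟨k, x, hx⟩ := (hf g).1 y
      exact ⟨k, b ^ k • x, by rw [map_smul, hx, mul_pow, mul_comm, mul_smul]⟩
  have h0 : Function.Surjective (P0map (G := G) f) := fun y => by
    choose x hx using fun g : G => (hbij g.1 g dvd_rfl).2 (y g)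
    exact ⟨x, funext hx⟩
  have h1 : Function.Injective (P1map (G := G) f) := fun x y h => funext fun g => funext fun h' =>
    (hbij _ g (dvd_mul_right _ _)).1 (congrFun (congrFun h g) h')
  have h1s : Function.Surjective (P1map (G := G) f) := fun y => by
    choose x hx using fun g h : G => (hbij _ g (dvd_mul_right g.1 h.1)).2 (y g h)
    exact ⟨x, funext fun g => funext fun h => hx g h⟩
  constructor
  · intro _
    let Φ : Γ0 G M →ₗ[B] Γ0 G N := ((P0map f).comp (Γ0 G M).subtype).codRestrict (Γ0 G N) fun x => by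
      rw [LinearMap.mem_ker, LinearMap.comp_apply, δ_P0map, Submodule.subtype_apply, x.2, map_zero]
    refine isNoetherian_of_surjective Φ (LinearMap.range_eq_top.2 fun y => ?_)
    obtain ⟨x, hx⟩ := h0 y.1
    exact ⟨⟨x, LinearMap.mem_ker.2 (h1 (by rw [← δ_P0map, hx, y.2, map_zero]))⟩, Subtype.ext hx⟩
  · intro _
    have hmap : ∀ c : Z1 G M, P1map f c.1 ∈ Z1 G N := fun c g => by
      obtain ⟨k, b, hb⟩ := c.2 g
      exact ⟨k, P0map f b, by rw [δ_P0map, hb, map_smul]⟩
    let Ψ : Z1 G M →ₗ[B] H1 G N :=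
      (B1 G N).mkQ.comp (((P1map f).comp (Z1 G M).subtype).codRestrict (Z1 G N) hmap)
    let Φ : H1 G M →ₗ[B] H1 G N := (B1 G M).liftQ Ψ (by
      rintro c ⟨b, hb⟩
      refine (Submodule.Quotient.mk_eq_zero _).2 ⟨P0map f b, ?_⟩
      rw [δ_P0map, hb]
      rfl)
    refine isNoetherian_of_surjective Φ (LinearMap.range_eq_top.2 fun y => ?_)
    obtain ⟨c, rfl⟩ := Submodule.mkQ_surjective _ y
    obtain ⟨x, hx⟩ := h1s c.1
    have hxZ : x ∈ Z1 G M := fun g => by
      obtain ⟨k, b, hb⟩ := c.2 g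
      obtain ⟨b', rfl⟩ := h0 b
      exact ⟨k, b', h1 (by rw [← δ_P0map, hb, map_smul, hx])⟩
    exact ⟨(B1 G M).mkQ ⟨x, hxZ⟩, congrArg (B1 G N).mkQ (Subtype.ext hx)⟩

end Groth.Agent.SGA10
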