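import Groth.Agent.SGA10.Sat

/-!
# Functoriality of the Čech complex of fractions
-/

set_option autoImplicit false
set_option linter.style.haveILetI false
universe u

noncomputable section

namespace Groth.Agent.SGA10

open Groth.Agent.Pi1Ext.CechTors

variable {A : Type u} [CommRing A] {G : Finset A} {M N P : Type u} [AddCommGroup M] [Module A M]
  [AddCommGroup N] [Module A N] [AddCommGroup P] [Module A P]

/-- The map induced on fractions. -/
def lmap (g : A) (f : M →ₗ[A] N) : L M g →ₗ[A] L N g :=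
  LocalizedModule.lift (Submonoid.powers g) ((LocalizedModule.mkLinearMap (Submonoid.powers g) N).comp f)
    (isUnit_of_dvd (dvd_refl g))

@[simp] theorem lmap_frac (g : A) (f : M →ₗ[A] N) (k : ℕ) (m : M) : lmap g f (frac g k m) = frac g k (f m) := by
  refine smul_cancel_iff (dvd_refl g) k ?_
  rw [← map_smul, smul_frac, smul_frac]
  exact LocalizedModule.lift_mk_one _ _ _ _

theorem lmap_comp (g : A) (f : M →ₗ[A] N) (f' : N →ₗ[A] P) (x : L M g) :
    lmap g (f'.comp f) x = lmap g f' (lmap g f x) := by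
  obtain ⟨k, m, rfl⟩ := exists_frac x
  rw [lmap_frac, lmap_frac, lmap_frac]
  rfl

/-- The map induced on zero cochains. -/
def P0map (f : M →ₗ[A] N) : P0 G M →ₗ[A] P0 G N :=
  LinearMap.pi fun g => (lmap g.1 f).comp (LinearMap.proj g)

/-- The map induced on one cochains. -/
def P1map (f : M →ₗ[A] N) : P1 G M →ₗ[A] P1 G N where
  toFun x g h := lmap (g.1 * h.1) f (x g h)
  map_add' x y := funext fun g => funext fun h => map_add _ _ _
  map_smul' c x := funext fun g => funext fun h => (lmap (g.1 * h.1) f).map_smul c (x g h)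

@[simp] theorem P0map_apply (f : M →ₗ[A] N) (x : P0 G M) (g : G) : P0map f x g = lmap g.1 f (x g) := rfl

@[simp] theorem P1map_apply (f : M →ₗ[A] N) (x : P1 G M) (g h : G) :
    P1map f x g h = lmap (g.1 * h.1) f (x g h) := rfl

theorem δ_P0map (f : M →ₗ[A] N) (x : P0 G M) : δ G (P0map f x) = P1map f (δ G x) := by
  obtain ⟨k, m, rfl⟩ := exists_frac_family G x
  rw [show P0map f (fun g : G => frac g.1 k (m g)) = fun g : G => frac g.1 k (f (m g)) from
    funext fun g => lmap_frac g.1 f k (m g)]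
  funext g h
  rw [P1map_apply, δ_frac, δ_frac, lmap_frac, map_sub, map_smul, map_smul]

theorem P0map_diag (f : M →ₗ[A] N) (m : M) : P0map f (diag G m) = diag G (f m) :=
  funext fun g => LocalizedModule.lift_mk_one _ _ (isUnit_of_dvd (dvd_refl g.1)) m

theorem lmap_injective {g : A} {f : M →ₗ[A] N} (hf : ∀ x, f x = 0 → ∃ k : ℕ, g ^ k • x = 0) :
    Function.Injective (lmap g f) := by
  refine (injective_iff_map_eq_zero _).2 fun x hx => ?_
  obtain ⟨k, m, rfl⟩ := exists_frac x
  rw [lmap_frac, show (0 : L N g) = frac g 0 (0 : N) from (LocalizedModule.zero_mk _).symm, frac_eq_frac] at hx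
  obtain ⟨e, he⟩ := hx
  rw [pow_zero, one_smul, smul_zero, smul_zero, ← map_smul] at he
  obtain ⟨j, hj⟩ := hf _ he
  rw [smul_smul, ← pow_add] at hj
  refine smul_cancel_iff (dvd_refl g) (j + e) ?_
  rw [smul_zero, show (g ^ (j + e)) • frac g k m = frac g k (g ^ (j + e) • m) from LocalizedModule.smul'_mk _ _ _, hj]
  exact LocalizedModule.zero_mk _

theorem lmap_zero_of {g : A} {f : M →ₗ[A] N} (hf : f = 0) (x : L M g) : lmap g f x = 0 := by
  obtain ⟨k, m, rfl⟩ := exists_frac x
  rw [lmap_frac, hf, LinearMap.zero_apply]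
  exact LocalizedModule.zero_mk _

theorem lmap_surjective {g : A} {f : M →ₗ[A] N} (hf : ∀ y, ∃ (k : ℕ) (x : M), f x = g ^ k • y) :
    Function.Surjective (lmap g f) := fun y => by
  obtain ⟨k, m, rfl⟩ := exists_frac y
  obtain ⟨j, x, hx⟩ := hf m
  refine ⟨frac g (j + k) x, ?_⟩
  rw [lmap_frac, hx, frac_eq_frac]
  exact ⟨0, by rw [smul_smul (g ^ k), ← pow_add, add_comm k]⟩

theorem P1map_injective {f : M →ₗ[A] N} (hf : ∀ x, f x = 0 → x = 0) :
    Function.Injective (P1map (G := G) f) := fun x y h => funext fun g => funext fun g' =>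
  lmap_injective (fun x hx => ⟨0, by rw [hf x hx, smul_zero]⟩) (congrFun (congrFun h g) g')

theorem exact_P0map {f : M →ₗ[A] N} {f' : N →ₗ[A] P}
    (h : ∀ (y : N), f' y = 0 → ∃ x, f x = y) {y : P0 G N} (hy : P0map f' y = 0) :
    ∃ x, P0map f x = y := by
  have hg : ∀ g : G, ∃ x, lmap g.1 f x = y g := fun g => by
    obtain ⟨k, m, hkm⟩ := exists_frac (y g)
    have h1 : lmap g.1 f' (y g) = 0 := congrFun hy g
    rw [hkm, lmap_frac, show (0 : L P g.1) = frac g.1 0 (0 : P) from (LocalizedModule.zero_mk _).symm,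
      frac_eq_frac] at h1
    obtain ⟨e, he⟩ := h1
    rw [pow_zero, one_smul, smul_zero, smul_zero, ← map_smul] at he
    obtain ⟨x, hx⟩ := h _ he
    refine ⟨frac g.1 (k + e) x, ?_⟩
    rw [lmap_frac, hx, hkm, frac_eq_frac]
    exact ⟨0, by rw [smul_smul (g.1 ^ k), ← pow_add]⟩
  choose x hx using hg
  exact ⟨x, funext hx⟩

theorem exists_diag_of_δ_eq_zero [IsNoetherianRing A] (hM : Sat G M) {x : P0 G M} (hx : δ G x = 0) : ∃ y, diag G y = x := by
  obtain ⟨k, m, hm, rfl⟩ := δ_eq_zero_iff G x hx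
  obtain ⟨y, hy⟩ := hM.glue k m hm
  refine ⟨y, funext fun g => smul_cancel_iff (dvd_refl g.1) k ?_⟩
  rw [smul_frac, ← hy g, map_smul]
  rfl

theorem exists_smul_frac_diag {g : A} (x : L M g) :
    ∃ (k : ℕ) (m : M), g ^ k • x = LocalizedModule.mkLinearMap (Submonoid.powers g) M m := by
  obtain ⟨k, m, rfl⟩ := exists_frac x
  exact ⟨k, m, smul_frac g k m⟩

/-- Cochains that are locally coboundaries. -/
def Z1 (G : Finset A) (M : Type u) [AddCommGroup M] [Module A M] : Submodule A (P1 G M) where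
  carrier := {c | ∀ g : G, ∃ k : ℕ, g.1 ^ k • c ∈ LinearMap.range (δ G : P0 G M →ₗ[A] P1 G M)}
  zero_mem' _ := ⟨0, by rw [smul_zero]; exact zero_mem _⟩
  add_mem' := fun {x y} hx hy g => by
    obtain ⟨a, ha⟩ := hx g
    obtain ⟨b, hb⟩ := hy g
    refine ⟨a + b, ?_⟩
    rw [smul_add, pow_add, mul_smul _ _ y, mul_comm, mul_smul]
    exact add_mem (Submodule.smul_mem _ _ ha) (Submodule.smul_mem _ _ hb)
  smul_mem' := fun r x hx g => (hx g).imp fun k hk => by rw [smul_comm]; exact Submodule.smul_mem _ _ hk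

/-- Coboundaries among the locally trivial cochains. -/
def B1 (G : Finset A) (M : Type u) [AddCommGroup M] [Module A M] : Submodule A (Z1 G M) :=
  (LinearMap.range (δ G : P0 G M →ₗ[A] P1 G M)).comap (Z1 G M).subtype

/-- The first cohomology of the punctured spectrum. -/
abbrev H1 (G : Finset A) (M : Type u) [AddCommGroup M] [Module A M] : Type u := Z1 G M ⧸ B1 G M

/-- A chain between coboundaries and cocycles is stationary when the cohomology is Noetherian. -/
theorem exists_stable_chain [IsNoetherian A (H1 G M)] (E : ℕ →o Submodule A (P1 G M))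
    (hZ : ∀ n, E n ≤ Z1 G M) (hB : LinearMap.range (δ G : P0 G M →ₗ[A] P1 G M) ≤ E 0) :
    ∃ N, ∀ n, E n ≤ E N := by
  let F : ℕ →o Submodule A (H1 G M) := ⟨fun n => ((E n).comap (Z1 G M).subtype).map (B1 G M).mkQ,
    fun a b h => Submodule.map_mono (Submodule.comap_mono (E.monotone h))⟩
  obtain ⟨N, hN⟩ := monotone_stabilizes_iff_noetherian.mpr (inferInstance : IsNoetherian A (H1 G M)) F
  refine ⟨N, fun n c hc => ?_⟩
  rcases le_total n N with h | h
  · exact E.monotone h hc
  have hmem : (B1 G M).mkQ ⟨c, hZ n hc⟩ ∈ F N := (hN n h).ge ⟨⟨c, hZ n hc⟩, hc, rfl⟩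
  obtain ⟨d, hd, he⟩ := hmem
  have h2 : d.1 - c ∈ E N := E.monotone (zero_le (a := N)) (hB ((Submodule.Quotient.eq (B1 G M)).1 he))
  rw [← sub_sub_cancel d.1 c]
  exact sub_mem hd h2

end Groth.Agent.SGA10
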