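import Groth.Agent.SGA10.FormalIdem

/-!
# Restriction from a punctured spectrum to its trace on a closed subscheme is fully faithful
-/

set_option autoImplicit false
set_option linter.style.haveILetI false
universe u

open CategoryTheory CategoryTheory.Limits AlgebraicGeometry IsLocalRing

noncomputable section

namespace Groth.Agent.SGA10

open Groth.Agent.Pi1Ext RegPurity PuritySch CechTors HyperClopen HyperFF

set_option backward.isDefEq.respectTransparency false
set_option backward.isDefEq.respectTransparency.types false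

variable {A : Type u} [CommRing A] [IsLocalRing A] [IsNoetherianRing A]

theorem range_ideal (J : Ideal A) :
    Set.range (pullback.fst (FEt.puncturedSpec A).ι
      (Spec.map (CommRingCat.ofHom (Ideal.Quotient.mk J)))).base =
      {x | J ≤ ((FEt.puncturedSpec A).ι.base x : PrimeSpectrum A).asIdeal} := by
  rw [Scheme.Pullback.range_fst]
  ext x
  show (FEt.puncturedSpec A).ι.base x ∈ Set.range (PrimeSpectrum.comap (Ideal.Quotient.mk J)) ↔ _
  rw [range_comap_of_surjective _ _ Ideal.Quotient.mk_surjective, Ideal.mk_ker]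
  exact Iff.rfl

/-- An idempotent family cutting out a clopen of the punctured spectrum. -/
theorem exists_family_of_clopen {G : Finset A} {C : Type u} [CommRing C] [Algebra A C]
    (O O' : Set (PrimeSpectrum C)) (hO : IsOpen O) (hO' : IsOpen O')
    (hcov : ∀ (g : G) (q : PrimeSpectrum C), algebraMap A C g.1 ∉ q.asIdeal → q ∈ O ∨ q ∈ O')
    (hdis : ∀ (g : G) (q : PrimeSpectrum C), algebraMap A C g.1 ∉ q.asIdeal → q ∈ O → q ∉ O') :
    ∃ a ∈ Compat G C, a * a = a ∧ ∀ (g : G) (P : PrimeSpectrum (Cg C g.1)),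
      PrimeSpectrum.comap (algebraMap C (Cg C g.1)) P ∈ O ↔ a g ∉ P.asIdeal := by
  have hmem : ∀ (g : G) (P : PrimeSpectrum (Cg C g.1)),
      algebraMap A C g.1 ∉ (PrimeSpectrum.comap (algebraMap C (Cg C g.1)) P).asIdeal := fun g P =>
    (comap_mem_iff _).2 ⟨P, rfl⟩
  have hloc : ∀ g : G, ∃ a : Cg C g.1, a * a - a ∈ (⊥ : Ideal (Cg C g.1)) ∧
      ∀ P : PrimeSpectrum (Cg C g.1), (⊥ : Ideal (Cg C g.1)) ≤ P.asIdeal →
        (PrimeSpectrum.comap (algebraMap C (Cg C g.1)) P ∈ O ↔ a ∉ P.asIdeal) := fun g =>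
    exists_idem_elem _ _ _ (hO.preimage (PrimeSpectrum.continuous_comap _))
      (hO'.preimage (PrimeSpectrum.continuous_comap _))
      (fun P _ => hcov g _ (hmem g P)) (fun P _ => hdis g _ (hmem g P))
  choose a ha haO using hloc
  refine ⟨a, (mem_compat G C).2 fun g h => sub_eq_zero.1 (Ideal.mem_bot.1 ?_),
    funext fun g => sub_eq_zero.1 (Ideal.mem_bot.1 (ha g)), fun g P => haO g P bot_le⟩
  have hid : ∀ g : G, a g * a g - a g = 0 := fun g => Ideal.mem_bot.1 (ha g)
  refine sub_mem_of_same _ (by rw [← map_mul, ← map_sub, hid, map_zero]; exact zero_mem _)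
    (by rw [← map_mul, ← map_sub, hid, map_zero]; exact zero_mem _) fun P _ => ?_
  have eL := haO g (PrimeSpectrum.comap (resL C g.1 h.1) P) bot_le
  have eR := haO h (PrimeSpectrum.comap (resR C g.1 h.1) P) bot_le
  rw [← PrimeSpectrum.comap_comp_apply, resR, IsLocalization.lift_comp] at eR
  rw [← PrimeSpectrum.comap_comp_apply, resL, IsLocalization.lift_comp] at eL
  exact not_iff_not.1 (eL.symm.trans eR)

/-- Restriction to the trace of a closed subscheme is fully faithful when the infinitesimal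
neighbourhoods are saturated. -/
theorem formal_full_faithful {G : Finset A} (hG : Ideal.span (G : Set A) = maximalIdeal A) (J : Ideal A)
    [IsAdicComplete J A] (hsat : ∀ n, Sat G (A ⧸ J ^ n)) :
    (FEt.restrict (pullback.fst (FEt.puncturedSpec A).ι
      (Spec.map (CommRingCat.ofHom (Ideal.Quotient.mk J))))).Full ∧
    (FEt.restrict (pullback.fst (FEt.puncturedSpec A).ι
      (Spec.map (CommRingCat.ofHom (Ideal.Quotient.mk J))))).Faithful := by
  let ι := (FEt.puncturedSpec A).ι
  let i := pullback.fst ι (Spec.map (CommRingCat.ofHom (Ideal.Quotient.mk J)))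
  have hgm : ∀ g : G, g.1 ∈ maximalIdeal A := fun g => hG ▸ Ideal.subset_span g.2
  have hinj : Function.Injective ι.base := ι.isOpenEmbedding.injective
  have hC : ∀ C : Set (FEt.puncturedSpec A : Scheme.{u}), IsClopen C → C.Nonempty →
      (C ∩ Set.range i.base).Nonempty := by
    rintro C hC ⟨y, hy⟩
    by_contra hne
    obtain ⟨g, hg⟩ := exists_gen_notMem hG (ι.base y) (by
      show ι.base y ∈ ((FEt.puncturedSpec A : (Spec (CommRingCat.of A)).Opens) : Set _)
      rw [← Scheme.Opens.range_ι]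
      exact ⟨y, rfl⟩)
    have hex : ∀ (g : G) (q : PrimeSpectrum A), g.1 ∉ q.asIdeal → ∃ z, ι.base z = q := fun g q hq => by
      have : q ∈ Set.range ι.base := by
        rw [Scheme.Opens.range_ι]
        exact mem_punctured (hgm g) q hq
      exact this
    obtain ⟨a, haC, haid, haO⟩ := exists_family_of_clopen (G := G) (C := A) (ι.base '' C) (ι.base '' Cᶜ)
      (ι.isOpenEmbedding.isOpenMap _ hC.2) (ι.isOpenEmbedding.isOpenMap _ hC.compl.2)
      (fun g q hq => by
        obtain ⟨z, rfl⟩ := hex g q hq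
        by_cases hz : z ∈ C
        · exact Or.inl ⟨z, hz, rfl⟩
        · exact Or.inr ⟨z, hz, rfl⟩)
      (fun g q hq => by
        rintro ⟨z, hz, rfl⟩ ⟨z', hz', he⟩
        exact hz' (hinj he ▸ hz))
    have hetA : ∀ g ∈ G, EtAway A A g := fun g _ => Algebra.Etale.of_isLocalizationAway g
    obtain ⟨ε, -, -, -, hz0⟩ := exists_idempotent_formal (G := G) (C := A) J hsat hetA ∅ Set.univ isOpen_empty
      isOpen_univ (fun _ _ _ _ => Or.inr trivial) (fun _ _ _ _ h => (Set.notMem_empty _ h).elim)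
    have ha0 : a = 0 := by
      refine hz0 a haC fun n g => ?_
      have hrad : a g ∈ (Jn J g.1 1).radical := by
        rw [Ideal.radical_eq_sInf, Ideal.mem_sInf]
        rintro Q ⟨hQ, hQp⟩
        by_contra haQ
        obtain ⟨z, hz, hzq⟩ := (haO g ⟨Q, hQp⟩).2 haQ
        refine hne ⟨z, hz, ?_⟩
        rw [range_ideal]
        show J ≤ (ι.base z : PrimeSpectrum A).asIdeal
        rw [hzq]
        intro x hx
        exact hQ (Ideal.mem_map_of_mem _ (show x ∈ J ^ 1 by rwa [pow_one]))
      obtain ⟨N, hN⟩ := hrad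
      have hid : IsIdempotentElem (a g) := congrFun haid g
      have hpow : a g = a g ^ (N * n + 1) * 1 := by rw [mul_one, hid.pow_succ_eq]
      rcases Nat.eq_zero_or_pos n with rfl | hn
      · rw [Jn, pow_zero, Ideal.one_eq_top, Ideal.map_top]; trivial
      rw [hpow, mul_one, pow_succ, pow_mul, Jn, Ideal.map_pow]
      refine Ideal.mul_mem_right _ _ (Ideal.pow_mem_pow ?_ n)
      simpa [Jn] using hN
    obtain ⟨P, hP⟩ := (comap_mem_iff (C := A) (g := g.1) (ι.base y)).1 hg
    exact (haO g P).1 ⟨y, hy, hP.symm⟩ (by rw [ha0]; exact zero_mem _)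
  refine ⟨Pi1X.restrict_full i hC ?_, Pi1X.restrict_faithful i hC⟩
  intro W C' hC'
  let w : W.left ⟶ (FEt.puncturedSpec A : Scheme.{u}) := W.hom
  haveI : IsFinite w := W.prop.1
  obtain ⟨C, _, _, _, q, hq⟩ := FiniteModel.exists_finite_model w
  haveI : IsNoetherianRing C := IsNoetherianRing.of_finite A C
  have hrest : FEt.prop (rest A C) := by
    rw [← MorphismProperty.cancel_left_of_respectsIso (P := FEt.prop) q.hom, hq]
    exact W.prop
  have hEt := etOff_of_prop_rest C hrest
  let j : W.left ⟶ Spec (CommRingCat.of C) := q.hom ≫ pullback.fst (sp A C) ι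
  have hjs : j ≫ sp A C = w ≫ ι := by
    rw [← hq, Category.assoc, Category.assoc, pullback.condition]
  have hjcomap : ∀ x, PrimeSpectrum.comap (algebraMap A C) (j.base x) = ι.base (w.base x) := fun x => by
    have := congrArg (fun t => t.base x) hjs
    simp only [Scheme.Hom.comp_apply] at this
    exact this
  have hjr : ∀ p : PrimeSpectrum C, (∃ g : G, algebraMap A C g.1 ∉ p.asIdeal) → ∃ x, j.base x = p := by
    rintro p ⟨g, hg⟩
    have hp : p ∈ Set.range (pullback.fst (sp A C) ι).base := by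
      rw [Scheme.Pullback.range_fst, Scheme.Opens.range_ι]
      exact mem_punctured (hgm g) (PrimeSpectrum.comap (algebraMap A C) p) hg
    obtain ⟨z, hz⟩ := hp
    obtain ⟨x, rfl⟩ := q.hom.surjective z
    exact ⟨x, hz⟩
  have hjg : ∀ x, ∃ g : G, algebraMap A C g.1 ∉ (j.base x).asIdeal := fun x => by
    obtain ⟨g, hg⟩ := exists_gen_notMem hG (ι.base (w.base x)) (by
      show ι.base (w.base x) ∈ ((FEt.puncturedSpec A : (Spec (CommRingCat.of A)).Opens) : Set _)
      rw [← Scheme.Opens.range_ι]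
      exact ⟨_, rfl⟩)
    rw [← hjcomap] at hg
    exact ⟨g, hg⟩
  haveI : IsOpenImmersion j := inferInstance
  have hjo := j.isOpenEmbedding
  let k := pullback.fst w i
  haveI : IsClosedImmersion i := MorphismProperty.pullback_fst _ _
    (IsClosedImmersion.spec_of_surjective _ Ideal.Quotient.mk_surjective)
  haveI : IsClosedImmersion k := MorphismProperty.pullback_fst _ _ inferInstance
  have hk : Topology.IsClosedEmbedding k.base := k.isClosedEmbedding
  have hkr : ∀ x, x ∈ Set.range k.base ↔ J.map (algebraMap A C) ≤ (j.base x).asIdeal := fun x => by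
    rw [Scheme.Pullback.range_fst, range_ideal]
    show J ≤ (ι.base (w.base x) : PrimeSpectrum A).asIdeal ↔ _
    rw [← hjcomap]
    exact Ideal.map_le_iff_le_comap.symm
  obtain ⟨O₀, hO₀, hO₀C⟩ := hk.toIsInducing.isOpen_iff.1 hC'.2
  obtain ⟨O₁, hO₁, hO₁C⟩ := hk.toIsInducing.isOpen_iff.1 hC'.compl.2
  obtain ⟨ε, hεc, hεi, hεO, -⟩ := exists_idempotent_formal J hsat (fun g hg => hEt g (hG ▸ Ideal.subset_span hg))
    (j.base '' O₀) (j.base '' O₁)
    (hjo.isOpenMap _ hO₀) (hjo.isOpenMap _ hO₁) (fun g p hfp hgp => by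
      obtain ⟨x, rfl⟩ := hjr p ⟨g, hgp⟩
      obtain ⟨z, rfl⟩ := (hkr x).2 hfp
      by_cases hz : z ∈ C'
      · exact Or.inl ⟨_, (show z ∈ k.base ⁻¹' O₀ from hO₀C.symm ▸ hz), rfl⟩
      · exact Or.inr ⟨_, (show z ∈ k.base ⁻¹' O₁ from hO₁C.symm ▸ hz), rfl⟩)
    (fun g p hfp hgp => by
      obtain ⟨x, rfl⟩ := hjr p ⟨g, hgp⟩
      obtain ⟨z, rfl⟩ := (hkr x).2 hfp
      rw [hjo.injective.mem_set_image, hjo.injective.mem_set_image]
      intro ha hb
      have ha' : z ∈ C' := hO₀C ▸ ha
      have hb' : z ∈ C'ᶜ := hO₁C ▸ hb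
      exact hb' ha')
  refine ⟨j.base ⁻¹' supp ε, ⟨?_, (isOpen_supp ε).preimage j.continuous⟩, ?_⟩
  · have hc : (j.base ⁻¹' supp ε)ᶜ = j.base ⁻¹' supp (1 - ε) := by
      ext x
      obtain ⟨g, hg⟩ := hjg x
      obtain ⟨P, hP⟩ := (HyperClopen.comap_mem_iff (j.base x)).1 hg
      show j.base x ∉ supp ε ↔ j.base x ∈ supp (1 - ε)
      rw [← hP, mem_supp_iff hεc g P, mem_supp_iff (sub_mem (one_mem _) hεc) g P, not_not,
        Pi.sub_apply, Pi.one_apply]
      have hmul : ε g * (1 - ε g) ∈ P.asIdeal := by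
        rw [mul_sub, mul_one, show ε g * ε g = ε g from congrFun hεi g, sub_self]
        exact zero_mem _
      refine ⟨fun h h' => P.2.ne_top ((Ideal.eq_top_iff_one _).2 ?_), fun h => (P.2.mem_or_mem hmul).resolve_right h⟩
      have := P.asIdeal.add_mem h' h
      rwa [sub_add_cancel] at this
    rw [← isOpen_compl_iff, hc]
    exact (isOpen_supp _).preimage j.continuous
  · ext z
    have hz := hεO (j.base (k.base z)) ((hkr _).1 ⟨z, rfl⟩) (hjg _)
    show j.base (k.base z) ∈ supp ε ↔ _
    rw [hz, hjo.injective.mem_set_image, ← Set.mem_preimage, hO₀C]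

end Groth.Agent.SGA10
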