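import Groth.Agent.SGA10.Sat
import Groth.Agent.Pi1Ext.HyperFF
import Mathlib.RingTheory.AdicCompletion.Basic
import Mathlib.RingTheory.Spectrum.Prime.Topology

/-!
# Idempotents on a formal punctured spectrum come from the punctured spectrum
-/

set_option autoImplicit false
set_option linter.style.haveILetI false
universe u

open IsLocalRing

noncomputable section

namespace Groth.Agent.SGA10

open Groth.Agent.Pi1Ext Groth.Agent.Pi1Ext.CechTors Groth.Agent.Pi1Ext.HyperClopen

variable {A : Type u} [CommRing A] {G : Finset A} {C : Type u} [CommRing C] [Algebra A C]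

/-- The powers of `J` in a localization of `C`. -/
abbrev Jn (J : Ideal A) (g : A) (n : ℕ) : Ideal (Cg C g) := (J ^ n).map (algebraMap A (Cg C g))

theorem amap_eq_smul (g : A) (a : A) (x : Cg C g) :
    algebraMap C (Cg C g) (algebraMap A C a) * x = a • x := by
  rw [Algebra.smul_def, IsScalarTower.algebraMap_apply A C (Cg C g)]

theorem mem_smul_top_of_mem_Jn {J : Ideal A} {g : A} {n : ℕ} {x : Cg C g} (h : x ∈ Jn J g n) :
    ∃ (k : ℕ) (c : C), c ∈ (J ^ n).map (algebraMap A C) ∧ g ^ k • x = algebraMap C _ c := by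
  rw [Jn, IsScalarTower.algebraMap_eq A C (Cg C g), ← Ideal.map_map,
    IsLocalization.mem_map_algebraMap_iff (Submonoid.powers (algebraMap A C g))] at h
  obtain ⟨⟨⟨c, hc⟩, ⟨_, k, rfl⟩⟩, h'⟩ := h
  refine ⟨k, c, hc, ?_⟩
  rw [← h', ← amap_eq_smul, map_pow, mul_comm]

/-- Two idempotents with the same zero set modulo an ideal agree modulo the ideal. -/
theorem sub_mem_of_same {R : Type u} [CommRing R] (I : Ideal R) {a b : R} (ha : a * a - a ∈ I) (hb : b * b - b ∈ I)
    (h : ∀ q : PrimeSpectrum R, I ≤ q.asIdeal → (a ∈ q.asIdeal ↔ b ∈ q.asIdeal)) : a - b ∈ I := by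
  let π := Ideal.Quotient.mk I
  have hid : ∀ x : R, x * x - x ∈ I → IsIdempotentElem (π x) := fun x hx => by
    show π x * π x = π x
    rw [← map_mul]
    exact Ideal.Quotient.eq.2 hx
  refine Ideal.Quotient.eq.1 (eq_of_isNilpotent_sub_of_isIdempotentElem (hid a ha) (hid b hb) ?_)
  have key : ∀ x : R, x * x - x ∈ I → ∀ q : Ideal R, q.IsPrime → I ≤ q → x ∉ q → x - 1 ∈ q := fun x hx q hq hle hxq => by
    refine (hq.mem_or_mem (?_ : x * (x - 1) ∈ q)).resolve_left hxq
    rw [mul_sub, mul_one]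
    exact hle hx
  rw [← mem_nilradical, nilradical, Ideal.radical_eq_sInf, Ideal.mem_sInf]
  rintro P ⟨-, hP⟩
  haveI := hP
  let q : Ideal R := P.comap π
  have hle : I ≤ q := fun x hx => by
    show π x ∈ P
    rw [Ideal.Quotient.eq_zero_iff_mem.2 hx]; exact zero_mem _
  have hab : a ∈ q ↔ b ∈ q := h ⟨q, inferInstance⟩ hle
  rw [← map_sub]
  show a - b ∈ q
  by_cases haq : a ∈ q
  · exact q.sub_mem haq (hab.1 haq)
  · have := q.sub_mem (key a ha q inferInstance hle haq) (key b hb q inferInstance hle fun hbq => haq (hab.2 hbq))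
    rwa [sub_sub_sub_cancel_right] at this

/-- A clopen subset of a closed subset of an affine scheme is cut out by an element. -/
theorem exists_idem_elem {R : Type u} [CommRing R] (I : Ideal R) (O O' : Set (PrimeSpectrum R)) (hO : IsOpen O)
    (hO' : IsOpen O') (hcov : ∀ q : PrimeSpectrum R, I ≤ q.asIdeal → q ∈ O ∨ q ∈ O')
    (hdis : ∀ q : PrimeSpectrum R, I ≤ q.asIdeal → q ∈ O → q ∉ O') :
    ∃ a : R, a * a - a ∈ I ∧ ∀ q : PrimeSpectrum R, I ≤ q.asIdeal → (q ∈ O ↔ a ∉ q.asIdeal) := by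
  let π := PrimeSpectrum.comap (Ideal.Quotient.mk I)
  have hπ : ∀ P : PrimeSpectrum (R ⧸ I), I ≤ (π P).asIdeal := fun P x hx => by
    show Ideal.Quotient.mk I x ∈ P.asIdeal
    rw [Ideal.Quotient.eq_zero_iff_mem.2 hx]; exact zero_mem _
  have hcl : IsClopen (π ⁻¹' O) := by
    refine ⟨?_, hO.preimage (PrimeSpectrum.continuous_comap _)⟩
    have : π ⁻¹' O = (π ⁻¹' O')ᶜ := Set.ext fun P =>
      ⟨fun h => hdis _ (hπ P) h, fun h => (hcov _ (hπ P)).resolve_right h⟩
    rw [this]
    exact (hO'.preimage (PrimeSpectrum.continuous_comap _)).isClosed_compl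
  obtain ⟨e, he, hs⟩ := PrimeSpectrum.exists_idempotent_basicOpen_eq_of_isClopen hcl
  obtain ⟨a, rfl⟩ := Ideal.Quotient.mk_surjective e
  refine ⟨a, Ideal.Quotient.eq.1 (by rw [map_mul]; exact he), fun q hq => ?_⟩
  obtain ⟨P, rfl⟩ : q ∈ Set.range π := by
    rw [range_comap_of_surjective _ _ Ideal.Quotient.mk_surjective, Ideal.mk_ker]
    exact hq
  rw [show π P ∈ O ↔ P ∈ π ⁻¹' O from Iff.rfl, hs]
  rfl

/-- An `A`-linear map to a free module sends `J^n C` into `J^n`. -/
theorem apply_mem_of_mem_map {J : Ideal A} {r n : ℕ} (u : C →ₗ[A] Fin r → A) {c : C}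
    (hc : c ∈ (J ^ n).map (algebraMap A C)) (i : Fin r) : u c i ∈ J ^ n := by
  rw [← Submodule.restrictScalars_mem A, ← Ideal.smul_top_eq_map] at hc
  refine Submodule.smul_induction_on hc (fun a ha x _ => ?_) (fun x y hx hy => ?_)
  · rw [map_smul, Pi.smul_apply, smul_eq_mul]; exact Ideal.mul_mem_right _ _ ha
  · rw [map_add, Pi.add_apply]; exact add_mem hx hy

theorem exists_num {g : A} (x : Cg C g) : ∃ (k : ℕ) (c : C), g ^ k • x = algebraMap C _ c := by
  obtain ⟨k, c, rfl⟩ := exists_fr C g x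
  exact ⟨k, c, by rw [← amap_eq_smul, ← fr_spec C g k c, Algebra.smul_def, mul_one]⟩

theorem smul_mem_Jn_iff {J : Ideal A} {g : A} {n k : ℕ} {x : Cg C g} : g ^ k • x ∈ Jn J g n ↔ x ∈ Jn J g n := by
  refine ⟨fun h => ?_, fun h => Submodule.smul_of_tower_mem _ _ h⟩
  rw [← amap_eq_smul, map_pow, map_pow] at h
  exact (Ideal.unit_mul_mem_iff_mem _ ((IsLocalization.Away.algebraMap_isUnit _).pow k)).1 h

theorem algebraMap_mem_Jn_iff {J : Ideal A} {g : A} {n : ℕ} {c : C} :
    algebraMap C (Cg C g) c ∈ Jn J g n ↔ ∃ e : ℕ, g ^ e • c ∈ (J ^ n).map (algebraMap A C) := by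
  constructor
  · intro h
    obtain ⟨k, c', hc', h'⟩ := mem_smul_top_of_mem_Jn h
    obtain ⟨e, he⟩ := algebraMap_away_eq_zero C (g := g) (c := g ^ k • c - c') (by
      rw [map_sub, amap_smul, h', sub_self])
    refine ⟨e + k, ?_⟩
    rw [smul_sub, sub_eq_zero, smul_smul, ← pow_add] at he
    rw [he]
    exact Submodule.smul_of_tower_mem _ _ hc'
  · rintro ⟨e, he⟩
    rw [← smul_mem_Jn_iff (k := e), ← amap_smul, Jn, IsScalarTower.algebraMap_eq A C (Cg C g), ← Ideal.map_map]
    exact Ideal.mem_map_of_mem _ he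

variable [IsNoetherianRing A] [Module.Finite A C]

/-- Idempotents on the formal completion along `J` come from idempotent families. -/
theorem exists_idempotent_formal (J : Ideal A) [IsAdicComplete J A] (hsat : ∀ n, Sat G (A ⧸ J ^ n))
    (hC : ∀ g ∈ G, RegPurity.EtAway A C g) (O O' : Set (PrimeSpectrum C)) (hO : IsOpen O) (hO' : IsOpen O')
    (hcov : ∀ (g : G) (q : PrimeSpectrum C), J.map (algebraMap A C) ≤ q.asIdeal →
      algebraMap A C g.1 ∉ q.asIdeal → q ∈ O ∨ q ∈ O')
    (hdis : ∀ (g : G) (q : PrimeSpectrum C), J.map (algebraMap A C) ≤ q.asIdeal →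
      algebraMap A C g.1 ∉ q.asIdeal → q ∈ O → q ∉ O') :
    ∃ ε ∈ Compat G C, ε * ε = ε ∧
      (∀ q : PrimeSpectrum C, J.map (algebraMap A C) ≤ q.asIdeal → (∃ g : G, algebraMap A C g.1 ∉ q.asIdeal) →
        (q ∈ supp ε ↔ q ∈ O)) ∧
      ∀ w ∈ Compat G C, (∀ (n : ℕ) (g : G), w g ∈ Jn J g.1 n) → w = 0 := by
  classical
  choose r M₀ u v₀ huv₀ using fun g : G => HyperFF.exists_factor (hC g.1 g.2)
  -- a uniform exponent
  let M := Finset.univ.sup M₀
  let v : ∀ g : G, (Fin (r g) → A) →ₗ[A] C := fun g => g.1 ^ (M - M₀ g) • v₀ g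
  have huv : ∀ (g : G) (x : C), v g (u g x) = g.1 ^ M • x := fun g x => by
    rw [LinearMap.smul_apply, huv₀, smul_smul, ← pow_add, Nat.sub_add_cancel (Finset.le_sup (Finset.mem_univ g))]
  have hsepA : ∀ n (a : A), (∀ g : G, ∃ k, g.1 ^ k * a ∈ J ^ n) → a ∈ J ^ n := fun n a ha =>
    Ideal.Quotient.eq_zero_iff_mem.1 ((hsat n).sep (Ideal.Quotient.mk _ a) fun g => (ha g).imp fun k hk => by
      rw [Algebra.smul_def, Ideal.Quotient.algebraMap_eq, ← map_mul]
      exact Ideal.Quotient.eq_zero_iff_mem.2 hk)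
  have hhaus : ∀ a : A, (∀ n, a ∈ J ^ n) → a = 0 := fun a ha =>
    IsHausdorff.haus (inferInstance : IsHausdorff J A) a fun n => by
      rw [SModEq.zero, smul_eq_mul, Ideal.mul_top]; exact ha n
  -- compatible families vanishing on the completion vanish
  have hzero : ∀ w ∈ Compat G C, (∀ (n : ℕ) (g : G), w g ∈ Jn J g.1 n) → w = 0 := fun w hw hn => by
    obtain ⟨K, m, hm, hwm⟩ := exists_rep G C hw
    have hc : ∀ h : G, h.1 ^ K • w h = algebraMap C _ (m h) := fun h => by
      rw [hwm h, ← amap_eq_smul, ← fr_spec C h.1 K (m h), Algebra.smul_def, mul_one]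
    funext g
    have h0 : u g (m g) = 0 := funext fun i => hhaus _ fun n => hsepA n _ fun h => by
      obtain ⟨e, he⟩ := algebraMap_mem_Jn_iff.1 (hc h ▸ smul_mem_Jn_iff.2 (hn n h))
      refine ⟨e + K, ?_⟩
      have h1 : (h.1 ^ (e + K) • m g) ∈ (J ^ n).map (algebraMap A C) := by
        rw [pow_add, mul_smul, hm g h, smul_comm]
        exact Submodule.smul_of_tower_mem _ _ he
      have := apply_mem_of_mem_map (u g) h1 i
      rwa [map_smul, Pi.smul_apply, smul_eq_mul] at this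
    refine smul_away_cancel C g.1 (M + K) ?_
    rw [show (0 : L G C) g = 0 from rfl, smul_zero, pow_add, mul_smul, hc g, ← amap_smul, ← huv g, h0, map_zero,
      map_zero]
  -- idempotents at each order
  have hmem : ∀ (g : G) (P : PrimeSpectrum (Cg C g.1)),
      algebraMap A C g.1 ∉ (PrimeSpectrum.comap (algebraMap C (Cg C g.1)) P).asIdeal := fun g P =>
    (comap_mem_iff _).2 ⟨P, rfl⟩
  have hle : ∀ (g : A) (n : ℕ) (P : PrimeSpectrum (Cg C g)), Jn J g (n + 1) ≤ P.asIdeal →
      J.map (algebraMap A C) ≤ (PrimeSpectrum.comap (algebraMap C (Cg C g)) P).asIdeal := fun g n P hP => by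
    refine Ideal.map_le_iff_le_comap.2 fun x hx => ?_
    show algebraMap C (Cg C g) (algebraMap A C x) ∈ P.asIdeal
    refine P.2.mem_of_pow_mem (n + 1) (hP ?_)
    rw [← map_pow, ← map_pow, ← IsScalarTower.algebraMap_apply]
    exact Ideal.mem_map_of_mem _ (Ideal.pow_mem_pow hx _)
  have hloc : ∀ (n : ℕ) (g : G), ∃ a : Cg C g.1, a * a - a ∈ Jn J g.1 (n + 1) ∧
      ∀ P : PrimeSpectrum (Cg C g.1), Jn J g.1 (n + 1) ≤ P.asIdeal →
        (PrimeSpectrum.comap (algebraMap C (Cg C g.1)) P ∈ O ↔ a ∉ P.asIdeal) := fun n g =>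
    exists_idem_elem _ _ _ (hO.preimage (PrimeSpectrum.continuous_comap _))
      (hO'.preimage (PrimeSpectrum.continuous_comap _))
      (fun P hP => hcov g _ (hle _ n P hP) (hmem g P)) (fun P hP => hdis g _ (hle _ n P hP) (hmem g P))
  choose a ha haO using hloc
  choose k c hkc using fun (n : ℕ) (g : G) => exists_num (a n g)
  have hmapJ : ∀ {R R' : Type u} [CommRing R] [CommRing R'] [Algebra A R] [Algebra A R'] (φ : R →+* R'),
      φ.comp (algebraMap A R) = algebraMap A R' → ∀ n, ((J ^ n).map (algebraMap A R)).map φ = (J ^ n).map (algebraMap A R') :=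
    fun {R R'} _ _ _ _ φ hφ n => by rw [Ideal.map_map, hφ]
  have hφL : ∀ g h : A, (resL C g h).comp (algebraMap A (Cg C g)) = algebraMap A (Cg C (g * h)) := fun g h =>
    RingHom.ext fun x => by
      rw [RingHom.comp_apply, IsScalarTower.algebraMap_apply A C (Cg C g), resL_algebraMap,
        ← IsScalarTower.algebraMap_apply]
  have hφR : ∀ g h : A, (resR C g h).comp (algebraMap A (Cg C h)) = algebraMap A (Cg C (g * h)) := fun g h =>
    RingHom.ext fun x => by
      rw [RingHom.comp_apply, IsScalarTower.algebraMap_apply A C (Cg C h), resR_algebraMap,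
        ← IsScalarTower.algebraMap_apply]
  -- the numerators agree modulo the powers
  have hcomp : ∀ (n : ℕ) (g h : G), resL C g.1 h.1 (a n g) - resR C g.1 h.1 (a n h) ∈ Jn J (g.1 * h.1) (n + 1) := by
    intro n g h
    have hL : ∀ {x : Cg C g.1}, x ∈ Jn J g.1 (n + 1) → resL C g.1 h.1 x ∈ Jn J (g.1 * h.1) (n + 1) := fun {x} hx => by
      rw [Jn, ← hmapJ _ (hφL g.1 h.1)]; exact Ideal.mem_map_of_mem _ hx
    have hR : ∀ {x : Cg C h.1}, x ∈ Jn J h.1 (n + 1) → resR C g.1 h.1 x ∈ Jn J (g.1 * h.1) (n + 1) := fun {x} hx => by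
      rw [Jn, ← hmapJ _ (hφR g.1 h.1)]; exact Ideal.mem_map_of_mem _ hx
    refine sub_mem_of_same _ (by rw [← map_mul, ← map_sub]; exact hL (ha n g))
      (by rw [← map_mul, ← map_sub]; exact hR (ha n h)) fun P hP => ?_
    have eL := haO n g (PrimeSpectrum.comap (resL C g.1 h.1) P) (fun x hx => hP (hL hx))
    have eR := haO n h (PrimeSpectrum.comap (resR C g.1 h.1) P) (fun x hx => hP (hR hx))
    rw [← PrimeSpectrum.comap_comp_apply, resR, IsLocalization.lift_comp] at eR
    rw [← PrimeSpectrum.comap_comp_apply, resL, IsLocalization.lift_comp] at eL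
    exact not_iff_not.1 (eL.symm.trans eR)
  have hnum : ∀ (n : ℕ) (g h : G), ∃ e : ℕ,
      (g.1 * h.1) ^ e • (h.1 ^ k n h • c n g - g.1 ^ k n g • c n h) ∈ (J ^ (n + 1)).map (algebraMap A C) := by
    intro n g h
    refine algebraMap_mem_Jn_iff.1 ?_
    have h2 := Submodule.smul_of_tower_mem (Jn J (g.1 * h.1) (n + 1)) (g.1 ^ k n g * h.1 ^ k n h) (hcomp n g h)
    have e1 : algebraMap C (Cg C (g.1 * h.1)) (c n g) = g.1 ^ k n g • resL C g.1 h.1 (a n g) := by
      rw [← resL_algebraMap C g.1 h.1, ← hkc, ← amap_eq_smul, map_mul, resL_algebraMap, amap_eq_smul]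
    have e2 : algebraMap C (Cg C (g.1 * h.1)) (c n h) = h.1 ^ k n h • resR C g.1 h.1 (a n h) := by
      rw [← resR_algebraMap C g.1 h.1, ← hkc, ← amap_eq_smul, map_mul, resR_algebraMap, amap_eq_smul]
    rw [map_sub, amap_smul, amap_smul, e1, e2]
    rw [smul_sub, mul_smul, mul_smul, smul_comm (g.1 ^ k n g) (h.1 ^ k n h)] at h2
    convert h2 using 2
  -- sections of the free module at each order
  have hα : ∀ (l : G) (n : ℕ), ∃ α : Fin (r l) → A, ∀ h : G, ∃ e : ℕ, ∀ i,
      h.1 ^ (e + k n h) * α i - h.1 ^ e * u l (c n h) i ∈ J ^ (n + 1) := by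
    intro l n
    choose e he using hnum n
    let E := Finset.univ.sup fun p : G × G => e p.1 p.2
    have hg : ∀ i, ∃ y : A ⧸ J ^ (n + 1), ∀ g : G,
        g.1 ^ (E + k n g) • y = g.1 ^ E • Ideal.Quotient.mk (J ^ (n + 1)) (u l (c n g) i) := fun i =>
      (hsat (n + 1)).glue' (fun g => E + k n g) _ fun g h => by
        have hle : e g h ≤ E := Finset.le_sup (f := fun p : G × G => e p.1 p.2) (Finset.mem_univ (g, h))
        have h1 : (g.1 * h.1) ^ E • (h.1 ^ k n h • c n g - g.1 ^ k n g • c n h) ∈ (J ^ (n + 1)).map (algebraMap A C) := by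
          rw [show (g.1 * h.1) ^ E = (g.1 * h.1) ^ (E - e g h) * (g.1 * h.1) ^ e g h by
            rw [← pow_add, Nat.sub_add_cancel hle], mul_smul]
          exact Submodule.smul_of_tower_mem _ _ (he g h)
        have h2 := Ideal.Quotient.eq_zero_iff_mem.2 (apply_mem_of_mem_map (u l) h1 i)
        simp only [map_smul, map_sub, Pi.smul_apply, Pi.sub_apply, smul_eq_mul, map_mul, map_pow] at h2
        simp only [Algebra.smul_def, Ideal.Quotient.algebraMap_eq, map_pow]
        linear_combination h2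
    choose y hy using hg
    choose α hα using fun i => Ideal.Quotient.mk_surjective (y i)
    refine ⟨α, fun h => ⟨E, fun i => Ideal.Quotient.eq.1 ?_⟩⟩
    have := hy i h
    rw [← hα i, Algebra.smul_def, Algebra.smul_def, Ideal.Quotient.algebraMap_eq, ← map_mul, ← map_mul] at this
    exact this
  choose α e hα using hα
  have hαn : ∀ (l : G) (n : ℕ) (i : Fin (r l)), α l (n + 1) i - α l n i ∈ J ^ (n + 1) := by
    intro l n i
    refine hsepA (n + 1) _ fun h => ?_
    have hstep : a (n + 1) h - a n h ∈ Jn J h.1 (n + 1) := by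
      refine sub_mem_of_same _ (Ideal.map_mono (Ideal.pow_le_pow_right (Nat.le_succ _)) (ha (n + 1) h)) (ha n h) fun P hP => ?_
      have hP2 : Jn J h.1 (n + 1 + 1) ≤ P.asIdeal := (Ideal.map_mono (Ideal.pow_le_pow_right (Nat.le_succ _))).trans hP
      exact not_iff_not.1 ((haO (n + 1) h P hP2).symm.trans (haO n h P hP))
    obtain ⟨f, hf⟩ := algebraMap_mem_Jn_iff.1 (show algebraMap C (Cg C h.1)
        (h.1 ^ k n h • c (n + 1) h - h.1 ^ k (n + 1) h • c n h) ∈ Jn J h.1 (n + 1) by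
      rw [map_sub, amap_smul, amap_smul, ← hkc, ← hkc, smul_comm (h.1 ^ k (n + 1) h), ← smul_sub, ← smul_sub]
      exact Submodule.smul_of_tower_mem _ _ (Submodule.smul_of_tower_mem _ _ hstep))
    refine ⟨f + (e l (n + 1) h + k (n + 1) h) + (e l n h + k n h), ?_⟩
    have h1 := Ideal.pow_le_pow_right (Nat.le_succ (n + 1)) (hα l (n + 1) h i)
    have h2 := hα l n h i
    have h3 := apply_mem_of_mem_map (u l) hf i
    simp only [map_smul, map_sub, Pi.smul_apply, Pi.sub_apply, smul_eq_mul] at h3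
    have key : h.1 ^ (f + (e l (n + 1) h + k (n + 1) h) + (e l n h + k n h)) * (α l (n + 1) i - α l n i) =
        (h.1 ^ (f + (e l n h + k n h))) * (h.1 ^ (e l (n + 1) h + k (n + 1) h) * α l (n + 1) i -
          h.1 ^ e l (n + 1) h * u l (c (n + 1) h) i) -
        (h.1 ^ (f + (e l (n + 1) h + k (n + 1) h))) * (h.1 ^ (e l n h + k n h) * α l n i -
          h.1 ^ e l n h * u l (c n h) i) +
        h.1 ^ (e l (n + 1) h + e l n h) *
          (h.1 ^ f * (h.1 ^ k n h * u l (c (n + 1) h) i - h.1 ^ k (n + 1) h * u l (c n h) i)) := by ring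
    rw [key]
    exact add_mem (sub_mem (Ideal.mul_mem_left _ _ h1) (Ideal.mul_mem_left _ _ h2)) (Ideal.mul_mem_left _ _ h3)
  have hlim : ∀ (l : G) (i : Fin (r l)), ∃ L : A, ∀ n, α l n i - L ∈ J ^ (n + 1) := by
    intro l i
    have hmn : ∀ {m n}, m ≤ n → α l n i - α l m i ∈ J ^ (m + 1) := by
      intro m n h
      induction n, h using Nat.le_induction with
      | base => rw [sub_self]; exact zero_mem _
      | succ n hn ih =>
        rw [← sub_add_sub_cancel (α l (n + 1) i) (α l n i)]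
        exact add_mem (Ideal.pow_le_pow_right (by omega) (hαn l n i)) ih
    obtain ⟨L, hL⟩ := IsPrecomplete.prec (I := J) inferInstance (f := fun n => α l n i) fun {m n} h => by
      rw [SModEq.sub_mem, smul_eq_mul, Ideal.mul_top, ← neg_sub]
      exact neg_mem (Ideal.pow_le_pow_right (Nat.le_succ m) (hmn h))
    refine ⟨L, fun n => ?_⟩
    have h1 := hL (n + 1)
    rw [SModEq.sub_mem, smul_eq_mul, Ideal.mul_top] at h1
    rw [show α l n i - L = (α l (n + 1) i - L) - (α l (n + 1) i - α l n i) by ring]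
    exact sub_mem h1 (Ideal.pow_le_pow_right le_rfl (hαn l n i))
  choose lim hlim using hlim
  let x : G → C := fun l => v l (fun i => lim l i)
  have hx : ∀ (l h : G) (n : ℕ), algebraMap C (Cg C h.1) (x l) - l.1 ^ M • a n h ∈ Jn J h.1 (n + 1) := by
    intro l h n
    refine (smul_mem_Jn_iff (k := k n h)).1 ?_
    rw [smul_sub, smul_comm, hkc, ← amap_smul, ← amap_smul, ← map_sub]
    refine algebraMap_mem_Jn_iff.2 ⟨e l n h, ?_⟩
    have hm : ∀ z : Fin (r l) → A, (∀ i, z i ∈ J ^ (n + 1)) → v l z ∈ (J ^ (n + 1)).map (algebraMap A C) := fun z hz => by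
      rw [← Finset.univ_sum_single z, map_sum]
      refine Ideal.sum_mem _ fun i _ => ?_
      rw [show Pi.single i (z i) = z i • (Pi.single i 1 : Fin (r l) → A) by rw [← Pi.single_smul', smul_eq_mul, mul_one],
        map_smul, Algebra.smul_def]
      exact Ideal.mul_mem_right _ _ (Ideal.mem_map_of_mem _ (hz i))
    have : h.1 ^ e l n h • (h.1 ^ k n h • x l - l.1 ^ M • c n h) =
        v l (h.1 ^ (e l n h + k n h) • (fun i => lim l i) - h.1 ^ e l n h • u l (c n h)) := by
      rw [map_sub, map_smul, map_smul, huv, smul_sub, smul_smul, ← pow_add]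
    rw [this]
    refine hm _ fun i => ?_
    simp only [Pi.sub_apply, Pi.smul_apply, smul_eq_mul]
    have h1 : h.1 ^ (e l n h + k n h) * lim l i - h.1 ^ e l n h * u l (c n h) i =
        (h.1 ^ (e l n h + k n h) * α l n i - h.1 ^ e l n h * u l (c n h) i) -
          h.1 ^ (e l n h + k n h) * (α l n i - lim l i) := by ring
    rw [h1]
    exact sub_mem (hα l n h i) (Ideal.mul_mem_left _ _ (hlim l i n))
  let ε : L G C := fun g => fr C g.1 M (x g)
  have hεnum : ∀ g : G, g.1 ^ M • ε g = algebraMap C _ (x g) := fun g => by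
    rw [← amap_eq_smul, ← fr_spec C g.1 M (x g), Algebra.smul_def, mul_one]
  have hεa : ∀ (g : G) (n : ℕ), ε g - a n g ∈ Jn J g.1 (n + 1) := fun g n => by
    refine (smul_mem_Jn_iff (k := M)).1 ?_
    rw [smul_sub, hεnum]
    exact hx g g n
  have hJ0 : ∀ (g : A) (z : Cg C g), z ∈ Jn J g 0 := fun g z => by
    rw [Jn, pow_zero, Ideal.one_eq_top, Ideal.map_top]; trivial
  have hεC : ε ∈ Compat G C := (mem_compat G C).2 fun g l => by
    have h1 : dg G C (l.1 ^ M • x g - g.1 ^ M • x l) = 0 := hzero _ (dg_mem G C _) fun n h => by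
      rcases n with _ | n
      · exact hJ0 _ _
      show algebraMap C (Cg C h.1) (l.1 ^ M • x g - g.1 ^ M • x l) ∈ _
      rw [map_sub, amap_smul, amap_smul, ← sub_sub_sub_cancel_right _ _ (l.1 ^ M • g.1 ^ M • a n h), ← smul_sub,
        smul_comm (l.1 ^ M) (g.1 ^ M), ← smul_sub]
      exact sub_mem (Submodule.smul_of_tower_mem _ _ (hx g h n)) (Submodule.smul_of_tower_mem _ _ (hx l h n))
    have h2 : algebraMap C (Cg C (g.1 * l.1)) (l.1 ^ M • x g - g.1 ^ M • x l) = 0 := by
      rw [← resL_algebraMap C g.1 l.1, show algebraMap C (Cg C g.1) (l.1 ^ M • x g - g.1 ^ M • x l) = 0 from congrFun h1 g,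
        map_zero]
    show resL C g.1 l.1 (fr C g.1 M (x g)) = resR C g.1 l.1 (fr C l.1 M (x l))
    rw [resL_fr, resR_fr, ← sub_eq_zero, fr_sub, fr_eq_zero]
    exact algebraMap_away_eq_zero C h2
  refine ⟨ε, hεC, sub_eq_zero.1 (hzero _ (sub_mem (mul_mem hεC hεC) hεC) fun n g => ?_), fun q hq ⟨g, hgq⟩ => ?_, hzero⟩
  · rcases n with _ | n
    · exact hJ0 _ _
    show ε g * ε g - ε g ∈ _
    rw [show ε g * ε g - ε g = (a n g * a n g - a n g) + (ε g - a n g) * (ε g + a n g - 1) by ring]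
    exact add_mem (ha n g) (Ideal.mul_mem_right _ _ (hεa g n))
  · obtain ⟨P, rfl⟩ := (comap_mem_iff q).1 hgq
    have hP : Jn J g.1 (0 + 1) ≤ P.asIdeal := by
      rw [Jn, zero_add, pow_one, IsScalarTower.algebraMap_eq A C (Cg C g.1), ← Ideal.map_map]
      exact Ideal.map_le_iff_le_comap.2 hq
    rw [mem_supp_iff hεC g P, haO 0 g P hP]
    have h5 := hP (hεa g 0)
    refine not_congr ⟨fun h => ?_, fun h => ?_⟩
    · have := P.asIdeal.sub_mem h h5
      rwa [sub_sub_cancel] at this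
    · have := P.asIdeal.add_mem h5 h
      rwa [sub_add_cancel] at this

end Groth.Agent.SGA10
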