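import Groth.Agent.SGA10.Tower

/-!
# The limit algebra of a tower and its properties
-/

set_option autoImplicit false
set_option linter.style.haveILetI false
universe u

noncomputable section

namespace Groth.Agent.SGA10

namespace Tower

variable {B : Type u} [CommRing B] {G : Finset B} {t : B} (T : Tower G t)

/-- Compatible sequences. -/
def lim : Subalgebra B (∀ i, T.D i) where
  carrier := {s | ∀ i, T.ρ i (i + 1) i.le_succ (s (i + 1)) = s i}
  mul_mem' hx hy i := by rw [Pi.mul_apply, map_mul, hx i, hy i]; rfl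
  add_mem' hx hy i := by rw [Pi.add_apply, map_add, hx i, hy i]; rfl
  algebraMap_mem' a i := by simp only [Pi.algebraMap_apply, AlgHom.commutes]

/-- Projection to order zero. -/
def π0 : T.lim →ₐ[B] T.D 0 := (Pi.evalAlgHom B T.D 0).comp T.lim.val

theorem π0_apply (s : T.lim) : T.π0 s = s.1 0 := rfl

theorem ρ_lim (s : T.lim) {m n : ℕ} (h : m ≤ n) : T.ρ m n h (s.1 n) = s.1 m := by
  induction n, h using Nat.le_induction with
  | base => exact T.ρ_self _ _
  | succ n hn ih => rw [← T.ρ_trans m n (n + 1) hn n.le_succ, s.2 n, ih]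

theorem smul_cancel {s : T.lim} (hs : t • s = 0) : s = 0 := by
  refine Subtype.ext (funext fun n => ?_)
  rw [← s.2 n]
  refine T.ρ_eq_zero_of_smul _ ?_
  rw [show n + 1 - n = 1 by omega, pow_one]
  exact congrFun (congrArg Subtype.val hs) (n + 1)

theorem exists_eq_smul {s : T.lim} (hs : s.1 0 = 0) : ∃ s' : T.lim, s = t • s' := by
  have h : ∀ n, ∃ u, T.up n.le_succ u = s.1 (n + 1) := fun n =>
    T.exists_up_eq (m := 0) n.le_succ (Nat.zero_le _) (by omega) (by rw [T.ρ_lim, hs])
  choose u hu using h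
  have hmem : u ∈ T.lim := fun i => by
    refine sub_eq_zero.1 (T.up_injective i.le_succ ?_)
    rw [map_sub, hu, sub_eq_zero, ← s.2 (i + 1), ← hu (i + 1)]
    refine (T.sat (i + 1)).eq_of_forall fun g => ?_
    obtain ⟨k, z, hz⟩ := T.surj (i + 1) (i + 2) (i + 1).le_succ g (u (i + 1))
    refine ⟨k, ?_⟩
    rw [← map_smul _ _ (T.up (i + 1).le_succ _), T.up_spec _ _ g k z hz, ← map_smul,
      show g.1 ^ k • T.ρ i (i + 1) i.le_succ (u (i + 1)) = T.ρ i (i + 2) (by omega) z by
        rw [← map_smul, ← hz, T.ρ_trans],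
      ← T.ρ_trans i (i + 1) (i + 2) i.le_succ (i + 1).le_succ, T.up_ρ, map_smul,
      show i.succ - i = 1 by omega, show i + 2 - (i + 1) = 1 by omega]
  refine ⟨⟨u, hmem⟩, Subtype.ext (funext fun n => ?_)⟩
  show s.1 n = t • u n
  rw [← s.2 n, ← hu n, ← T.ρ_self n (u n)]
  refine (T.sat n).eq_of_forall fun g => ?_
  obtain ⟨k, z, hz⟩ := T.surj n (n + 1) n.le_succ g (u n)
  refine ⟨k, ?_⟩
  rw [T.ρ_self, ← map_smul, T.up_spec _ _ g k z hz, map_smul, hz, show n + 1 - n = 1 by omega, pow_one,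
    smul_comm]

theorem eq_zero_of_forall {s : T.lim} (h : ∀ i, ∃ s', s = t ^ i • s') : s = 0 :=
  Subtype.ext (funext fun n => by
    obtain ⟨s', rfl⟩ := h (n + 1)
    exact T.tors n _)

theorem finite_lim [IsAdicComplete (Ideal.span {t}) B] [IsNoetherian B (T.D 0)] : Module.Finite B T.lim := by
  classical
  haveI : Module.Finite B (LinearMap.range T.π0.toLinearMap) := Module.Finite.of_fg (IsNoetherian.noetherian _)
  obtain ⟨r, p, hp⟩ := Module.Finite.exists_fin' B (LinearMap.range T.π0.toLinearMap)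
  choose s hs using fun i : Fin r => LinearMap.mem_range.1 (p (Pi.single i 1)).2
  refine ⟨⟨Finset.univ.image s, eq_top_iff.2 fun x _ => ?_⟩⟩
  have hstep : ∀ x : T.lim, ∃ (c : Fin r → B) (x' : T.lim), x = ∑ j, c j • s j + t • x' := fun x => by
    obtain ⟨c, hc⟩ := hp ⟨T.π0.toLinearMap x, x, rfl⟩
    obtain ⟨x', hx'⟩ := T.exists_eq_smul (s := x - ∑ j, c j • s j) (by
      rw [← T.π0_apply, ← AlgHom.toLinearMap_apply, map_sub, map_sum, sub_eq_zero]
      rw [show T.π0.toLinearMap x = (p c).1 from (congrArg Subtype.val hc).symm,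
        show p c = ∑ j, c j • p (Pi.single j 1) by
          rw [← Finset.univ_sum_single c, map_sum]
          exact Finset.sum_congr rfl fun j _ => by rw [← map_smul, ← Pi.single_smul', smul_eq_mul, mul_one]; simp,
        Submodule.coe_sum]
      exact Finset.sum_congr rfl fun j _ => by rw [map_smul, hs, Submodule.coe_smul])
    exact ⟨c, x', by rw [← hx', add_sub_cancel]⟩

  obtain ⟨c, rfl⟩ := SGA11.exists_span_of_complete (t := t) s hstep
    (fun x hx => T.eq_zero_of_forall hx) x
  show _ ∈ Submodule.span _ _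
  exact Submodule.sum_mem _ fun j _ => Submodule.smul_mem _ _ (Submodule.subset_span (by simp))
theorem π0_away [IsNoetherianRing B] [IsNoetherian B (H1 G (T.D 0))] (g : G) (y : T.D 0) :
    ∃ (k : ℕ) (s : T.lim), T.π0 s = g.1 ^ k • y := by
  obtain ⟨N, hN⟩ := T.exists_obs_stable
  obtain ⟨k, x, hx⟩ := T.surj 0 (N + 1) (Nat.zero_le _) g y
  obtain ⟨s, hs, hs0⟩ := T.exists_compatible hN x
  exact ⟨k, ⟨s, hs⟩, hs0.trans hx⟩

end Tower

end Groth.Agent.SGA10
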