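import Groth.Agent.SGA10.Algebraize
import Groth.Agent.Pi1Ext.Spread

/-!
# Covers of a punctured hypersurface extend to a neighbourhood
-/

set_option autoImplicit false
set_option linter.style.haveILetI false
universe u

open CategoryTheory CategoryTheory.Limits AlgebraicGeometry IsLocalRing TensorProduct

noncomputable section

namespace Groth.Agent.SGA10

open Groth.Agent.Pi1Ext RegPurity PuritySch Spread

set_option backward.isDefEq.respectTransparency false
set_option backward.isDefEq.respectTransparency.types false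

variable {A : Type u} [CommRing A] [IsLocalRing A]

/-- The hypersurface section of the punctured spectrum. -/
abbrev hyp (f : A) : Scheme.{u} :=
  pullback (FEt.puncturedSpec A).ι (Spec.map (CommRingCat.ofHom (Ideal.Quotient.mk (Ideal.span {f}))))

theorem range_snd_hyp (f : A) [IsLocalRing (A ⧸ Ideal.span {f})] :
    Set.range (pullback.snd (FEt.puncturedSpec A).ι
      (Spec.map (CommRingCat.ofHom (Ideal.Quotient.mk (Ideal.span {f}))))).base =
      Set.range (FEt.puncturedSpec (A ⧸ Ideal.span {f})).ι.base := by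
  rw [Scheme.Pullback.range_snd, Scheme.Opens.range_ι, Scheme.Opens.range_ι]
  ext p
  have hcl : PrimeSpectrum.comap (Ideal.Quotient.mk (Ideal.span {f}))
      (IsLocalRing.closedPoint (A ⧸ Ideal.span {f})) = IsLocalRing.closedPoint A :=
    PrimeSpectrum.ext (IsLocalRing.eq_maximalIdeal (Ideal.comap_isMaximal_of_surjective _
      Ideal.Quotient.mk_surjective (K := maximalIdeal (A ⧸ Ideal.span {f}))))
  show PrimeSpectrum.comap (Ideal.Quotient.mk (Ideal.span {f})) p ≠ IsLocalRing.closedPoint A ↔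
    p ≠ IsLocalRing.closedPoint (A ⧸ Ideal.span {f})
  refine not_congr ⟨fun h => ?_, fun h => h ▸ hcl⟩
  exact PrimeSpectrum.comap_injective_of_surjective _ Ideal.Quotient.mk_surjective (h.trans hcl.symm)

/-- The hypersurface section is the punctured spectrum of the quotient. -/
def hypIso (f : A) [IsLocalRing (A ⧸ Ideal.span {f})] :
    hyp f ≅ (FEt.puncturedSpec (A ⧸ Ideal.span {f}) : Scheme.{u}) :=
  IsOpenImmersion.isoOfRangeEq (pullback.snd _ _) (FEt.puncturedSpec (A ⧸ Ideal.span {f})).ι (range_snd_hyp f)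

theorem hypIso_inv_fst (f : A) [IsLocalRing (A ⧸ Ideal.span {f})] :
    ((hypIso f).inv ≫ pullback.fst _ _) ≫ (FEt.puncturedSpec A).ι =
      (FEt.puncturedSpec (A ⧸ Ideal.span {f})).ι ≫
        Spec.map (CommRingCat.ofHom (Ideal.Quotient.mk (Ideal.span {f}))) := by
  rw [Category.assoc, pullback.condition, ← Category.assoc]
  congr 1
  exact IsOpenImmersion.isoOfRangeEq_inv_fac _ _ (range_snd_hyp f)

variable [IsNoetherianRing A]

/-- The cover of an open where a finite algebra is étale. -/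
theorem prop_snd_of_etAway (M : Type u) [CommRing M] [Algebra A M] [Module.Finite A M]
    (U : (Spec (CommRingCat.of A)).Opens)
    (hU : ∀ x : PrimeSpectrum A, x ∈ U → ∃ h : A, EtAway A M h ∧ h ∉ x.asIdeal) :
    FEt.prop (pullback.snd (sp A M) U.ι) := by
  refine ⟨?_, ?_⟩
  · haveI : IsFinite (sp A M) := (IsFinite.SpecMap_iff _).2 (RingHom.finite_algebraMap.2 inferInstance)
    exact MorphismProperty.pullback_snd _ _ inferInstance
  let J := {p : A × A // EtAway A M p.1 ∧ ((PrimeSpectrum.basicOpen (p.1 * p.2) : Set (PrimeSpectrum A)) ⊆ U.carrier)}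
  have hsub : ∀ p : J, Set.range (sp A (Localization.Away (p.1.1 * p.1.2))).base ⊆ Set.range U.ι.base := fun p => by
    rw [Scheme.Opens.range_ι]
    show Set.range (PrimeSpectrum.comap (algebraMap A (Localization.Away (p.1.1 * p.1.2)))) ⊆ _
    rw [PrimeSpectrum.localization_away_comap_range (Localization.Away (p.1.1 * p.1.2)) (p.1.1 * p.1.2)]
    exact p.2.2
  let c : ∀ p : J, Spec (CommRingCat.of (Localization.Away (p.1.1 * p.1.2))) ⟶ (U : Scheme.{u}) := fun p =>
    IsOpenImmersion.lift U.ι _ (hsub p)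
  have hc : ∀ p : J, c p ≫ U.ι = sp A (Localization.Away (p.1.1 * p.1.2)) := fun p =>
    IsOpenImmersion.lift_fac _ _ _
  let 𝒰 : Scheme.OpenCover.{u} (U : Scheme.{u}) := Scheme.Cover.mkOfCovers J
    (fun p => Spec (CommRingCat.of (Localization.Away (p.1.1 * p.1.2)))) c (fun y => by
      obtain ⟨h, hh, hy⟩ := hU (U.ι y : PrimeSpectrum A) y.2
      obtain ⟨_, ⟨g, rfl⟩, hgy, hgU⟩ := PrimeSpectrum.isTopologicalBasis_basic_opens.exists_subset_of_mem_open
        (show (U.ι y : PrimeSpectrum A) ∈ U.carrier from y.2) U.2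
      have hhg : (U.ι y : PrimeSpectrum A) ∈ PrimeSpectrum.basicOpen (h * g) := by
        rw [PrimeSpectrum.basicOpen_mul]; exact ⟨hy, hgy⟩
      obtain ⟨q, hq⟩ : (U.ι y : PrimeSpectrum A) ∈
          Set.range (PrimeSpectrum.comap (algebraMap A (Localization.Away (h * g)))) := by
        rw [PrimeSpectrum.localization_away_comap_range (Localization.Away (h * g)) (h * g)]
        exact hhg
      let p : J := ⟨(h, g), hh, (PrimeSpectrum.basicOpen_mul_le_right h g).trans hgU⟩
      refine ⟨p, q, U.ι.isOpenEmbedding.injective ?_⟩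
      rw [← Scheme.Hom.comp_apply, hc p]
      exact hq)
    (fun p => by
      haveI : IsOpenImmersion (sp A (Localization.Away (p.1.1 * p.1.2))) :=
        IsOpenImmersion.of_isLocalization (p.1.1 * p.1.2)
      haveI : IsOpenImmersion (c p ≫ U.ι) := by rw [hc]; infer_instance
      exact IsOpenImmersion.of_comp _ U.ι)
  refine IsZariskiLocalAtTarget.of_openCover (P := @Etale) 𝒰 fun p => ?_
  let Ah := Localization.Away (p.1.1 * p.1.2)
  have hu : IsUnit (algebraMap A Ah p.1.1) := isUnit_of_mul_isUnit_left (y := algebraMap A Ah p.1.2) (by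
    rw [← map_mul]; exact IsLocalization.Away.algebraMap_isUnit _)
  haveI := etale_tensor_of_etAway p.2.1 Ah hu
  have e1 : IsPullback (pullback.fst (pullback.snd (sp A M) U.ι) (c p) ≫ pullback.fst (sp A M) U.ι)
      (pullback.snd (pullback.snd (sp A M) U.ι) (c p)) (sp A M) (sp A Ah) := by
    have := (IsPullback.of_hasPullback (pullback.snd (sp A M) U.ι) (c p)).paste_horiz
      (IsPullback.of_hasPullback (sp A M) U.ι)
    rwa [hc p] at this
  show Etale (pullback.snd (pullback.snd (sp A M) U.ι) (c p))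
  rw [← e1.flip.isoPullback_hom_fst, ← pullbackSpecIso_hom_fst' A Ah M,
    MorphismProperty.cancel_left_of_respectsIso (P := @Etale),
    MorphismProperty.cancel_left_of_respectsIso (P := @Etale)]
  exact (HasRingHomProperty.Spec_iff (P := @Etale)).2 (RingHom.etale_algebraMap.2 ‹_›)

/-- Covers of the punctured hypersurface extend to an open neighbourhood in the punctured spectrum. -/
theorem exists_extension (f : A) (hf : f ∈ maximalIdeal A) [IsAdicComplete (Ideal.span {f}) A]
    (hreg : IsSMulRegular A f)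
    (h1 : Module.Finite A (LocCoh.H (maximalIdeal A) 1 (A ⧸ Ideal.span {f})))
    (h2 : Module.Finite A (LocCoh.H (maximalIdeal A) 2 (A ⧸ Ideal.span {f}))) (V₀ : FEt.Cat (hyp f)) :
    ∃ (U' : (Spec (CommRingCat.of A)).Opens) (_ : U' ≤ (FEt.puncturedSpec A)) (u' : hyp f ⟶ (U' : Scheme.{u}))
        (_ : u' ≫ U'.ι = (pullback.fst (FEt.puncturedSpec A).ι
          (Spec.map (CommRingCat.ofHom (Ideal.Quotient.mk (Ideal.span {f})))) ≫ (FEt.puncturedSpec A).ι))
        (V' : FEt.Cat (U' : Scheme.{u})), Nonempty ((FEt.restrict u').obj V' ≅ V₀) := by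
  let mk := Spec.map (CommRingCat.ofHom (Ideal.Quotient.mk (Ideal.span {f})))
  let B := A ⧸ Ideal.span {f}
  haveI : IsLocalRing B := by
    haveI : Nontrivial B := Ideal.Quotient.nontrivial_iff.2 fun h => (maximalIdeal.isMaximal A).ne_top
      (top_le_iff.1 (h.ge.trans ((Ideal.span_singleton_le_iff_mem _).2 hf)))
    exact IsLocalRing.of_surjective' (Ideal.Quotient.mk _) Ideal.Quotient.mk_surjective
  let κ := hypIso f
  obtain ⟨C, _, _, _, hC, ⟨eC⟩⟩ := PuritySch.exists_finite_model ((FEt.restrict κ.inv).obj V₀)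
  obtain ⟨M, _, _, _, hM, R, _, _, u, v, hu, hv⟩ :=
    exists_algebraisation hf hreg (Ideal.span {f}) rfl h1 h2 C hC
  let W : Set (PrimeSpectrum A) := {x | ∃ h : A, EtAway A M h ∧ h ∉ x.asIdeal}
  have hW : IsOpen W := isOpen_iff_forall_mem_open.2 fun x ⟨h, hh, hx⟩ =>
    ⟨PrimeSpectrum.basicOpen h, fun y hy => ⟨h, hh, hy⟩, (PrimeSpectrum.basicOpen h).2, hx⟩
  let U' : (Spec (CommRingCat.of A)).Opens := FEt.puncturedSpec A ⊓ ⟨W, hW⟩
  have hle : U' ≤ FEt.puncturedSpec A := inf_le_left
  have hrange : Set.range (pullback.fst (FEt.puncturedSpec A).ι mk ≫ (FEt.puncturedSpec A).ι).base ⊆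
      Set.range U'.ι.base := by
    rintro _ ⟨y, rfl⟩
    rw [Scheme.Opens.range_ι]
    have hy := (pullback.fst (FEt.puncturedSpec A).ι mk y).2
    refine ⟨hy, ?_⟩
    let x : PrimeSpectrum A := (FEt.puncturedSpec A).ι (pullback.fst (FEt.puncturedSpec A).ι mk y)
    have hfx : f ∈ x.asIdeal := by
      have : pullback.fst (FEt.puncturedSpec A).ι mk y ∈ Set.range (pullback.fst (FEt.puncturedSpec A).ι mk).base :=
        ⟨y, rfl⟩
      rw [HyperFF.range_hyper] at this
      exact this
    obtain ⟨h, hh, het⟩ := hM x.asIdeal hfx fun he => hy (PrimeSpectrum.ext he)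
    exact ⟨h, het, hh⟩
  let u' : hyp f ⟶ (U' : Scheme.{u}) := IsOpenImmersion.lift U'.ι _ hrange
  have hu' : u' ≫ U'.ι = pullback.fst _ mk ≫ (FEt.puncturedSpec A).ι := IsOpenImmersion.lift_fac _ _ _
  let V' : FEt.Cat (U' : Scheme.{u}) :=
    MorphismProperty.Over.mk ⊤ (pullback.snd (sp A M) U'.ι) (prop_snd_of_etAway M U' fun x hx => hx.2)
  refine ⟨U', hle, u', hu', V', ?_⟩
  -- the restriction to the punctured spectrum of the quotient
  let ι := (FEt.puncturedSpec B).ι
  let w := κ.inv ≫ u'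
  have hw : w ≫ U'.ι = ι ≫ mk := by
    rw [Category.assoc, hu', ← Category.assoc]
    exact hypIso_inv_fst f
  have hoffM : EtOff B (B ⊗[A] M) := fun g hg =>
    etAway_of_isoAway (hu g hg) ((hv g hg).etale (hC g hg))
  have hR : FEt.prop (rest B R) := by
    have hR' : EtOff B R := fun g hg => (hv g hg).etale (hC g hg)
    haveI : Module.Finite B C := inferInstance
    haveI : IsIso (restMap v) := FiniteModel.isIso_restMap v hv
    rw [← MorphismProperty.cancel_left_of_respectsIso (P := FEt.prop) (inv (restMap v)),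
      show inv (restMap v) ≫ rest B R = rest B C by rw [IsIso.inv_comp_eq, restMap, pullback.lift_snd]]
    exact prop_rest C hC
  obtain ⟨e₁⟩ := nonempty_iso u hu (prop_rest (B ⊗[A] M) hoffM) hR
  obtain ⟨e₂⟩ := nonempty_iso v hv (prop_rest C hC) hR
  have hP : IsPullback (pullback.fst (sp B (B ⊗[A] M)) ι ≫
      Spec.map (CommRingCat.ofHom (Algebra.TensorProduct.includeRight : M →ₐ[A] B ⊗[A] M).toRingHom))
      (pullback.snd (sp B (B ⊗[A] M)) ι) (sp A M) (w ≫ U'.ι) := by
    rw [hw]
    have h1 := (isPullback_SpecMap_of_isPushout _ _ _ _ (CommRingCat.isPushout_tensorProduct A B M)).flip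
    exact (IsPullback.of_hasPullback (sp B (B ⊗[A] M)) ι).paste_horiz h1
  have hQ : IsPullback (pullback.fst (pullback.snd (sp A M) U'.ι) w ≫ pullback.fst (sp A M) U'.ι)
      (pullback.snd (pullback.snd (sp A M) U'.ι) w) (sp A M) (w ≫ U'.ι) :=
    (IsPullback.of_hasPullback (pullback.snd (sp A M) U'.ι) w).paste_horiz (IsPullback.of_hasPullback (sp A M) U'.ι)
  let e₀ : (FEt.restrict w).obj V' ≅ obj (B ⊗[A] M) (prop_rest (B ⊗[A] M) hoffM) :=
    MorphismProperty.Over.isoMk (hQ.isoIsPullback _ _ hP) (hQ.isoIsPullback_hom_snd _ _ hP)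
  exact ⟨restrictComp κ.hom w u' (Iso.hom_inv_id_assoc κ u').symm V' ≪≫
    (FEt.restrict κ.hom).mapIso (e₀ ≪≫ e₁.symm ≪≫ e₂ ≪≫ eC) ≪≫
    (restrictComp κ.hom κ.inv (𝟙 _) κ.hom_inv_id.symm V₀).symm ≪≫ restrictId V₀⟩

end Groth.Agent.SGA10
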