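import Groth.Agent.Pi1Ext.CechTors
import Groth.Agent.Pi1Ext.RegPurity

/-!
# Modules of sections on the punctured spectrum

A module is saturated for a finite family `G` when it is separated and compatible families of
fractions glue; a finite algebra maps isomorphically away from `G` to a saturated one.
-/

set_option autoImplicit false
set_option linter.style.haveILetI false
universe u

noncomputable section

namespace Groth.Agent.SGA10

open Groth.Agent.Pi1Ext Groth.Agent.Pi1Ext.CechTors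

variable {A : Type u} [CommRing A]

/-- No nonzero element is supported on the common zero locus of `G`. -/
def Sep (G : Finset A) (M : Type u) [AddCommGroup M] [Module A M] : Prop :=
  ∀ x : M, (∀ g : G, ∃ k : ℕ, g.1 ^ k • x = 0) → x = 0

/-- Separated, and compatible families of fractions glue. -/
structure Sat (G : Finset A) (M : Type u) [AddCommGroup M] [Module A M] : Prop where
  sep : Sep G M
  glue : ∀ (k : ℕ) (m : G → M), (∀ g h : G, h.1 ^ k • m g = g.1 ^ k • m h) → ∃ x : M, ∀ g : G, g.1 ^ k • x = m g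

variable {G : Finset A} {M N : Type u} [AddCommGroup M] [Module A M] [AddCommGroup N] [Module A N]

theorem Sat.eq_of_forall (hM : Sat G M) {x y : M} (h : ∀ g : G, ∃ k : ℕ, g.1 ^ k • x = g.1 ^ k • y) : x = y :=
  sub_eq_zero.1 (hM.sep _ fun g => (h g).imp fun k hk => by rw [smul_sub, hk, sub_self])

theorem Sat.glue' (hM : Sat G M) (k : G → ℕ) (m : G → M)
    (h : ∀ g h : G, h.1 ^ k h • m g = g.1 ^ k g • m h) : ∃ x : M, ∀ g : G, g.1 ^ k g • x = m g := by
  let K := Finset.univ.sup k
  have hK : ∀ g, k g ≤ K := fun g => Finset.le_sup (Finset.mem_univ g)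
  obtain ⟨x, hx⟩ := hM.glue K (fun g => g.1 ^ (K - k g) • m g) fun g g' => by
    calc g'.1 ^ K • g.1 ^ (K - k g) • m g
        = (g'.1 ^ (K - k g') * g.1 ^ (K - k g)) • g'.1 ^ k g' • m g := by
          rw [smul_smul, smul_smul, mul_right_comm, ← pow_add, Nat.sub_add_cancel (hK g')]
      _ = (g'.1 ^ (K - k g') * g.1 ^ (K - k g)) • g.1 ^ k g • m g' := by rw [h g g']
      _ = g.1 ^ K • g'.1 ^ (K - k g') • m g' := by
          rw [smul_smul, smul_smul, mul_assoc, ← pow_add, Nat.sub_add_cancel (hK g), mul_comm]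
  refine ⟨x, fun g => hM.eq_of_forall fun g' => ⟨K, ?_⟩⟩
  rw [smul_comm, hx g', smul_comm, ← h g g', smul_smul, ← pow_add, Nat.sub_add_cancel (hK g')]

/-- A linear map that is bijective away from every member of `G`. -/
def IsoOn (G : Finset A) (f : M →ₗ[A] N) : Prop :=
  ∀ g : G, (∀ y : N, ∃ (k : ℕ) (x : M), f x = g.1 ^ k • y) ∧ ∀ x : M, f x = 0 → ∃ k : ℕ, g.1 ^ k • x = 0

/-- Maps into a saturated module extend along isomorphisms away from `G`. -/
theorem exists_extend {P : Type u} [AddCommGroup P] [Module A P] (hP : Sat G P) {f : M →ₗ[A] N}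
    (hf : IsoOn G f) (ψ : M →ₗ[A] P) (y : N) :
    ∃! z : P, ∀ (g : G) (k : ℕ) (x : M), f x = g.1 ^ k • y → g.1 ^ k • z = ψ x := by
  choose k x hx using fun g : G => (hf g).1 y
  have hcompat : ∀ (g h : G) (a b : ℕ) (x x' : M), f x = g.1 ^ a • y → f x' = h.1 ^ b • y →
      h.1 ^ b • ψ x = g.1 ^ a • ψ x' := fun g h a b x x' e e' => by
    refine hP.eq_of_forall fun l => ?_
    obtain ⟨c, hc⟩ := (hf l).2 (h.1 ^ b • x - g.1 ^ a • x') (by
      rw [map_sub, map_smul, map_smul, e, e', smul_comm, sub_self])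
    refine ⟨c, ?_⟩
    have := congrArg ψ hc
    rw [map_smul, map_sub, map_smul, map_smul, map_zero, smul_sub, sub_eq_zero] at this
    exact this
  obtain ⟨z, hz⟩ := hP.glue' k (fun g => ψ (x g)) fun g h => hcompat g h _ _ _ _ (hx g) (hx h)
  refine ⟨z, fun g a x' e => hP.eq_of_forall fun l => ⟨k l, ?_⟩, fun z' hz' => hP.eq_of_forall fun g => ⟨k g, ?_⟩⟩
  · rw [smul_comm, hz l, hcompat l g _ _ _ _ (hx l) e]
  · rw [hz g, hz' g _ _ (hx g)]

section Algebra

variable {C R D : Type u} [CommRing C] [Algebra A C] [CommRing R] [Algebra A R] [CommRing D] [Algebra A D]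

theorem isoOn_of_isoAway {f : C →ₐ[A] R} (h : ∀ g ∈ G, RegPurity.IsoAway f g) : IsoOn G f.toLinearMap :=
  fun g => ⟨fun y => by obtain ⟨k, x, hx⟩ := (h g.1 g.2).1 y; exact ⟨k, x, hx.symm⟩, (h g.1 g.2).2⟩

/-- Algebra maps into a saturated algebra extend along isomorphisms away from `G`. -/
theorem exists_algHom_extend (hD : Sat G D) {f : C →ₐ[A] R} (hf : IsoOn G f.toLinearMap) (ψ : C →ₐ[A] D) :
    ∃ ψ' : R →ₐ[A] D, ∀ c, ψ' (f c) = ψ c := by
  choose φ hφ huniq using exists_extend hD hf ψ.toLinearMap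
  have hφf : ∀ c, φ (f c) = ψ c := fun c => Eq.symm <| huniq _ _ fun g k x hx => by
    refine hD.eq_of_forall fun l => ?_
    obtain ⟨e, he⟩ := (hf l).2 (g.1 ^ k • c - x) (by
      rw [map_sub, map_smul, AlgHom.toLinearMap_apply, ← hx, sub_self])
    refine ⟨e, ?_⟩
    have := congrArg ψ he
    rw [map_smul, map_sub, map_smul, map_zero, smul_sub, sub_eq_zero] at this
    exact this
  have key : ∀ y z, φ (y * z) = φ y * φ z := fun y z => hD.eq_of_forall fun g => by
    obtain ⟨a, x, hx⟩ := (hf g).1 y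
    obtain ⟨b, x', hx'⟩ := (hf g).1 z
    refine ⟨a + b, ?_⟩
    rw [hφ (y * z) g (a + b) (x * x') (by
        rw [AlgHom.toLinearMap_apply, map_mul, ← AlgHom.toLinearMap_apply, hx, ← AlgHom.toLinearMap_apply, hx',
          smul_mul_smul_comm, pow_add]),
      AlgHom.toLinearMap_apply, map_mul, pow_add, ← smul_mul_smul_comm, hφ y g a x hx, hφ z g b x' hx']
    rfl
  have hadd : ∀ y z, φ (y + z) = φ y + φ z := fun y z => hD.eq_of_forall fun g => by
    obtain ⟨a, x, hx⟩ := (hf g).1 y
    obtain ⟨b, x', hx'⟩ := (hf g).1 z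
    refine ⟨a + b, ?_⟩
    have e1 : g.1 ^ (a + b) • φ y = g.1 ^ b • ψ.toLinearMap x := by
      rw [pow_add, mul_comm, mul_smul, hφ y g a x hx]
    have e2 : g.1 ^ (a + b) • φ z = g.1 ^ a • ψ.toLinearMap x' := by
      rw [pow_add, mul_smul, hφ z g b x' hx']
    rw [smul_add, e1, e2, ← map_smul, ← map_smul, ← map_add]
    refine hφ (y + z) g (a + b) _ ?_
    rw [map_add, map_smul, map_smul, hx, hx', smul_smul, smul_smul, smul_add, pow_add, mul_comm (g.1 ^ b)]
  refine ⟨
    { toFun := φ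
      map_one' := by rw [← map_one f, hφf, map_one]
      map_mul' := key
      map_zero' := by rw [← map_zero f, hφf, map_zero]
      map_add' := hadd
      commutes' := fun a => by rw [← AlgHom.commutes f, hφf, AlgHom.commutes] }, hφf⟩

theorem algHom_ext (hD : Sat G D) {f : C →ₐ[A] R} (hf : IsoOn G f.toLinearMap) {ψ ψ' : R →ₐ[A] D}
    (h : ∀ c, ψ (f c) = ψ' (f c)) : ψ = ψ' := AlgHom.ext fun y => hD.eq_of_forall fun g => by
  obtain ⟨k, x, hx⟩ := (hf g).1 y
  refine ⟨k, ?_⟩
  rw [← map_smul, ← map_smul, ← hx]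
  exact h x

end Algebra

section Saturation

variable (G) (C : Type u) [CommRing C] [Algebra A C]

theorem amap_smul (g : A) (a : A) (c : C) :
    algebraMap C (Localization.Away (algebraMap A C g)) (a • c) =
      a • algebraMap C (Localization.Away (algebraMap A C g)) c :=
  map_smul (IsScalarTower.toAlgHom A C (Localization.Away (algebraMap A C g))) a c

/-- Compatible families of fractions. -/
def satAlg : Subalgebra A (∀ g : G, Localization.Away (algebraMap A C g.1)) where
  carrier := {x | ∃ (k : ℕ) (m : G → C), (∀ g h : G, h.1 ^ k • m g = g.1 ^ k • m h) ∧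
    ∀ g : G, g.1 ^ k • x g = algebraMap C (Localization.Away (algebraMap A C g.1)) (m g)}
  mul_mem' := by
    rintro x y ⟨k, m, hm, hx⟩ ⟨l, n, hn, hy⟩
    refine ⟨k + l, m * n, fun g h => ?_, fun g => ?_⟩
    · rw [Pi.mul_apply, Pi.mul_apply, pow_add, pow_add, ← smul_mul_smul_comm, ← smul_mul_smul_comm, hm, hn]
    · rw [Pi.mul_apply, Pi.mul_apply, pow_add, ← smul_mul_smul_comm, hx, hy, map_mul]
  add_mem' := by
    rintro x y ⟨k, m, hm, hx⟩ ⟨l, n, hn, hy⟩
    refine ⟨k + l, fun g => g.1 ^ l • m g + g.1 ^ k • n g, fun g h => ?_, fun g => ?_⟩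
    · rw [smul_add, smul_add, smul_smul, smul_smul, smul_smul, smul_smul,
        show h.1 ^ (k + l) * g.1 ^ l = h.1 ^ l * g.1 ^ l * h.1 ^ k by ring, mul_smul, hm,
        show h.1 ^ (k + l) * g.1 ^ k = h.1 ^ k * g.1 ^ k * h.1 ^ l by ring, mul_smul _ _ (n g), hn,
        smul_smul, smul_smul]
      congr 2 <;> ring
    · rw [Pi.add_apply, smul_add, map_add, amap_smul, amap_smul, pow_add,
        mul_comm (g.1 ^ k), mul_smul, hx, mul_comm (g.1 ^ l), mul_smul, hy]
  algebraMap_mem' a := ⟨0, fun _ => algebraMap A C a, fun g h => by simp, fun g => by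
    rw [pow_zero, one_smul, Pi.algebraMap_apply, ← IsScalarTower.algebraMap_apply]⟩

/-- The natural map into compatible families of fractions. -/
def toSat : C →ₐ[A] satAlg G C where
  toFun c := ⟨fun g => algebraMap C _ c, 0, fun _ => c, fun g h => by simp, fun g => by rw [pow_zero, one_smul]⟩
  map_one' := Subtype.ext (funext fun g => map_one _)
  map_mul' x y := Subtype.ext (funext fun g => map_mul _ _ _)
  map_zero' := Subtype.ext (funext fun g => map_zero _)
  map_add' x y := Subtype.ext (funext fun g => map_add _ _ _)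
  commutes' a := Subtype.ext (funext fun g => by
    show algebraMap C _ (algebraMap A C a) = algebraMap A _ a
    rw [← IsScalarTower.algebraMap_apply])

theorem smul_away_cancel (g : A) (k : ℕ) {x y : Localization.Away (algebraMap A C g)}
    (h : g ^ k • x = g ^ k • y) : x = y := by
  rw [← algebraMap_smul C (g ^ k) x, ← algebraMap_smul C (g ^ k) y, Algebra.smul_def, Algebra.smul_def,
    map_pow (algebraMap A C), map_pow (algebraMap C _)] at h
  exact (((IsLocalization.Away.algebraMap_isUnit (algebraMap A C g)).pow k)).mul_left_cancel h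

theorem algebraMap_away_eq_zero {g : A} {c : C}
    (h : algebraMap C (Localization.Away (algebraMap A C g)) c = 0) : ∃ k : ℕ, g ^ k • c = 0 := by
  obtain ⟨⟨_, k, rfl⟩, hk⟩ := (IsLocalization.map_eq_zero_iff (Submonoid.powers (algebraMap A C g))
    (Localization.Away (algebraMap A C g)) c).1 h
  exact ⟨k, by rw [Algebra.smul_def, map_pow]; exact hk⟩

theorem isoOn_toSat : IsoOn G (toSat G C).toLinearMap := fun g => by
  refine ⟨fun x => ?_, fun c hc => algebraMap_away_eq_zero C (congrFun (congrArg Subtype.val hc) g)⟩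
  obtain ⟨k, m, hm, hx⟩ := x.2
  refine ⟨k, m g, Subtype.ext (funext fun h => ?_)⟩
  show algebraMap C (Localization.Away (algebraMap A C h.1)) (m g) = g.1 ^ k • x.1 h
  refine smul_away_cancel C h.1 k ?_
  rw [smul_comm, hx h, ← amap_smul, ← amap_smul, hm g h]

theorem isoAway_toSat (g : A) (hg : g ∈ G) : RegPurity.IsoAway (toSat G C) g :=
  ⟨fun y => by obtain ⟨k, x, hx⟩ := (isoOn_toSat G C ⟨g, hg⟩).1 y; exact ⟨k, x, hx.symm⟩,
    (isoOn_toSat G C ⟨g, hg⟩).2⟩

theorem sat_satAlg : Sat G (satAlg G C) := by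
  refine ⟨fun x hx => Subtype.ext (funext fun g => ?_), fun k y hy => ?_⟩
  · obtain ⟨j, hj⟩ := hx g
    refine smul_away_cancel C g.1 j ?_
    exact (congrFun (congrArg Subtype.val hj) g).trans (smul_zero _).symm
  choose a m hm using fun g : G => (isoOn_toSat G C g).1 (y g)
  let K := Finset.univ.sup a
  have hK : ∀ g, a g ≤ K := fun g => Finset.le_sup (Finset.mem_univ g)
  obtain ⟨n, hn⟩ : ∃ n : G → C, ∀ g : G, (toSat G C) (n g) = g.1 ^ K • y g := ⟨fun g => g.1 ^ (K - a g) • m g,
    fun g => by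
    rw [map_smul, show (toSat G C) (m g) = g.1 ^ a g • y g from hm g, smul_smul, ← pow_add,
      Nat.sub_add_cancel (hK g)]⟩
  have h1 : ∀ g h l : G, ∃ e : ℕ, l.1 ^ e • (h.1 ^ (k + K) • n g - g.1 ^ (k + K) • n h) = 0 := fun g h l => by
    refine (isoOn_toSat G C l).2 _ ?_
    rw [map_sub, map_smul, map_smul, AlgHom.toLinearMap_apply, AlgHom.toLinearMap_apply, hn, hn, smul_smul,
      smul_smul, show h.1 ^ (k + K) * g.1 ^ K = (h.1 * g.1) ^ K * h.1 ^ k by ring,
      show g.1 ^ (k + K) * h.1 ^ K = (h.1 * g.1) ^ K * g.1 ^ k by ring, mul_smul, mul_smul _ _ (y h), hy,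
      sub_self]
  choose e he using h1
  let E := Finset.univ.sup fun p : G × G => max (e p.1 p.2 p.1) (e p.1 p.2 p.2)
  obtain ⟨q, hq', hqn⟩ : ∃ q : G → C, (∀ g h : G, h.1 ^ (k + K + E) • q g = g.1 ^ (k + K + E) • q h) ∧
      ∀ g : G, q g = g.1 ^ E • n g := by
    refine ⟨fun g => g.1 ^ E • n g, fun g h => ?_, fun _ => rfl⟩
    have hle : e g h g ≤ E := le_trans (le_max_left _ _) (Finset.le_sup
      (f := fun p : G × G => max (e p.1 p.2 p.1) (e p.1 p.2 p.2)) (Finset.mem_univ (g, h)))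
    have h2 : g.1 ^ E • (h.1 ^ (k + K) • n g - g.1 ^ (k + K) • n h) = 0 := by
      rw [← Nat.sub_add_cancel hle, pow_add, mul_smul, he, smul_zero]
    have h3 := congrArg (h.1 ^ E • ·) h2
    simp only [smul_zero, smul_sub, smul_smul, sub_eq_zero] at h3
    rw [smul_smul, smul_smul]
    refine Eq.trans (Eq.trans ?_ h3) ?_ <;> congr 1 <;> ring
  let x : ∀ g : G, Localization.Away (algebraMap A C g.1) := fun g =>
    IsLocalization.mk' _ (q g) (⟨algebraMap A C g.1 ^ (k + K + E), _, rfl⟩ : Submonoid.powers (algebraMap A C g.1))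
  have hx : ∀ g : G, g.1 ^ (k + K + E) • x g = algebraMap C _ (q g) := fun g => by
    rw [← algebraMap_smul C, Algebra.smul_def, map_pow (algebraMap A C)]
    exact IsLocalization.mk'_spec' (M := Submonoid.powers (algebraMap A C g.1)) (Localization.Away (algebraMap A C g.1)) (q g) ⟨algebraMap A C g.1 ^ (k + K + E), _, rfl⟩
  have hmem : x ∈ satAlg G C := ⟨k + K + E, q, hq', hx⟩
  refine ⟨⟨x, hmem⟩, fun g => Subtype.ext (funext fun h => smul_away_cancel C h.1 (K + E) ?_)⟩
  have e1 : h.1 ^ (K + E) • (y h).1 h = algebraMap C _ (q h) := by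
    rw [hqn, amap_smul, pow_add, mul_comm, mul_smul]
    exact congrArg (h.1 ^ E • ·) (congrFun (congrArg Subtype.val (hn h)) h).symm
  have e2 : h.1 ^ k • (y g).1 h = g.1 ^ k • (y h).1 h := congrFun (congrArg Subtype.val (hy g h)) h
  show h.1 ^ (K + E) • g.1 ^ k • x h = h.1 ^ (K + E) • (y g).1 h
  refine smul_away_cancel C h.1 k ?_
  rw [smul_smul, smul_smul, smul_smul, show h.1 ^ k * h.1 ^ (K + E) * g.1 ^ k = g.1 ^ k * h.1 ^ (k + K + E) by ring,
    mul_smul, hx, ← e1, mul_comm (h.1 ^ k), mul_smul _ _ ((y g).1 h), e2, smul_comm]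

end Saturation

end Groth.Agent.SGA10
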