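import Groth.Agent.SGA10.Limit

/-!
# A tower from one-step reductions
-/

set_option autoImplicit false
set_option linter.style.haveILetI false
universe u

noncomputable section

namespace Groth.Agent.SGA10

variable {B : Type u} [CommRing B] {G : Finset B} {t : B} {D : ℕ → Type u} [∀ n, CommRing (D n)]
  [∀ n, Algebra B (D n)] (r : ∀ n, D (n + 1) →ₐ[B] D n)

/-- The composite of the reductions. -/
def comps {m n : ℕ} (h : m ≤ n) : D n →ₐ[B] D m :=
  Nat.leRecOn (C := fun k => D k →ₐ[B] D m) h (fun {k} f => f.comp (r k)) (AlgHom.id B (D m))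

theorem comps_self (n : ℕ) (x : D n) : comps r (le_refl n) x = x := by
  rw [comps, Nat.leRecOn_self]; rfl

theorem comps_succ {m n : ℕ} (h : m ≤ n) (x : D (n + 1)) :
    comps r (Nat.le_succ_of_le h) x = comps r h (r n x) := by
  rw [comps, Nat.leRecOn_succ h]; rfl

theorem comps_trans {l m n : ℕ} (h : l ≤ m) (h' : m ≤ n) (x : D n) :
    comps r h (comps r h' x) = comps r (h.trans h') x := by
  induction n, h' using Nat.le_induction with
  | base => rw [comps_self]
  | succ n hn ih => rw [comps_succ r hn, comps_succ r (h.trans hn), ih]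

/-- The tower given by one-step reductions. -/
def Tower.ofSteps (tors : ∀ n (x : D n), t ^ (n + 1) • x = 0) (sat : ∀ n, Sat G (D n))
    (surj : ∀ n (g : G) (y : D n), ∃ (k : ℕ) (x : D (n + 1)), r n x = g.1 ^ k • y)
    (ker : ∀ n (g : G) (x : D (n + 1)), r n x = 0 → ∃ (k : ℕ) (z : D (n + 1)), g.1 ^ k • x = t ^ (n + 1) • z)
    (reg : ∀ n a b (_ : a + b = n + 1) (g : G) (x : D n), t ^ a • x = 0 →
      ∃ (k : ℕ) (z : D n), g.1 ^ k • x = t ^ b • z) : Tower G t where
  D := D
  ρ m n h := comps r h
  ρ_self n x := comps_self r n x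
  ρ_trans l m n h h' x := comps_trans r h h' x
  tors := tors
  sat := sat
  reg := reg
  surj m n h g y := by
    induction n, h using Nat.le_induction with
    | base => exact ⟨0, y, by rw [comps_self, pow_zero, one_smul]⟩
    | succ n hn ih =>
      obtain ⟨k, x, hx⟩ := ih
      obtain ⟨j, w, hw⟩ := surj n g x
      exact ⟨j + k, w, by rw [comps_succ r hn, hw, map_smul, hx, smul_smul, ← pow_add]⟩
  ker m n h g x hx := by
    induction n, h using Nat.le_induction with
    | base => exact ⟨0, 0, by rw [pow_zero, one_smul, smul_zero, ← comps_self r m x, hx]⟩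
    | succ n hn ih =>
      rw [comps_succ r hn] at hx
      obtain ⟨k, z, hz⟩ := ih _ hx
      obtain ⟨j, w, hw⟩ := surj n g z
      have h1 : r n (g.1 ^ (j + k) • x - t ^ (m + 1) • w) = 0 := by
        rw [map_sub, map_smul, map_smul, hw, pow_add, mul_smul, hz, smul_comm, sub_self]
      obtain ⟨l, v, hv⟩ := ker n g _ h1
      refine ⟨l + (j + k), g.1 ^ l • w + t ^ (n - m) • v, ?_⟩
      rw [smul_sub, sub_eq_iff_eq_add, smul_smul, ← pow_add] at hv
      have he : t ^ (m + 1) * t ^ (n - m) = t ^ (n + 1) := by rw [← pow_add]; congr 1; omega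
      rw [hv, smul_add, smul_smul (t ^ (m + 1)) (t ^ (n - m)), he, smul_comm (t ^ (m + 1)) (g.1 ^ l) w]
      exact add_comm _ _

end Groth.Agent.SGA10
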