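import Groth.Agent.SGA10.Cech
import Groth.Agent.SGA11.Alg

/-!
# A compatible system of algebras on the thickenings of a punctured hypersurface and its limit
-/

set_option autoImplicit false
set_option linter.style.haveILetI false
universe u

noncomputable section

namespace Groth.Agent.SGA10

open Groth.Agent.Pi1Ext.CechTors

variable {B : Type u} [CommRing B]

/-- Saturated algebras of order `n` in `t` with reductions, exact away from `G`. -/
structure Tower (G : Finset B) (t : B) where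
  D : ℕ → Type u
  [ring : ∀ n, CommRing (D n)]
  [alg : ∀ n, Algebra B (D n)]
  ρ : ∀ m n, m ≤ n → D n →ₐ[B] D m
  ρ_self : ∀ n (x : D n), ρ n n le_rfl x = x
  ρ_trans : ∀ l m n (h : l ≤ m) (h' : m ≤ n) (x : D n), ρ l m h (ρ m n h' x) = ρ l n (h.trans h') x
  tors : ∀ n (x : D n), t ^ (n + 1) • x = 0
  sat : ∀ n, Sat G (D n)
  surj : ∀ m n (h : m ≤ n) (g : G) (y : D m), ∃ (k : ℕ) (x : D n), ρ m n h x = g.1 ^ k • y
  ker : ∀ m n (h : m ≤ n) (g : G) (x : D n), ρ m n h x = 0 → ∃ (k : ℕ) (z : D n), g.1 ^ k • x = t ^ (m + 1) • z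
  reg : ∀ n a b (_ : a + b = n + 1) (g : G) (x : D n), t ^ a • x = 0 → ∃ (k : ℕ) (z : D n), g.1 ^ k • x = t ^ b • z

attribute [instance] Tower.ring Tower.alg

namespace Tower

variable {G : Finset B} {t : B} (T : Tower G t)

theorem pow_smul_eq_zero {n a : ℕ} (h : n + 1 ≤ a) (x : T.D n) : t ^ a • x = 0 := by
  rw [← Nat.sub_add_cancel h, pow_add, mul_smul, T.tors, smul_zero]

theorem ρ_eq_zero_of_smul {m n : ℕ} (h : m ≤ n) {x : T.D n} (hx : t ^ (n - m) • x = 0) : T.ρ m n h x = 0 := by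
  refine (T.sat m).sep _ fun g => ?_
  obtain ⟨k, z, hz⟩ := T.reg n (n - m) (m + 1) (by omega) g x hx
  exact ⟨k, by rw [← map_smul, hz, map_smul, T.tors]⟩

theorem smul_eq_zero_of_ρ {m n : ℕ} (h : m ≤ n) {x : T.D n} (hx : T.ρ m n h x = 0) : t ^ (n - m) • x = 0 := by
  refine (T.sat n).sep _ fun g => ?_
  obtain ⟨k, z, hz⟩ := T.ker m n h g x hx
  exact ⟨k, by rw [smul_comm, hz, smul_smul, ← pow_add]; exact T.pow_smul_eq_zero (by omega) z⟩

theorem existsUnique_up {m n : ℕ} (h : m ≤ n) (y : T.D m) :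
    ∃! x : T.D n, ∀ (g : G) (k : ℕ) (z : T.D n), T.ρ m n h z = g.1 ^ k • y → g.1 ^ k • x = t ^ (n - m) • z := by
  choose k z hz using fun g => T.surj m n h g y
  have hind : ∀ (g g' : G) (a b : ℕ) (w w' : T.D n), T.ρ m n h w = g.1 ^ a • y → T.ρ m n h w' = g'.1 ^ b • y →
      g'.1 ^ b • t ^ (n - m) • w = g.1 ^ a • t ^ (n - m) • w' := fun g g' a b w w' hw hw' => by
    have h1 : T.ρ m n h (g'.1 ^ b • w - g.1 ^ a • w') = 0 := by
      rw [map_sub, map_smul, map_smul, hw, hw', smul_comm, sub_self]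
    have h2 := T.smul_eq_zero_of_ρ h h1
    rw [smul_sub, sub_eq_zero, smul_comm, smul_comm _ (g.1 ^ a)] at h2
    exact h2
  obtain ⟨x, hx⟩ := (T.sat n).glue' k (fun g => t ^ (n - m) • z g) fun g g' => hind g g' _ _ _ _ (hz g) (hz g')
  refine ⟨x, fun g a w hw => (T.sat n).eq_of_forall fun g' => ⟨k g', ?_⟩, fun x' hx' => (T.sat n).eq_of_forall
    fun g => ⟨k g, by rw [hx g, hx' g _ _ (hz g)]⟩⟩
  rw [smul_comm, hx g', hind g' g _ _ _ _ (hz g') hw]

/-- Multiplication by a power of `t` from a lower to a higher order. -/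
def up {m n : ℕ} (h : m ≤ n) : T.D m →ₗ[B] T.D n where
  toFun y := (T.existsUnique_up h y).choose
  map_add' y y' := ((T.existsUnique_up h (y + y')).choose_spec.2 _ fun g k z hz => by
    obtain ⟨a, w, hw⟩ := T.surj m n h g y
    obtain ⟨b, w', hw'⟩ := T.surj m n h g y'
    refine (T.sat n).eq_of_forall fun g' => ?_
    obtain ⟨c, v, hv⟩ := T.surj m n h g' y
    obtain ⟨d, v', hv'⟩ := T.surj m n h g' y'
    refine ⟨c + d, ?_⟩
    have e1 := (T.existsUnique_up h y).choose_spec.1 g' c v hv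
    have e2 := (T.existsUnique_up h y').choose_spec.1 g' d v' hv'
    have h1 : T.ρ m n h (g'.1 ^ (c + d) • z - (g.1 ^ k • g'.1 ^ d • v + g.1 ^ k • g'.1 ^ c • v')) = 0 := by
      rw [map_sub, map_add, map_smul, map_smul, map_smul, map_smul, map_smul, hz, hv, hv', pow_add, smul_smul,
        smul_smul, smul_smul, smul_smul, smul_smul, smul_add, sub_eq_zero]
      congr 2 <;> ring
    have h2 := T.smul_eq_zero_of_ρ h h1
    rw [smul_sub, sub_eq_zero, smul_comm, smul_add] at h2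
    rw [h2, smul_add, smul_add, smul_comm (t ^ (n - m)) (g.1 ^ k), smul_comm (t ^ (n - m)) (g'.1 ^ d), ← e1,
      smul_comm (t ^ (n - m)) (g.1 ^ k), smul_comm (t ^ (n - m)) (g'.1 ^ c), ← e2]
    simp only [smul_smul]
    congr 2 <;> ring).symm
  map_smul' r y := ((T.existsUnique_up h (r • y)).choose_spec.2 _ fun g k z hz => by
    refine (T.sat n).eq_of_forall fun g' => ?_
    obtain ⟨c, v, hv⟩ := T.surj m n h g' y
    refine ⟨c, ?_⟩
    have e1 := (T.existsUnique_up h y).choose_spec.1 g' c v hv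
    have h1 : T.ρ m n h (g'.1 ^ c • z - g.1 ^ k • r • v) = 0 := by
      rw [map_sub, map_smul, map_smul, map_smul, hz, hv, sub_eq_zero, smul_smul, smul_smul, smul_smul, smul_smul]
      congr 1; ring
    have h2 := T.smul_eq_zero_of_ρ h h1
    rw [smul_sub, sub_eq_zero, smul_comm] at h2
    rw [h2, RingHom.id_apply, smul_comm (t ^ (n - m)) (g.1 ^ k), smul_comm (t ^ (n - m)) r, ← e1]
    simp only [smul_smul]
    congr 1; ring).symm

theorem up_spec {m n : ℕ} (h : m ≤ n) (y : T.D m) (g : G) (k : ℕ) (z : T.D n)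
    (hz : T.ρ m n h z = g.1 ^ k • y) : g.1 ^ k • T.up h y = t ^ (n - m) • z :=
  (T.existsUnique_up h y).choose_spec.1 g k z hz

theorem up_ρ {m n : ℕ} (h : m ≤ n) (x : T.D n) : T.up h (T.ρ m n h x) = t ^ (n - m) • x :=
  (T.sat n).eq_of_forall fun g => ⟨0, by
    rw [T.up_spec h _ g 0 x (by rw [pow_zero, one_smul]), pow_zero, one_smul]⟩

theorem up_injective {m n : ℕ} (h : m ≤ n) {y : T.D m} (hy : T.up h y = 0) : y = 0 := by
  refine (T.sat m).sep _ fun g => ?_
  obtain ⟨k, z, hz⟩ := T.surj m n h g y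
  refine ⟨k, ?_⟩
  rw [← hz]
  refine T.ρ_eq_zero_of_smul h ?_
  rw [← T.up_spec h y g k z hz, hy, smul_zero]

theorem up_trans {l m n : ℕ} (h : l ≤ m) (h' : m ≤ n) (y : T.D l) : T.up h' (T.up h y) = T.up (h.trans h') y := by
  refine (T.sat n).eq_of_forall fun g => ?_
  obtain ⟨k, z, hz⟩ := T.surj l n (h.trans h') g y
  refine ⟨k, ?_⟩
  rw [T.up_spec _ y g k z hz, ← map_smul, T.up_spec h y g k (T.ρ m n h' z) (by rw [T.ρ_trans, hz]), map_smul,
    T.up_ρ, smul_smul, ← pow_add, show m - l + (n - m) = n - l by omega]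

/-- Reducing an element raised from a lower order far enough gives zero. -/
theorem ρ_up_eq_zero {c d b : ℕ} (h : c ≤ d) (hb : b ≤ d) (hbc : b + c + 1 ≤ d) (y : T.D c) :
    T.ρ b d hb (T.up h y) = 0 := by
  refine (T.sat b).sep _ fun g => ?_
  obtain ⟨k, z, hz⟩ := T.surj c d h g y
  refine ⟨k, ?_⟩
  rw [← map_smul, T.up_spec h y g k z hz, map_smul]
  exact T.pow_smul_eq_zero (by omega) _

theorem exists_up_eq {a m n : ℕ} (h : a ≤ n) (hm : m ≤ n) (he : n - a = m + 1) {x : T.D n}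
    (hx : T.ρ m n hm x = 0) : ∃ y, T.up h y = x := by
  choose k z hz using fun g => T.ker m n hm g x hx
  have hkey : ∀ g, T.up h (T.ρ a n h (z g)) = g.1 ^ k g • x := fun g => by rw [T.up_ρ, he, hz]
  obtain ⟨y, hy⟩ := (T.sat a).glue' k (fun g => T.ρ a n h (z g)) fun g g' => sub_eq_zero.1 <| T.up_injective h (by
    rw [map_sub, map_smul, map_smul, hkey, hkey, smul_comm, sub_self])
  refine ⟨y, (T.sat n).eq_of_forall fun g => ⟨k g, ?_⟩⟩
  rw [← map_smul, hy, hkey]

/-! ### The obstructions -/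

/-- Obstructions to lifting from order `n` to order `n + 1`. -/
def obs (n : ℕ) : Submodule B (P1 G (T.D 0)) :=
  (LinearMap.range (δ G : P0 G (T.D (n + 1)) →ₗ[B] P1 G (T.D (n + 1)))).comap
    (P1map (T.up (Nat.zero_le (n + 1))))

theorem mem_obs {n : ℕ} {c : P1 G (T.D 0)} :
    c ∈ T.obs n ↔ ∃ e, δ G e = P1map (T.up (Nat.zero_le (n + 1))) c := Iff.rfl

theorem range_le_obs (n : ℕ) : LinearMap.range (δ G : P0 G (T.D 0) →ₗ[B] P1 G (T.D 0)) ≤ T.obs n := by
  rintro _ ⟨b, rfl⟩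
  exact ⟨P0map (T.up (Nat.zero_le (n + 1))) b, δ_P0map _ b⟩

theorem P1map_comp {M N P : Type u} [AddCommGroup M] [Module B M] [AddCommGroup N] [Module B N] [AddCommGroup P]
    [Module B P] (f : M →ₗ[B] N) (f' : N →ₗ[B] P) (x : P1 G M) : P1map f' (P1map f x) = P1map (f'.comp f) x :=
  funext fun _ => funext fun _ => (lmap_comp _ f f' _).symm

theorem obs_le_succ (n : ℕ) : T.obs n ≤ T.obs (n + 1) := by
  rintro c ⟨e, he⟩
  refine ⟨P0map (T.up (Nat.le_succ (n + 1))) e, ?_⟩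
  rw [δ_P0map, he, P1map_comp]
  congr 2
  exact LinearMap.ext fun y => T.up_trans _ _ y

variable [IsNoetherianRing B]

theorem exists_diag_ρ {n : ℕ} {e : P0 G (T.D (n + 1))} {c : P1 G (T.D 0)}
    (he : δ G e = P1map (T.up (Nat.zero_le (n + 1))) c) :
    ∃ x, diag G x = P0map (T.ρ n (n + 1) n.le_succ).toLinearMap e := by
  refine exists_diag_of_δ_eq_zero (T.sat n) ?_
  rw [δ_P0map, he, P1map_comp]
  refine funext fun g => funext fun h => lmap_zero_of (LinearMap.ext fun y => ?_) _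
  exact T.ρ_up_eq_zero _ _ (by omega) y

theorem obs_le_Z1 (n : ℕ) : T.obs n ≤ Z1 G (T.D 0) := by
  rintro c ⟨e, he⟩ g
  obtain ⟨x, hx⟩ := T.exists_diag_ρ he
  obtain ⟨k, z, hz⟩ := T.surj n (n + 1) n.le_succ g x
  have h1 : P0map (T.ρ n (n + 1) n.le_succ).toLinearMap (g.1 ^ k • e - diag G z) = 0 := by
    rw [map_sub, map_smul, ← hx, P0map_diag, AlgHom.toLinearMap_apply, hz, map_smul, sub_self]
  obtain ⟨b, hb⟩ := exact_P0map (f := T.up (Nat.zero_le (n + 1)))
    (fun y hy => T.exists_up_eq (a := 0) (m := n) (Nat.zero_le _) n.le_succ (by omega) hy) h1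
  refine ⟨k, b, P1map_injective (f := T.up (Nat.zero_le (n + 1))) (fun y hy => T.up_injective _ hy) ?_⟩
  rw [← δ_P0map, hb, map_sub, map_smul, δ_diag, sub_zero, he, map_smul]

theorem exists_obs_stable [IsNoetherian B (H1 G (T.D 0))] : ∃ N, ∀ n, T.obs n ≤ T.obs N :=
  exists_stable_chain ⟨T.obs, monotone_nat_of_le_succ T.obs_le_succ⟩ T.obs_le_Z1 (T.range_le_obs 0)

/-- Past the stable order every element lifts one order up to a change at a high level. -/
theorem exists_step {N : ℕ} (hN : ∀ n, T.obs n ≤ T.obs N) {n : ℕ} (hn : N ≤ n) (x : T.D n) :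
    ∃ w : T.D (n + 1), ∀ j (hj : j ≤ n), j + N + 1 ≤ n → T.ρ j (n + 1) (by omega) w = T.ρ j n hj x := by
  obtain ⟨e, he⟩ : ∃ e, P0map (T.ρ n (n + 1) n.le_succ).toLinearMap e = diag G x := by
    choose e he using fun g : G =>
      lmap_surjective (g := g.1) (f := (T.ρ n (n + 1) n.le_succ).toLinearMap) (T.surj n (n + 1) n.le_succ g)
        (diag G x g)
    exact ⟨e, funext he⟩
  have hδ : P1map (T.ρ n (n + 1) n.le_succ).toLinearMap (δ G e) = 0 := by rw [← δ_P0map, he, δ_diag]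
  obtain ⟨c, hc⟩ : ∃ c, P1map (T.up (Nat.zero_le (n + 1))) c = δ G e := by
    have hg : ∀ g h : G, ∃ c, lmap (g.1 * h.1) (T.up (Nat.zero_le (n + 1))) c = δ G e g h := fun g h => by
      obtain ⟨k, m, hkm⟩ := exists_frac (δ G e g h)
      have h1 := congrFun (congrFun hδ g) h
      rw [P1map_apply, hkm, lmap_frac, show (0 : P1 G (T.D n)) g h = frac (g.1 * h.1) 0 (0 : T.D n) from
        (LocalizedModule.zero_mk _).symm, frac_eq_frac] at h1
      obtain ⟨j, hj⟩ := h1
      rw [pow_zero, one_smul, smul_zero, smul_zero, ← map_smul] at hj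
      obtain ⟨y, hy⟩ := T.exists_up_eq (a := 0) (m := n) (Nat.zero_le _) n.le_succ (by omega) hj
      refine ⟨frac (g.1 * h.1) (k + j) y, ?_⟩
      rw [lmap_frac, hy, hkm, frac_eq_frac]
      exact ⟨0, by rw [smul_smul ((g.1 * h.1) ^ k), ← pow_add]⟩
    choose c hc using hg
    exact ⟨c, funext fun g => funext fun h => hc g h⟩
  obtain ⟨e', he'⟩ := hN n (show c ∈ T.obs n from ⟨e, hc.symm⟩)
  obtain ⟨y, hy⟩ := T.exists_diag_ρ he'
  have h1 : δ G (e - P0map (T.up (show N + 1 ≤ n + 1 by omega)) e') = 0 := by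
    rw [map_sub, δ_P0map, he', P1map_comp, show (T.up (show N + 1 ≤ n + 1 by omega)).comp
      (T.up (Nat.zero_le (N + 1))) = T.up (Nat.zero_le (n + 1)) from LinearMap.ext fun y => T.up_trans _ _ y, hc,
      sub_self]
  obtain ⟨w, hw⟩ := exists_diag_of_δ_eq_zero (T.sat (n + 1)) h1
  have hdiag : ∀ {a : ℕ} {u v : T.D a}, diag G u = diag G v → u = v := fun {a u v} h =>
    (T.sat a).eq_of_forall fun g => by
      have := congrFun h g
      obtain ⟨⟨_, k, rfl⟩, hk⟩ := LocalizedModule.mk_eq.1 this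
      exact ⟨k, by simpa [Submonoid.smul_def] using hk⟩
  have hcomm : ∀ z : T.D (N + 1), T.ρ n (n + 1) n.le_succ (T.up (show N + 1 ≤ n + 1 by omega) z) =
      T.up hn (T.ρ N (N + 1) N.le_succ z) := fun z => by
    refine (T.sat n).eq_of_forall fun g => ?_
    obtain ⟨k, v, hv⟩ := T.surj (N + 1) (n + 1) (by omega) g z
    refine ⟨k, ?_⟩
    rw [← map_smul, T.up_spec _ z g k v hv, map_smul,
      T.up_spec hn _ g k (T.ρ n (n + 1) n.le_succ v) (by rw [T.ρ_trans, ← map_smul, ← hv, T.ρ_trans]),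
      Nat.add_sub_add_right]
  have hwx : T.ρ n (n + 1) n.le_succ w = x - T.up hn y := by
    refine hdiag ?_
    rw [map_sub, ← P0map_diag, ← AlgHom.toLinearMap_apply, ← P0map_diag, hw, map_sub, he, hy]
    congr 1
    refine funext fun g => ?_
    rw [P0map_apply, P0map_apply, P0map_apply, P0map_apply, ← lmap_comp, ← lmap_comp]
    exact DFunLike.congr_fun (congrArg (lmap g.1) (LinearMap.ext hcomm)) _
  refine ⟨w, fun j hj hjn => ?_⟩
  rw [← T.ρ_trans j n (n + 1) hj n.le_succ, hwx, map_sub, T.ρ_up_eq_zero hn hj (by omega), sub_zero]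

theorem exists_compatible {N : ℕ} (hN : ∀ n, T.obs n ≤ T.obs N) (x : T.D (N + 1)) :
    ∃ s : ∀ i, T.D i, (∀ i, T.ρ i (i + 1) i.le_succ (s (i + 1)) = s i) ∧
      s 0 = T.ρ 0 (N + 1) (Nat.zero_le _) x := by
  let w : ∀ i, T.D (N + 1 + i) := fun i =>
    Nat.rec x (fun i a => (T.exists_step hN (show N ≤ N + 1 + i by omega) a).choose) i
  refine ⟨fun i => T.ρ i (N + 1 + i) (by omega) (w i), fun i => ?_, rfl⟩
  rw [T.ρ_trans]
  exact (T.exists_step hN (show N ≤ N + 1 + i by omega) (w i)).choose_spec i (by omega) (by omega)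

end Tower

end Groth.Agent.SGA10
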